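import Cfsg.Agent.Block.STComb
import Cfsg.Agent.Char.TwentySeven

/-! The arithmetic of the exceptional characters in the case of `2`-rank one. -/

set_option autoImplicit false

namespace Cfsg.Agent.Bender

open Finset

variable {X ι : Type*} [Fintype X] [Fintype ι]

theorem const9 {m B : ℤ} (a c x : X → ℤ) (ha : ∀ χ, 0 ≤ a χ)
    (hx : ∀ χ, a χ ≠ 0 → 0 < x χ ∧ m ∣ 2 * x χ + c χ) (hB : ∑ χ, c χ ^ 2 ≤ B) (hm : 0 < m)
    (hm' : B < m * m) : ∃ W Z : ℤ, 0 ≤ W ∧ 0 ≤ Z ∧ m * W = 2 * ∑ χ, a χ * x χ + ∑ χ, a χ * c χ ∧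
      ∑ χ, a χ ^ 2 ≤ W ^ 2 + Z ^ 2 ∧ (Z = 0 → ∑ χ, a χ ≤ W) ∧
      ∀ β, 0 ≤ β → W * β - 2 * Z < ∑ χ, a χ * c χ →
        (β + 1) ^ 2 ≤ B ∧ (Z ≠ 0 → (β + 1) ^ 2 + 4 ≤ B) := by
  classical
  have hc : ∀ χ, c χ ^ 2 ≤ B := fun χ =>
    (single_le_sum (f := fun χ => c χ ^ 2) (fun _ _ => sq_nonneg _) (mem_univ χ)).trans hB
  have : ∀ χ, ∃ w z : ℤ, m * (a χ * w) = a χ * (2 * x χ + c χ) ∧
      (z = 0 ∧ a χ ≤ a χ * w ∨ z = a χ ∧ a χ ≠ 0 ∧ w = 0 ∧ c χ ≤ -2) := fun χ => by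
    by_cases h : a χ = 0
    · exact ⟨0, 0, by simp [h], Or.inl ⟨rfl, by simp [h]⟩⟩
    obtain ⟨h1, w, hw⟩ := hx χ h
    have h2 := hc χ
    have h3 : 0 ≤ w := by
      by_contra! e
      have : c χ ≤ -m := by nlinarith
      nlinarith
    rcases h3.eq_or_lt with e | e
    · exact ⟨w, a χ, by rw [hw]; ring, Or.inr ⟨rfl, h, e.symm, by subst e; omega⟩⟩
    · exact ⟨w, 0, by rw [hw]; ring, Or.inl ⟨rfl, by nlinarith [ha χ]⟩⟩
  choose w z h1 h2 using this
  have h3 : ∀ χ, 0 ≤ a χ * w χ := fun χ => by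
    rcases h2 χ with e | e
    · exact (ha χ).trans e.2
    · simp [e.2.2.1]
  have h4 : ∀ χ, 0 ≤ z χ := fun χ => by
    rcases h2 χ with e | e
    · exact e.1.ge
    · exact e.1 ▸ ha χ
  have h5 := fun χ => single_le_sum (f := fun χ => a χ * w χ) (fun χ _ => h3 χ) (mem_univ χ)
  have h6 := fun χ => single_le_sum (f := z) (fun χ _ => h4 χ) (mem_univ χ)
  refine ⟨∑ χ, a χ * w χ, ∑ χ, z χ, sum_nonneg fun χ _ => h3 χ, sum_nonneg fun χ _ => h4 χ, ?_, ?_,
    fun e => sum_le_sum fun χ _ => ?_, fun β hβ e => ?_⟩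
  · rw [mul_sum, mul_sum, ← sum_add_distrib]
    exact sum_congr rfl fun χ _ => by rw [h1]; ring
  · rw [sq (∑ χ, a χ * w χ), sq (∑ χ, z χ), sum_mul, sum_mul, ← sum_add_distrib]
    refine sum_le_sum fun χ _ => ?_
    have := h5 χ
    have := h6 χ
    have := ha χ
    rcases h2 χ with e | e
    · rw [e.1]; nlinarith [e.2]
    · rw [e.2.2.1, e.1]; nlinarith [e.1 ▸ h6 χ]
  · rcases h2 χ with e' | e'
    · exact e'.2
    · have := h6 χ
      have := ha χ
      omega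
  · obtain ⟨χ, -, hχ⟩ : ∃ χ ∈ univ, a χ * w χ * β - 2 * z χ < a χ * c χ := by
      refine exists_lt_of_sum_lt ?_
      rwa [sum_sub_distrib, ← sum_mul, ← mul_sum]
    have h7 : β + 1 ≤ c χ := by
      have := ha χ
      by_contra! e
      rcases h2 χ with e' | e'
      · rw [e'.1] at hχ; nlinarith [e'.2]
      · rw [e'.1, e'.2.2.1] at hχ; nlinarith [e'.2.2.2]
    refine ⟨by nlinarith [hc χ], fun e => ?_⟩
    obtain ⟨ψ, -, hψ⟩ := exists_ne_zero_of_sum_ne_zero e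
    have h8 := ((h2 ψ).resolve_left fun e => hψ e.1).2.2.2
    have := Block.sq_add_sq_le (u := c) (i := χ) (j := ψ) (by rintro rfl; omega)
    nlinarith

theorem exists_exc [DecidableEq X] [DecidableEq ι] (v : ι → X → ℤ) (deg : X → ℕ) (hd : ∀ χ, 0 < deg χ)
    {w : ℤ} (hG : ∀ i j, ∑ χ, v i χ * v j χ = w + if i = j then 1 else 0)
    (h0 : ∀ i, ∑ χ, (deg χ : ℤ) * v i χ = 0) (h2 : 1 < Fintype.card ι) :
    ∃ (ε : ℤ) (ζ : ι → X) (c : X → ℤ), (ε = 1 ∨ ε = -1) ∧ Function.Injective ζ ∧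
      ∀ i χ, v i χ = c χ + if χ = ζ i then ε else 0 := by
  have : Nontrivial ι := Fintype.one_lt_card_iff_nontrivial.1 h2
  obtain ⟨o⟩ : Nonempty ι := inferInstance
  have hI : ∀ i j, i ≠ o → j ≠ o → ∑ χ, (v i χ - v o χ) * (v j χ - v o χ) =
      1 + if i = j then 1 else 0 := fun i j hi hj => by
    simp only [sub_mul, mul_sub, sum_sub_distrib, hG, hi, hj.symm, if_true, if_false]
    ring
  have : ∀ i, ∃ p q, i ≠ o → p ≠ q ∧
      ∀ χ, v i χ - v o χ = (if χ = p then 1 else 0) - if χ = q then 1 else 0 := fun i => by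
    by_cases hi : i = o
    · obtain ⟨j, hj⟩ := exists_ne o
      obtain ⟨p, q, -⟩ := Char.int_norm_two (fun χ => v j χ - v o χ) deg hd
        (by simpa [sq] using hI j j hj hj) (by simp [mul_sub, h0])
      exact ⟨p, q, fun e => absurd hi e⟩
    obtain ⟨p, q, h1, -, h3⟩ := Char.int_norm_two (fun χ => v i χ - v o χ) deg hd
      (by simpa [sq] using hI i i hi hi) (by simp [mul_sub, h0])
    exact ⟨p, q, fun _ => ⟨h1, h3⟩⟩
  choose p q hpq using this
  have key : ∀ i j, i ≠ o → j ≠ o → i ≠ j → (p i = p j ∧ q i ≠ q j) ∨ (q i = q j ∧ p i ≠ p j) := by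
    intro i j hi hj hij
    have := hI i j hi hj
    simp only [(hpq i hi).2, (hpq j hj).2, hij, if_false, sub_mul, ite_mul, one_mul, zero_mul,
      sum_sub_distrib, sum_ite_eq', mem_univ, if_true] at this
    by_cases e1 : p i = p j <;> by_cases e2 : q i = q j <;> simp only [e1, e2, ne_eq,
      not_true_eq_false, not_false_eq_true, and_true, and_false, or_false, or_true, or_self]
    · simp [e1, e2, (hpq j hj).1, (hpq j hj).1.symm] at this
    · simp only [e1, e2, if_false] at this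
      split_ifs at this <;> omega
  obtain ⟨j, hj⟩ := exists_ne o
  by_cases hq : ∀ i, i ≠ o → q i = q j
  · refine ⟨1, fun i => if i = o then q j else p i, fun χ => v o χ - if χ = q j then 1 else 0,
      Or.inl rfl, fun i k e => by_contra fun hik => ?_, fun i χ => ?_⟩
    · by_cases hi : i = o <;> by_cases hk : k = o <;> simp only [hi, hk, if_true, if_false] at e
      · exact hik (hi.trans hk.symm)
      · exact (hpq k hk).1 (e.symm.trans (hq k hk).symm)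
      · exact (hpq i hi).1 (e.trans (hq i hi).symm)
      · rcases key i k hi hk hik with e' | e'
        exacts [e'.2 ((hq i hi).trans (hq k hk).symm), e'.2 e]
    · by_cases hi : i = o
      · simp [hi]
      · have := (hpq i hi).2 χ
        simp only [hi, if_false, hq i hi] at this ⊢
        omega
  push Not at hq
  obtain ⟨k, hk, hkj⟩ := hq
  have hkj' : k ≠ j := fun e => hkj (e ▸ rfl)
  have h3 := ((key k j hk hj hkj').resolve_right fun e => hkj e.1).1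
  have hp : ∀ i, i ≠ o → p i = p j := fun i hi => by_contra fun e => by
    have e1 := ((key i j hi hj fun e' => e (e' ▸ rfl)).resolve_left fun e' => e e'.1).1
    have e2 := ((key i k hi hk fun e' => e (e' ▸ h3)).resolve_left fun e' => e (e'.1.trans h3)).1
    exact hkj (e2.symm.trans e1)
  refine ⟨-1, fun i => if i = o then p j else q i, fun χ => v o χ + if χ = p j then 1 else 0,
    Or.inr rfl, fun i k e => by_contra fun hik => ?_, fun i χ => ?_⟩
  · by_cases hi : i = o <;> by_cases hk : k = o <;> simp only [hi, hk, if_true, if_false] at e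
    · exact hik (hi.trans hk.symm)
    · exact (hpq k hk).1 ((hp k hk).trans e)
    · exact (hpq i hi).1 ((hp i hi).trans e.symm)
    · rcases key i k hi hk hik with e' | e'
      exacts [e'.2 e, e'.2 ((hp i hi).trans (hp k hk).symm)]
  · by_cases hi : i = o
    · simp only [hi, if_true]
      split_ifs <;> simp
    · have := (hpq i hi).2 χ
      simp only [hi, if_false, hp i hi] at this ⊢
      split_ifs at this ⊢ <;> omega

theorem end0 {s e m A P W Z : ℤ} (hs : s = 5 ∧ e = 3 ∨ 7 ≤ s ∧ s + 2 ≤ e) (hm : 0 < m)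
    (hP : P = 2 * s * e) (hm' : m = 2 * s * e + 1) (f2 : 0 ≤ Z) (f3 : m * W = 2 * P + 2)
    (f4 : A ≤ W ^ 2 + Z ^ 2) (h3 : 2 * e < A) (f5 : ∀ β, 0 ≤ β → W * β - 2 * Z < 2 →
      (β + 1) ^ 2 ≤ 2 * s + 1 ∧ (Z ≠ 0 → (β + 1) ^ 2 + 4 ≤ 2 * s + 1)) : False := by
  have : W = 2 := mul_left_cancel₀ hm.ne' (by linarith)
  subst this
  have he : 3 ≤ e := by omega
  have := (f5 Z f2 (by linarith)).2 (by rintro rfl; linarith)
  rcases hs with ⟨rfl, rfl⟩ | hs
  · have : 2 ≤ Z := by nlinarith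
    nlinarith
  · nlinarith

theorem end1 {s e A C W Z d y w : ℤ} (hs : s = 5 ∧ e = 3 ∨ 7 ≤ s ∧ s + 2 ≤ e) (f1 : 0 ≤ W)
    (f2 : 0 ≤ Z) (f4 : A ≤ W ^ 2 + Z ^ 2) (h3 : e < A) (hy : 0 < y)
    (f5 : ∀ β, 0 ≤ β → W * β - 2 * Z < C → (β + 1) ^ 2 ≤ 2 * s + 1) (g2 : C + e * d = 1)
    (g4 : e * (d * d) + 2 * d ≤ 2 * s) (h9 : W = 1 - e * w)
    (h10 : 2 * y = 2 * s - d + (2 * s * e + 1) * w) : False := by
  have he : 3 ≤ e ∧ 5 ≤ s := by omega
  have hse : 3 * s ≤ s * e := by nlinarith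
  have h11 : 0 ≤ w := by
    by_contra! h
    have : (2 * s * e + 1) * w ≤ -(2 * s * e + 1) := by nlinarith
    have : d ≤ -4 * s := by nlinarith
    have : 3 * (d * d) ≤ e * (d * d) := by nlinarith
    nlinarith
  have h12 : w = 0 := by nlinarith
  subst h12
  have h13 : d ≤ 0 := by
    by_contra! h
    have : 2 ≤ d := by omega
    have : 4 ≤ d * d := by nlinarith
    rcases hs with ⟨rfl, rfl⟩ | hs <;> nlinarith
  have hW : W = 1 := by linarith
  subst hW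
  have := f5 (2 * Z) (by omega) (by nlinarith)
  rcases hs with ⟨rfl, rfl⟩ | hs <;> nlinarith

theorem end2 {s e A C W Z d y w : ℤ} (hs : s = 5 ∧ e = 3 ∨ 7 ≤ s ∧ s + 2 ≤ e) (f1 : 0 ≤ W)
    (f2 : 0 ≤ Z) (f4 : A ≤ W ^ 2 + Z ^ 2) (h3 : e < A) (hy : 0 < y)
    (f5 : ∀ β, 0 ≤ β → W * β - 2 * Z < C → (β + 1) ^ 2 ≤ 2 * s + 1) (g2 : C + e * d = 3)
    (g4 : e * (d * d) - 2 * d ≤ 2 * s) (h9 : W = 3 - e * w)
    (h10 : 2 * y = -(2 * s) - d + (2 * s * e + 1) * w) : False := by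
  have he : 3 ≤ e ∧ 5 ≤ s := by omega
  have h11 : 1 ≤ w := by
    by_contra! h
    have : (2 * s * e + 1) * w ≤ 0 := mul_nonpos_of_nonneg_of_nonpos (by nlinarith) (by omega)
    have : d ≤ -2 * s := by linarith
    have : 3 * (d * d) ≤ e * (d * d) := by nlinarith
    nlinarith
  obtain ⟨rfl, rfl⟩ : s = 5 ∧ e = 3 := hs.resolve_right fun h => by nlinarith
  have h12 : W = 0 := by omega
  subst h12
  have : C ≤ -2 * Z := by
    by_contra! h
    have := f5 3 (by omega) (by omega)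
    omega
  have : 2 ≤ Z := by nlinarith
  have : 3 ≤ d := by omega
  nlinarith

theorem arith9 [DecidableEq ι] {s e N : ℤ} (a x : X → ℤ) (deg : X → ℕ) (d : ι → X → ℤ)
    (hι : (Fintype.card ι : ℤ) = e) (hs : s = 3 ∧ e = 1 ∨ s = 5 ∧ e = 3 ∨ 7 ≤ s ∧ s + 2 ≤ e)
    (ha : ∀ χ, 0 ≤ a χ) (hd : ∀ χ, 0 < deg χ) (hN : 0 < N)
    (hx : ∀ χ, a χ ≠ 0 → deg χ = N * x χ ∧ 2 * s * e + 1 ∣ 2 * x χ - 2 * s * ∑ i, d i χ)
    (hG : ∀ i j, ∑ χ, d i χ * d j χ = 2 * s + if i = j then 1 else 0)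
    (h0 : ∀ i, ∑ χ, (deg χ : ℤ) * d i χ = 0) (h1 : ∀ i, ∑ χ, a χ * d i χ = 2)
    (h2 : ∑ χ, a χ * x χ = 2 * s * e) (h3 : 2 * e < ∑ χ, a χ ^ 2) : 4 * e ≤ ∑ χ, a χ ^ 2 := by
  classical
  have hx0 : ∀ χ, a χ ≠ 0 → 0 < x χ := fun χ h =>
    (pos_iff_pos_of_mul_pos ((hx χ h).1 ▸ Int.natCast_pos.2 (hd χ))).1 hN
  have hxc : ∀ χ c, a χ ≠ 0 → (∀ i, d i χ = c) → 0 < x χ ∧ 2 * s * e + 1 ∣ 2 * x χ + c := by
    intro χ c h hc
    have := (hx χ h).2
    simp only [hc, sum_const, card_univ, nsmul_eq_mul, hι] at this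
    obtain ⟨w, hw⟩ := this
    exact ⟨hx0 χ h, w + c, by linear_combination hw⟩
  obtain ⟨o⟩ : Nonempty ι := Fintype.card_pos_iff.1 (by omega)
  have hB : ∑ χ, d o χ ^ 2 ≤ 2 * s + 1 := by simpa [sq] using (hG o o).le
  rcases hs with ⟨rfl, rfl⟩ | hs
  · have : Subsingleton ι := Fintype.card_le_one_iff_subsingleton.1 (by omega)
    obtain ⟨W, Z, -, e1, e2, -, e4, e5⟩ := const9 a (d o) x ha
      (fun χ h => hxc χ _ h fun i => by rw [Subsingleton.elim i o]) hB (by omega) (by omega)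
    rw [h1, h2] at e2
    have e6 := e4 (by_contra fun e => by
      have := (e5 Z e1 (by rw [h1]; nlinarith)).2 e
      nlinarith [sq_nonneg Z, lt_of_le_of_ne e1 (Ne.symm e)])
    obtain ⟨χ, -, hχ⟩ : ∃ χ ∈ univ, a χ < a χ ^ 2 := exists_lt_of_sum_lt (by omega)
    have := single_le_sum (f := fun χ => a χ ^ 2) (fun _ _ => sq_nonneg _) (mem_univ χ)
    have : 2 ≤ a χ := by
      by_contra! e
      nlinarith [ha χ]
    nlinarith
  have he : 3 ≤ e ∧ 5 ≤ s := by omega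
  obtain ⟨ε, ζ, c, hε, hζ, hv⟩ := exists_exc d deg hd hG h0 (by omega)
  have hsum : ∀ (F : X → ℤ) i, ∑ χ, F χ * d i χ = ∑ χ, F χ * c χ + F (ζ i) * ε := fun F i => by
    simp [hv, mul_add, sum_add_distrib]
  have hε0 : ε ≠ 0 := by omega
  have e1 : ∀ i, a (ζ i) = a (ζ o) := fun i => mul_right_cancel₀ hε0 (by
    have := hsum a i; have := hsum a o; have := h1 i; have := h1 o; omega)
  have e2 : ∀ i, (deg (ζ i) : ℤ) = deg (ζ o) := fun i => mul_right_cancel₀ hε0 (by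
    have := hsum (fun χ => deg χ) i; have := hsum (fun χ => deg χ) o
    have := h0 i; have := h0 o; omega)
  have e3 : ∀ i, ∑ χ, c χ * c χ + 2 * (c (ζ i) * ε) = 2 * s := fun i => by
    have := hG i i
    rw [hsum, sum_congr rfl fun χ _ => mul_comm (d i χ) (c χ), hsum, hv, if_pos rfl, if_pos rfl,
      add_mul, show ε * ε = 1 by rcases hε with e | e <;> simp [e]] at this
    omega
  have e4 : ∀ i, c (ζ i) = c (ζ o) := fun i => mul_right_cancel₀ hε0 (by
    have := e3 i; have := e3 o; omega)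
  have hsp : ∀ (F : X → ℤ) (k : ℤ), (∀ i, F (ζ i) = k) →
      ∑ χ, F χ = ∑ χ, (if χ ∈ Set.range ζ then 0 else F χ) + e * k := fun F k hk => by
    have : ∑ χ, (if χ ∈ Set.range ζ then F χ else 0) = e * k := by
      rw [← sum_filter, show filter (· ∈ Set.range ζ) univ = univ.image ζ by ext; simp,
        sum_image fun _ _ _ _ e => hζ e]
      simp [hk, hι]
    rw [← this, ← sum_add_distrib]
    exact sum_congr rfl fun χ _ => by split_ifs <;> simp
  have hm0 : 2 * s + 1 < 2 * s * e + 1 := by nlinarith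
  have hm : 0 < 2 * s * e + 1 := by omega
  set c0 := a (ζ o)
  set d' := c (ζ o)
  set y := x (ζ o)
  set a' : X → ℤ := fun χ => if χ ∈ Set.range ζ then 0 else a χ with ha'
  have hd' : ∀ χ, χ ∉ Set.range ζ → ∀ i, d i χ = c χ := fun χ h i => by
    rw [hv, if_neg fun e => h ⟨i, e.symm⟩, add_zero]
  obtain ⟨W, Z, f1, f2, f3, f4, -, f5⟩ := const9 (m := 2 * s * e + 1) a' (d o) x
    (fun χ => by simp only [ha']; split_ifs; exacts [le_rfl, ha χ]) (fun χ h => by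
      have h' : χ ∉ Set.range ζ := fun e => h (if_pos e)
      exact hxc χ _ (fun e => h (by simp [ha', e])) fun i => (hd' χ h' i).trans (hd' χ h' o).symm)
    hB hm (by nlinarith)
  have g1 : ∑ χ, a χ ^ 2 = ∑ χ, a' χ ^ 2 + e * c0 ^ 2 := by
    rw [hsp _ (c0 ^ 2) fun i => by rw [e1]]
    simp [ha']
  have g2 : ∑ χ, a' χ * d o χ + e * (c0 * d') + c0 * ε = 2 := by
    rw [← h1 o, hsum a, hsp (fun χ => a χ * c χ) (c0 * d') fun i => by rw [e1, e4]]
    congr 2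
    refine sum_congr rfl fun χ _ => ?_
    simp only [ha']
    split_ifs with h
    exacts [zero_mul _, by rw [hd' χ h]]
  have g3 : ∑ χ, a' χ * x χ + e * (c0 * y) = 2 * s * e := by
    rw [← h2, hsp (fun χ => a χ * x χ) (c0 * y) fun i => ?_]
    · simp [ha']
    by_cases h : c0 = 0
    · simp [e1, h]
    · rw [e1, mul_left_cancel₀ hN.ne' ((hx _ (e1 i ▸ h)).1.symm.trans ((e2 i).trans (hx _ h).1))]
  have g4 : e * (d' * d') + 2 * (d' * ε) ≤ 2 * s := by
    have := hsp (fun χ => c χ * c χ) (d' * d') fun i => by rw [e4]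
    have : 0 ≤ ∑ χ, (if χ ∈ Set.range ζ then 0 else c χ * c χ) :=
      sum_nonneg fun χ _ => by split_ifs; exacts [le_rfl, mul_self_nonneg _]
    have : _ + 2 * (d' * ε) = _ := e3 o
    omega
  have g5 : 0 ≤ ∑ χ, a' χ ^ 2 := sum_nonneg fun _ _ => sq_nonneg _
  rw [g1] at h3 ⊢
  generalize ∑ χ, a' χ ^ 2 = A at *
  generalize ∑ χ, a' χ * x χ = P at *
  generalize ∑ χ, a' χ * d o χ = C at *
  have hc0 : 0 ≤ c0 := ha _
  by_cases h4 : 2 ≤ c0
  · have : 4 ≤ c0 ^ 2 := by nlinarith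
    have := mul_le_mul_of_nonneg_left this (show 0 ≤ e by omega)
    omega
  exfalso
  by_cases h5 : c0 = 0
  · rw [h5] at g2 g3 h3
    have hC : C = 2 := by linarith
    subst hC
    exact end0 hs hm (by linarith) rfl f2 f3 f4 (by linarith) f5
  have h6 : c0 = 1 := by omega
  obtain ⟨w, hw⟩ := (hx _ h5).2
  have h7 := hx0 _ h5
  have h8 : ∑ i, d i (ζ o) = e * d' + ε := by
    simp [hv, sum_add_distrib, hζ.eq_iff, hι, d']
  rw [h8] at hw
  rw [h6] at g2 g3 h3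
  have h9 : W = 2 - ε - e * (w + d') := mul_left_cancel₀ hm.ne' (by
    linear_combination f3 + 2 * g3 + g2 - e * hw)
  have h10 : 2 * y = 2 * s * ε - d' + (2 * s * e + 1) * (w + d') := by linear_combination hw
  rcases hε with rfl | rfl
  · exact end1 (w := w + d') (d := d') hs f1 f2 f4 (by linarith) h7 (fun β h h' => (f5 β h h').1)
      (by linarith) (by linarith) (by linarith) (by linarith)
  · exact end2 (w := w + d') (d := d') hs f1 f2 f4 (by linarith) h7 (fun β h h' => (f5 β h h').1)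
      (by linarith) (by linarith) (by linarith) (by linarith)

end Cfsg.Agent.Bender
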