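import Cfsg.Agent.Bender.CaseC

/-! Groups of odd order normalised by involutions. -/

set_option autoImplicit false
set_option linter.unusedSectionVars false

namespace Cfsg.Agent.Bender

open Subgroup MulAction Cfsg.Agent.Local Cfsg.Agent.FT Cfsg.Agent.Suz2T
open scoped Pointwise commutatorElement

variable {G : Type*} [Group G] [Finite G] {Ω : Type*} [MulAction G Ω]

omit [Finite G] in
theorem inverts_pow {u k : G} (hu : u * u = 1) (h : u * k * u = k⁻¹) (n : ℕ) :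
    u * k ^ n * u = (k ^ n)⁻¹ := by
  rw [← inv_pow, ← h]
  nth_rw 4 [← inv_of_sq hu]
  nth_rw 2 [← inv_of_sq hu]
  rw [conj_pow]

omit [Finite G] in
theorem inverts_inv {u k : G} (hu : u * u = 1) (h : u * k * u = k⁻¹) :
    u * k⁻¹ * u = k⁻¹⁻¹ := by rw [conj_inv_sq hu, h]

omit [Finite G] in
theorem inverts_zpowers {u k y : G} (hu : u * u = 1) (h : u * k * u = k⁻¹) (hy : y ∈ zpowers k) :
    u * y * u = y⁻¹ := by
  obtain ⟨n, rfl⟩ := hy
  have : u * k ^ n * u⁻¹ = (u * k * u⁻¹) ^ n := conj_zpow.symm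
  rw [inv_of_sq hu, h] at this
  simpa using this

omit [Finite G] in
theorem mem_cent1_sq {u x : G} (hu : u * u = 1) : x ∈ 𝐂[u] ↔ u * x * u = x := by
  rw [mem_cent1]
  exact ⟨fun h => by rw [h, cancel_sq' hu], fun h => by nth_rw 2 [← h]; rw [cancel_sq' hu]⟩

omit [Finite G] in
theorem eq_one_of_inv_cent {u x : G} (hu : u * u = 1) (ho : Odd (orderOf x)) (h1 : u * x * u = x⁻¹)
    (h2 : x ∈ 𝐂[u]) : x = 1 := by
  rw [(mem_cent1_sq hu).1 h2] at h1
  refine eq_one_of_odd ho ?_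
  nth_rw 1 [h1]
  simp

theorem exists_cent_inv {N : Subgroup G} (hN : Odd (Nat.card N)) {u : G} (hu : u * u = 1)
    (hn : u ∈ 𝐍(N)) {x : G} (hx : x ∈ N) :
    ∃ c ∈ N, ∃ k ∈ N, c ∈ 𝐂[u] ∧ u * k * u = k⁻¹ ∧ x = c * k := by
  have hw : x⁻¹ * (u * x * u) ∈ N := N.mul_mem (N.inv_mem hx) (conj_mem_sq hu hn hx)
  obtain ⟨j, hj⟩ := exists_sqrt (odd_mem hN hw)
  have h1 := inverts_pow hu (inv_comm_sq hu x) j
  set s := (x⁻¹ * (u * x * u)) ^ j with hs
  have hsN : s ∈ N := N.pow_mem hw j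
  refine ⟨x * s, N.mul_mem hx hsN, s⁻¹, N.inv_mem hsN, ?_, inverts_inv hu h1, by group⟩
  rw [mem_cent1_sq hu, conj_mul_sq hu, h1, ← mul_inv_cancel_left x (u * x * u), ← hj]
  group

/-- a subgroup not centralised by `u` has a nontrivial inverted element -/
theorem exists_inverted {N : Subgroup G} {u : G} (hu : u * u = 1) (hn : u ∈ 𝐍(N))
    (h : ¬ N ≤ 𝐂[u]) : ∃ y ∈ N, y ≠ 1 ∧ u * y * u = y⁻¹ := by
  obtain ⟨x, hx, h1⟩ := SetLike.not_le_iff_exists.1 h
  refine ⟨_, N.mul_mem (N.inv_mem hx) (conj_mem_sq hu hn hx), fun e => h1 ?_, inv_comm_sq hu x⟩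
  rw [mem_cent1_sq hu]
  exact (inv_mul_eq_one.1 e).symm

theorem mul_conj_mem {N M : Subgroup G} (hN : Odd (Nat.card N)) {u : G} (hu : u * u = 1)
    (hn : u ∈ 𝐍(N)) (h1 : der 1 N ≤ M) (h2 : N ⊓ 𝐂[u] ≤ M) {x : G} (hx : x ∈ N) :
    x * (u * x * u) ∈ M := by
  obtain ⟨c, hc, k, hk, h3, h4, rfl⟩ := exists_cent_inv hN hu hn hx
  rw [conj_mul_sq hu, (mem_cent1_sq hu).1 h3, h4,
    show c * k * (c * k⁻¹) = c * ⁅k, c⁆ * c by rw [commutatorElement_def]; group]
  exact M.mul_mem (M.mul_mem (h2 ⟨hc, h3⟩) (h1 (commutator_mem_commutator hk hc))) (h2 ⟨hc, h3⟩)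

theorem comm_mem_of_two {N M : Subgroup G} (hN : Odd (Nat.card N)) {u w : G} (hu : u * u = 1)
    (hw : w * w = 1) (hn : u ∈ 𝐍(N)) (hn' : w ∈ 𝐍(N)) (h1 : der 1 N ≤ M) (h2 : N ⊓ 𝐂[u] ≤ M)
    (h3 : N ⊓ 𝐂[w] ≤ M) {x : G} (hx : x ∈ N) : x⁻¹ * (u * w * x * (u * w)⁻¹) ∈ M := by
  have h4 := conj_mem_sq hw hn' hx
  have h5 := mul_conj_mem hN hu hn h1 h2 h4
  have h6 := mul_conj_mem hN hw hn' h1 h3 h4
  have := M.mul_mem (M.inv_mem h6) h5
  convert this using 1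
  simp only [mul_inv_rev, inv_of_sq hu, inv_of_sq hw, mul_assoc, cancel_sq hw, hw, mul_one,
    inv_mul_cancel_left]

theorem dplus_aux {O M Q : Subgroup G} (hO : Odd (Nat.card O)) {u v : G} (hu : u * u = 1)
    (hn : u ∈ 𝐍(O)) (hv : v ∈ O) (huv : u * v * u = v⁻¹) (hvM : v ∈ M) (h2 : O ⊓ 𝐂[u] ≤ M)
    (h3 : O ⊓ 𝐂[u * v] ≤ M) (hQ : Q ≤ O) (h : Q ≤ ⁅Q, zpowers v⁆) : Q ≤ M := by
  have hw : u * v * (u * v) = 1 := by rw [← mul_assoc, huv, inv_mul_cancel]
  have hn' : u * v ∈ 𝐍(O) := mul_mem hn (le_normalizer hv)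
  have key : ∀ k, Q ≤ M ⊓ O ⊔ der k O := by
    intro k
    induction k with
    | zero => exact hQ.trans le_sup_right
    | succ k ih =>
      refine h.trans (commutator_le.2 fun q hq y hy => ?_)
      obtain ⟨μ, hμ, n, hn1, rfl⟩ := (mem_sup_iff_of_norm
        (Or.inr (inf_le_right.trans (der_nrm k O).norm))).1 (ih hq)
      have h4 := comm_mem_of_two (M := M ⊓ O ⊔ der (k + 1) O) (odd_of_le hO (der_le k O)) hu hw
        ((der_chr k O).norm_le hn) ((der_chr k O).norm_le hn') (by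
          rw [der_der]; exact le_sup_right)
        ((le_inf ((inf_le_inf_right _ (der_le k O)).trans h2)
          (inf_le_left.trans (der_le k O))).trans le_sup_left)
        ((le_inf ((inf_le_inf_right _ (der_le k O)).trans h3)
          (inf_le_left.trans (der_le k O))).trans le_sup_left) (inv_mem hn1)
      rw [cancel_sq hu, inv_inv] at h4
      have hv1 : v ∈ M ⊓ O ⊔ der (k + 1) O := mem_sup_left ⟨hvM, hv⟩
      have h5 : μ * n * v * (μ * n)⁻¹ ∈ M ⊓ O ⊔ der (k + 1) O := by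
        have := mul_mem (mul_mem (mem_sup_left hμ) (mul_mem h4 hv1)) (inv_mem (mem_sup_left hμ))
        convert this using 1
        group
      obtain ⟨j, rfl⟩ := hy
      rw [commutatorElement_def, ← conj_zpow]
      exact mul_mem (zpow_mem h5 j) (inv_mem (zpow_mem hv1 j))
  obtain ⟨k, hk⟩ := isSolvable_iff_der.1 (sol_of_odd hO)
  have := key k
  rw [hk, sup_bot_eq] at this
  exact this.trans inf_le_left

theorem exists_special4 {B : Subgroup G} (hB : Odd (Nat.card B)) {t e : G} (ht : Iv t) (he : Iv e)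
    (hte : t ≠ e) (hc : t * e = e * t) (h1 : t ∈ 𝐍(B)) (h2 : e ∈ 𝐍(B)) (h : ¬ B ≤ 𝐂[t]) :
    ∃ y ∈ B, y ≠ 1 ∧ t * y * t = y⁻¹ ∧ ∃ w, Iv w ∧ w * t = t * w ∧ w * y = y * w := by
  by_contra H
  push Not at H
  have hA := ea2_pair ht.sq he.sq hc
  have hu' : t ∈ closure ({t, e} : Set G) := subset_closure (by simp)
  have hv' : e ∈ closure ({t, e} : Set G) := subset_closure (by simp)
  refine h (coprime_abelian_gen_cent1 hA.isMulCommutative (hA.not_cyclic hu' hv' ht.ne he.ne hte)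
    ((closure_le _).2 (by rintro _ (rfl | rfl) <;> assumption)) (hA.coprime hB) fun x hx hx1 => ?_)
  by_contra h3
  have h4 : t ∈ 𝐂[x] := mem_cent1.2 (hA.comm hx hu')
  obtain ⟨y, hy, h5, h6⟩ := exists_inverted ht.sq (le_normalizer_inf (zpowers_le.2 h1)
    (zpowers_le.2 (le_normalizer h4)) (mem_zpowers t)) h3
  exact H y hy.1 h5 h6 x ⟨hA x hx, hx1⟩ (hA.comm hx hu') (mem_cent1.1 hy.2)

namespace SE

variable (S : SE G Ω)
include S

theorem iv_mul {u v : G} (hu : Iv u) (ho : Odd (orderOf v)) (huv : u * v * u = v⁻¹) :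
    Iv (u * v) := by
  refine ⟨by rw [← mul_assoc, huv, inv_mul_cancel], fun e => ?_⟩
  rw [← hu.inv, inv_mul_eq_one] at e
  rw [← e, hu.orderOf] at ho
  exact absurd ho (by decide)

/-- Lemma D -/
theorem dplus {O Q : Subgroup G} (hO : Odd (Nat.card O)) {u v : G} (hu : Iv u) {a : Ω}
    (ha : u • a = a) (hn : u ∈ 𝐍(O)) (hv : v ∈ O) (hva : v • a = a) (huv : u * v * u = v⁻¹)
    (hQ : Q ≤ O) (h : Q ≤ ⁅Q, zpowers v⁆) : Q ≤ stabilizer G a :=
  dplus_aux hO hu.sq hn hv huv hva (inf_le_right.trans (S.cent_le hu ha))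
    (inf_le_right.trans (S.cent_le (S.iv_mul hu (odd_mem hO hv) huv)
      (by rw [mul_smul, hva, ha]))) hQ h

/-- Lemma Z -/
theorem lemZ {O : Subgroup G} (hO : Odd (Nat.card O)) {t y : G} (ht : Iv t) {c : Ω}
    (hc : t • c = c) (hn : t ∈ 𝐍(O)) (h : ¬ O ≤ stabilizer G c) (hy : y ∈ 𝐍(O))
    (ho : Odd (orderOf y)) (hyc : y • c = c) (hty : t * y * t = y⁻¹) :
    ∃ g ∈ O, g • c ≠ c ∧ y • g • c = g • c := by
  classical
  have hex : ∃ k, der k O ≤ stabilizer G c :=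
    let ⟨k, hk⟩ := isSolvable_iff_der.1 (sol_of_odd hO); ⟨k, hk ▸ bot_le⟩
  have h0 : Nat.find hex ≠ 0 := fun e => h (by have := Nat.find_spec hex; rwa [e] at this)
  obtain ⟨j, hj⟩ := Nat.exists_eq_succ_of_ne_zero h0
  obtain ⟨n, hn1, hn2⟩ := SetLike.not_le_iff_exists.1 (Nat.find_min hex (m := j) (by omega))
  have hw := S.iv_mul ht ho hty
  have h4 := comm_mem_of_two (M := stabilizer G c) (odd_of_le hO (der_le j O)) ht.sq hw.sq
    ((der_chr j O).norm_le hn) ((der_chr j O).norm_le (mul_mem hn hy)) (by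
      have := Nat.find_spec hex
      rw [der_der]
      rwa [hj] at this)
    (inf_le_right.trans (S.cent_le ht hc))
    (inf_le_right.trans (S.cent_le hw (by rw [mul_smul, hyc, hc]))) hn1
  rw [cancel_sq ht.sq] at h4
  refine ⟨n, der_le j O hn1, hn2, ?_⟩
  have h5 : (n⁻¹ * (y * n * y⁻¹)) • c = c := h4
  rw [mul_smul, inv_smul_eq_iff, mul_smul, mul_smul, inv_smul_eq_iff.2 hyc.symm] at h5
  exact h5

/-- the normaliser of a special element fixes the centre -/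
theorem norm_special {z w y : G} (hz : Iv z) (hw : Iv w) (hy : y ≠ 1) (ho : Odd (orderOf y))
    (h1 : z * y * z = y⁻¹) (h2 : w * y = y * w) {a : Ω} (ha : z • a = a) :
    𝐍(zpowers y) ≤ stabilizer G a := by
  intro x hx
  obtain ⟨b, hb⟩ := S.ex w hw
  obtain rfl := S.centre_eq hz hw hy ho h1 h2 ha hb
  have h3 : w ∈ 𝐂(zpowers y) := by rw [cent_zpowers, mem_cent1, h2]
  have h4 := conj_mem_of_mem_normalizer (normalizer_le_normalizer_centralizer _ hx) h3
  rw [cent_zpowers, mem_cent1] at h4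
  exact (S.centre_eq hz (hw.conj x) hy ho h1 h4.symm ha (conj_fix hb x)).symm

theorem cent_special {z w y : G} (hz : Iv z) (hw : Iv w) (hy : y ≠ 1) (ho : Odd (orderOf y))
    (h1 : z * y * z = y⁻¹) (h2 : w * y = y * w) {a : Ω} (ha : z • a = a) :
    𝐂[y] ≤ stabilizer G a := by
  rw [← cent_zpowers]
  exact (centralizer_le_normalizer' _).trans (S.norm_special hz hw hy ho h1 h2 ha)

/-- a subgroup of coprime order normalised by a special element -/
theorem le_of_special {O Q : Subgroup G} (hO : Odd (Nat.card O)) {u v w : G} (hu : Iv u) {a : Ω}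
    (ha : u • a = a) (hn : u ∈ 𝐍(O)) (hv : v ∈ O) (hv1 : v ≠ 1) (huv : u * v * u = v⁻¹) (hw : Iv w)
    (hwv : w * v = v * w) (hQ : Q ≤ O) (h : v ∈ 𝐍(Q))
    (hc : (Nat.card Q).Coprime (Nat.card (zpowers v))) : Q ≤ stabilizer G a := by
  have h1 := S.cent_special hu hw hv1 (odd_mem hO hv) huv hwv ha
  have h2 := zpowers_le.2 h
  rw [← coprime_cent_prod h2 hc (sol_of_odd (odd_of_le hO hQ)), cent_zpowers]
  exact sup_le (S.dplus hO hu ha hn hv (h1 (mem_cent1.2 rfl)) huv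
    ((commutator_le_left_iff.2 h2).trans hQ) (coprime_commGid h2 hc).ge) (inf_le_right.trans h1)

end SE

end Cfsg.Agent.Bender
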