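import Cfsg.Agent.Bender.G9
import Cfsg.Agent.Bender.Reg

/-! Double transitivity and the regular normal subgroup obtained by transfer. -/

set_option autoImplicit false
set_option linter.unusedSectionVars false

namespace Cfsg.Agent.Bender

open Subgroup MulAction Cfsg.Agent.Local Cfsg.Agent.FT Cfsg.Agent.Suz2T
open scoped Pointwise commutatorElement

universe u

variable {G Ω : Type u} [Group G] [Finite G] [MulAction G Ω]

theorem zp_prime {y : G} (hy : (orderOf y).Prime) : IsPGroup (orderOf y) (zpowers y) :=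
  isPGroup_of_card_eq_pow (n := 1) (by rw [Nat.card_zpowers, pow_one])

theorem fix3_of {U : Subgroup G} {a b c : Ω} (hab : a ≠ b) (h : U ≤ Dd G a b)
    (hc : U ≤ stabilizer G c) (h1 : c ≠ a) (h2 : c ≠ b) : Fix3 Ω U :=
  ⟨a, b, c, hab, h1.symm, h2.symm, h.trans inf_le_left, h.trans inf_le_right, hc⟩

theorem card_Dd_conj (g : G) (a b : Ω) :
    Nat.card (Dd G (g • a) (g • b)) = Nat.card (Dd G a b) := by
  rw [Dd_conj, card_conj_smul]

omit [Finite G] in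
theorem mem_cent_Aa {a : Ω} {x : G} :
    x ∈ 𝐂(Aa G a) ↔ ∀ u, Iv u → u • a = a → u * x = x * u := by
  rw [Aa, centralizer_closure]
  exact ⟨fun H u h1 h2 => H u ⟨h1, h2⟩, fun H u hu => H u hu.1 hu.2⟩

omit [Finite G] in
theorem conj_mem_cent_Aa {a : Ω} {x : G} (hx : x ∈ 𝐂(Aa G a)) (g : G) :
    g * x * g⁻¹ ∈ 𝐂(Aa G (g • a)) := mem_cent_Aa.2 fun u hu hua => by
  have := mem_cent_Aa.1 hx _ (hu.conj g⁻¹) (by simpa using conj_fix hua g⁻¹)
  rw [← mul_right_inj g⁻¹, ← mul_left_inj g]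
  convert this using 1 <;> group

theorem SE.C_nrm (S : SE G Ω) (a : Ω) : 𝐂(Aa G a) ⊴ stabilizer G a := by
  obtain ⟨u, hu, hua⟩ := S.exists_iv_fix a
  refine nrm_of_conj_mem (fun x hx => S.fix_of_comm hu hua (mem_cent_Aa.1 hx u hu hua).symm)
    fun g hg x hx => ?_
  have := conj_mem_cent_Aa hx g
  rwa [show g • a = a from hg] at this

namespace GH

variable (h : GH G Ω)
include h

theorem inv_one {X : Subgroup G} (hX : X ≠ ⊤) {z y : G} (hzX : z ∈ X) (hz : Iv z) {c : Ω}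
    (hc : z • c = c) (h1 : ¬ X ≤ stabilizer G c) (hy : y ∈ X) (hyc : y • c = c)
    (ho : Odd (orderOf y)) (hi : z * y * z = y⁻¹) : y = 1 := by
  obtain ⟨b, hb, e⟩ := h.lemA' hX hzX hz hc h1 hy hyc ho hi
  exact h.nb z y c b hz hc ho hi hyc e hb

theorem comm_in {X : Subgroup G} (hX : X ≠ ⊤) {a : Ω} (h1 : ¬ X ≤ stabilizer G a) {u v : G}
    (hu : Iv u) (hv : Iv v) (huX : u ∈ X) (hvX : v ∈ X) (hua : u • a = a) (hva : v • a = a) :
    u * v = v * u := by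
  have hO := odd_core X
  have key : ∀ y ∈ core {2}ᶜ X, y • a = a → u * y * u = y⁻¹ → y = 1 := fun y hy h2 h3 =>
    h.inv_one hX huX hu hua h1 (core_le _ _ hy) h2 (odd_mem hO hy) h3
  have hvu : (v * u) • a = a := by rw [mul_smul, hua, hva]
  have hi : u * (v * u) * u = (v * u)⁻¹ := by
    rw [mul_inv_rev, hu.inv, hv.inv, mul_assoc, mul_assoc, hu.sq, mul_one]
  by_cases h4 : ∀ w ∈ X, Iv w → u * w = w * u → w = u
  · obtain ⟨x, hx, hxa⟩ := SetLike.not_le_iff_exists.1 h1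
    obtain ⟨g, hg, e⟩ := h.toSE.conj_in hu hv huX hvX hua hx hxa
    have h2 := zstar_in hu huX h4 hg
    rw [e] at h2
    rw [eq_inv_of_mul_eq_one_left (key _ h2 hvu hi), hu.inv]
  push Not at h4
  obtain ⟨w, hwX, hw, h2, h3⟩ := h4
  obtain ⟨N, B⟩ := h.bt hX huX hwX hu hw h3.symm h2 hua h1
  have h5 := B.cen u huX hu hua v (B.iv v hvX hv hva)
  rw [hv.inv, mul_assoc, ← sq] at h5
  have h6 := key _ h5 (pow_smul_eq hvu 2) (inverts_pow hu.sq hi 2)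
  rw [sq, mul_eq_one_iff_eq_inv, mul_inv_rev, hu.inv, hv.inv] at h6
  exact h6.symm

theorem cent_of_norm {U : Subgroup G} {z : G} {a b : Ω} (hab : a ≠ b) (hU : U ≤ Dd G a b)
    (hzU : z ∈ 𝐍(U)) (hz : Iv z) (hza : z • a = a) : z ∈ 𝐂(U) := fun u hu => by
  have h1 : u⁻¹ * (z * u * z) ∈ U := mul_mem (inv_mem hu) (conj_mem_sq hz.sq hzU hu)
  have h2 := h.nb z _ a b hz hza (h.toSE.odd_fix hab (hU h1).1 (hU h1).2) (inv_comm_sq hz.sq u)
    (hU h1).1 (hU h1).2 hab.symm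
  nth_rw 2 [inv_mul_eq_one.1 h2]
  rw [mul_assoc z u z, cancel_sq hz.sq]

theorem max3_cent {p : ℕ} [Fact p.Prime] (hp : p ≠ 2) {U : Subgroup G} (hU : Max3 Ω p U) {a : Ω}
    (ha : U ≤ stabilizer G a) : ∃ z ∈ 𝐂(U), Iv z ∧ z • a = a := by
  obtain ⟨z, hzU, hz, hza⟩ := h.toSE.exists_iv_norm hp hU ha
  obtain ⟨b, hb, hba, -⟩ := hU.f3.exists_ne a a
  exact ⟨z, h.cent_of_norm hba.symm (le_inf ha hb) hzU hz hza, hz, hza⟩

theorem K_two {t k : G} (ht : Iv t) {a b c : Ω} (hab : a ≠ b) (hk : k ∈ Dd G a b) (hk1 : k ≠ 1)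
    (h1 : t * k * t = k⁻¹) (hc : k • c = c) : c = a ∨ c = b := by
  by_contra H
  push Not at H
  obtain ⟨p, hp, hp2, y, hy, hy1, py⟩ := exists_prime_pow hk1 (h.toSE.odd_fix hab hk.1 hk.2)
  have : Fact p.Prime := ⟨hp⟩
  have hyD := zpowers_le.2 hk hy
  obtain ⟨U, hU, hle⟩ := exists_max3 (Ω := Ω) py (fix3_of hab (zpowers_le.2 hyD)
    (zpowers_le.2 (zpowers_le.2 (show k ∈ stabilizer G c from hc) hy)) H.1 H.2)
  obtain ⟨d, hd⟩ := h.ex t ht
  obtain ⟨x, hx, hxd, -⟩ := hU.f3.exists_ne d d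
  obtain ⟨z, hzU, hz, hzx⟩ := h.max3_cent hp2 hU hx
  exact hxd (h.toSE.centre_eq ht hz hy1 (h.toSE.odd_fix hab hyD.1 hyD.2)
    (inverts_zpowers ht.sq h1 hy) (hzU _ (hle (mem_zpowers _))).symm hd hzx).symm

theorem exists_two {r : ℕ} [hr : Fact r.Prime] {a b : Ω} (hab : a ≠ b)
    (hd : r ∣ (Ts G a a).ncard) : r ≠ 2 ∧ ∃ P, Two P a b ∧ IsSylowIn r P (Dd G a b) := by
  obtain ⟨t, ht, htab⟩ := h.toSE.exists_swap hab
  have hD := h.toSE.odd_Dd hab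
  rw [← h.toSE.relIndex_T' ht htab hab] at hd
  refine ⟨fun e => ?_, ?_⟩
  · exact absurd (hD.of_dvd_nat ((e ▸ hd).trans (relIndex_dvd_card' _ _))) (by decide)
  obtain ⟨P, hP, htP⟩ := sol_coprime_Sylow_exists r
    (zpowers_le.2 (swap_norm htab (smul_back ht.sq htab))) (coprime_iv ht hD)
    (Or.inr (sol_of_odd hD))
  have h1 : ¬ P ≤ 𝐂[t] := fun e => by
    have := pow_dvd_relIndex hP 𝐂[t]
    rw [relIndex_eq_one.2 e, Nat.dvd_one, Nat.pow_eq_one] at this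
    exact this.elim hr.out.ne_one
      (hr.out.factorization_pos_of_dvd (relIndex_pos _ _).ne' hd).ne'
  obtain ⟨y, hy, h2, h3⟩ := exists_inverted ht.sq (htP (mem_zpowers t)) h1
  exact ⟨P, ⟨hP.le, fun c hc => h.K_two ht hab (hP.le hy) h2 h3 (hc hy)⟩, hP⟩

theorem one_lt_m (a : Ω) : 1 < (Ts G a a).ncard := by
  obtain ⟨u, v, hu, hv, h1, -, h2, h3⟩ := h.pair a
  exact (Set.one_lt_ncard (Set.toFinite _)).2 ⟨u, ⟨hu, h2⟩, v, ⟨hv, h3⟩, h1⟩

theorem two_trans {a b b' : Ω} (hab : a ≠ b) (hab' : a ≠ b') :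
    ∃ n : G, n • a = a ∧ n • b = b' := by
  obtain ⟨r, hr, hd⟩ := Nat.exists_prime_and_dvd (h.one_lt_m a).ne'
  have : Fact r.Prime := ⟨hr⟩
  obtain ⟨h2, P, h3, h4⟩ := h.exists_two hab hd
  obtain ⟨-, P', h3', h4'⟩ := h.exists_two hab' hd
  obtain ⟨n, -, hn⟩ := h3.conj_fix hab h3' (h3.sylow' h2 h4) (h3'.sylow' h2 h4')
  exact ⟨n, hn⟩

theorem card_D {a b b' : Ω} (hab : a ≠ b) (hab' : a ≠ b') :
    Nat.card (Dd G a b') = Nat.card (Dd G a b) := by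
  obtain ⟨n, h1, h2⟩ := h.two_trans hab hab'
  rw [← card_Dd_conj n a b, h1, h2]

theorem lemF {p : ℕ} [Fact p.Prime] (hp : p ≠ 2) {c : Ω} (Y : Subgroup G) (hY : IsPGroup p Y)
    (h3 : Fix3 Ω Y) (hc : Y ≤ stabilizer G c) : ∃ z ∈ 𝐂(Y), Iv z ∧ z • c = c := by
  induction Y using WellFoundedGT.induction with | _ Y ih => ?_
  by_contra H
  obtain ⟨U, hU, hYU⟩ := exists_max3 hY h3
  obtain ⟨x, hx, hxc, -⟩ := hU.f3.exists_ne c c
  obtain ⟨z, hzU, hz, hzx⟩ := h.max3_cent hp hU hx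
  have hzY := cent_anti hYU hzU
  have hxY := hYU.trans hx
  have key : ∀ g ∈ 𝐍(Y), g • x ≠ c := fun g hg e =>
    H ⟨_, conj_mem_of_mem_normalizer (normalizer_le_normalizer_centralizer _ hg) hzY, hz.conj g,
      e ▸ conj_fix hzx g⟩
  have hS : ¬ IsSylowIn p Y (Dd G c x) := fun hS => by
    obtain ⟨t, h1, h2, h4⟩ := h.toSE.typeS hxc.symm hS
    exact key t h1 (smul_back h2.sq h4)
  have hB : ∀ b, c ≠ b → Y ≤ stabilizer G b → ∃ P, Two P c b ∧ IsSylowIn p P 𝐍(Y) := by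
    intro b hb hYb
    obtain ⟨P, hP, hUP⟩ := exists_isSylowIn_ge hY (le_inf le_normalizer (le_inf hc hYb))
    have h2 : Two P c b := two_of_not_fix3 hb (hP.le.trans inf_le_right) fun h4 => by
      rcases hUP.eq_or_lt with e | e
      · rw [← e, inf_comm, isSylowIn_iff_normalizer] at hP
        exact hS (isSylowIn_of_card (le_inf hc hxY) (by rw [hP.card_eq, h.card_D hxc.symm hb]))
      · obtain ⟨w, h5, h6⟩ := ih P e hP.isPGroup h4 fun g hg => (hP.le hg).2.1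
        exact H ⟨w, cent_anti hUP h5, h6⟩
    exact ⟨P, h2, h2.sylow hp hP⟩
  have hzN := centralizer_le_normalizer' _ hzY
  obtain ⟨P, h1, h2⟩ := hB x hxc.symm hxY
  obtain ⟨P', h1', h2'⟩ := hB (z • c) (h.toSE.smul_ne hz hzx hxc) (le_stab_of_norm hc hzN)
  obtain ⟨n, hn, -, e⟩ := h1.conj_fix hxc.symm h1' h2 h2'
  exact key (z * n) (mul_mem hzN hn) (by rw [mul_smul, e, smul_back hz.sq rfl])

theorem lemF' {y : G} {a b c : Ω} (hab : a ≠ b) (hy : y ∈ Dd G a b) (hp : (orderOf y).Prime)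
    (hc : y • c = c) (h1 : c ≠ a) (h2 : c ≠ b) {x : Ω} (hx : y • x = x) :
    ∃ z ∈ 𝐂[y], Iv z ∧ z • x = x := by
  have : Fact (orderOf y).Prime := ⟨hp⟩
  have ho := h.toSE.odd_fix hab hy.1 hy.2
  have := h.lemF (p := orderOf y) (fun e => by rw [e] at ho; exact absurd ho (by decide)) _
    (zp_prime hp) (fix3_of hab (zpowers_le.2 hy) (zpowers_le.2 hc) h1 h2) (zpowers_le.2 hx)
  rwa [cent_zpowers] at this

theorem odd_card : Odd (Nat.card Ω) ∧ 3 ≤ Nat.card Ω := by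
  have : Fact (Nat.Prime 2) := ⟨Nat.prime_two⟩
  obtain ⟨u, hu⟩ := h.iv
  obtain ⟨a, ha⟩ := h.ex u hu
  have : Finite Ω := Finite.of_surjective (fun g : G => g • a) (h.tr a)
  constructor
  · have h1 := (isPGroup_of_card_eq_pow (n := 1) (H := zpowers u)
      (by rw [card_zpowers_iv hu, pow_one])).card_modEq_card_fixedPoints Ω
    have h2 : fixedPoints (zpowers u) Ω = {a} := by
      ext b
      refine ⟨fun hb => (h.un u hu a b ha (hb ⟨u, mem_zpowers u⟩)).symm, fun hb g => ?_⟩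
      rw [hb]
      exact zpowers_le.2 (show u ∈ stabilizer G a from ha) g.2
    rw [h2, Nat.card_coe_set_eq, Set.ncard_singleton] at h1
    exact Nat.odd_iff.2 h1
  · obtain ⟨b, hb⟩ := h.exists_ne a
    have := Fintype.ofFinite Ω
    rw [Nat.card_eq_fintype_card]
    exact Fintype.two_lt_card_iff.2 ⟨a, b, u • b, hb,
      fun e => hb (smul_left_cancel u (ha.trans e)), h.toSE.smul_ne hu ha hb⟩

theorem ms_of_reg {a b : Ω} (hab : a ≠ b) {Q : Subgroup G} (hQ : Q ⊴ stabilizer G a)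
    (htr : ∀ c, a ≠ c → ∃ q ∈ Q, q • b = c) (hf : Q ⊓ Dd G a b = ⊥) : Nonempty (MS G Ω) := by
  choose g hg using h.tr a
  have key : ∀ k : G, ∀ x, x ∈ MulAut.conj (g (k • a)) • Q ↔ k⁻¹ * x * k ∈ Q := fun k x => by
    rw [← mem_conj_smul_iff]
    have : k⁻¹ * g (k • a) ∈ stabilizer G a := by
      rw [mem_stabilizer_iff, mul_smul, hg, inv_smul_smul]
    rw [show g (k • a) = k * (k⁻¹ * g (k • a)) by group, map_mul, mul_smul,
      mem_normalizer_iff_conj_smul_eq.1 (hQ.norm this)]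
  have hne : ∀ {y z : Ω}, z ≠ y → a ≠ (g y)⁻¹ • z := fun {y z} hz e =>
    hz ((inv_smul_eq_iff.1 e.symm).trans (hg y))
  refine ⟨⟨fun y => MulAut.conj (g y) • Q, fun k y x hx => ?_, fun y x hx => ?_,
    fun y z w hz hw => ?_, fun y z hz x hx hxz => ?_,
    h.odd_card.1, h.odd_card.2, fun g y z hyz => h.toSE.odd_fix hyz⟩⟩
  · rw [← hg y, ← mul_smul, key]
    rw [mem_conj_smul_iff] at hx
    convert hx using 1
    group
  · have := conj_le_stab hQ.le (g y) hx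
    rwa [hg] at this
  · obtain ⟨q, hq, e⟩ := htr _ (hne hz)
    obtain ⟨q', hq', e'⟩ := htr _ (hne hw)
    refine ⟨_, conj_mem_conj_smul (g y) (mul_mem hq' (inv_mem hq)), ?_⟩
    rw [mul_smul, mul_smul, mul_smul, ← e, inv_smul_smul, e', smul_inv_smul]
  · obtain ⟨q, hq, e⟩ := htr _ (hne hz)
    rw [mem_conj_smul_iff] at hx
    have h1 := mul_mem (mul_mem (inv_mem hq) hx) hq
    have h2 := mem_bot.1 (hf.le ⟨h1, hQ.le h1, by
      change (q⁻¹ * ((g y)⁻¹ * x * g y) * q) • b = b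
      rw [mul_smul, e, mul_smul, mul_smul, mul_smul, smul_inv_smul, hxz, ← e, inv_smul_smul]⟩)
    rw [mul_assoc, inv_mul_eq_one, eq_comm, mul_eq_right, mul_assoc, inv_mul_eq_one, eq_comm,
      mul_eq_right] at h2
    exact h2

theorem exists_S {y : G} {a b c : Ω} (hab : a ≠ b) (hy : y ∈ Dd G a b) (hp : (orderOf y).Prime)
    (hc : y • c = c) (h1 : c ≠ a) (h2 : c ≠ b)
    (hr : ∃ u ∈ 𝐂[y], ∃ v ∈ 𝐂[y], Iv u ∧ Iv v ∧ u ≠ v ∧ u * v = v * u) :
    ∃ S : Subgroup G, S ⊴ 𝐂[y] ⊓ stabilizer G a ∧ IsPGroup 2 S ∧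
      ∀ x, y • x = x → a ≠ x → ∃ s ∈ S, s • b = x := by
  have : Fact (Nat.Prime 2) := ⟨Nat.prime_two⟩
  set X := 𝐂[y] with hX
  have hy1 : y ≠ 1 := fun e => by rw [e, orderOf_one] at hp; exact Nat.not_prime_one hp
  have hXt : X ≠ ⊤ := fun e => h.norm_ne_top (X := zpowers y) (by simpa using hy1)
    (h.ne_top (zpowers_le.2 hy.1)) (top_le_iff.1 (by
      rw [← e, hX, ← cent_zpowers]; exact centralizer_le_normalizer' _))
  obtain ⟨z, hzX, hz, hza⟩ := h.lemF' hab hy hp hc h1 h2 hy.1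
  have horb : ∀ x, y • x = x → a ≠ x → ∃ g ∈ X, g • a = x := fun x hx hax => by
    obtain ⟨w, hwX, hw, hwx⟩ := h.lemF' hab hy hp hc h1 h2 hx
    obtain ⟨g, -, -, h3, h4⟩ := h.toSE.exists_mid hz hw hza hwx hax
    exact ⟨g, h4 X hzX hwX, h3⟩
  obtain ⟨t, ht, htb⟩ := horb b hy.2 hab
  have hta : t • a ≠ a := htb ▸ hab.symm
  obtain ⟨u, huX, v, hvX, hu, hv, huv, hc'⟩ := hr
  obtain ⟨g, hg, rfl⟩ := h.toSE.conj_in hz hu hzX huX hza ht hta
  obtain ⟨N, B⟩ := h.bt hXt hzX (inv_conj_mem_of_mem_normalizer (le_normalizer hg) hvX) hz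
    (by simpa using hv.conj g⁻¹) (fun e => huv (by rw [e]; group))
    (by rw [← mul_right_inj g, ← mul_left_inj g⁻¹]; convert hc' using 1 <;> group) hza
    (fun e => hta (e ht))
  set O := core {2}ᶜ X with hO
  have hOn : O ⊴ X := core_nrm _ _
  have hOD : O ≤ Dd G a b := fun o ho => ⟨by simpa using (B.ker o (hOn.le ho)).1 ho 1 (one_mem _),
    htb ▸ (B.ker o (hOn.le ho)).1 ho t ht⟩
  have h3 := B.gen (X ⊓ 𝐂(O)) ⟨inf_le_left, fun x hx => mem_norm_inf (le_normalizer hx)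
    (normalizer_le_normalizer_centralizer _ (hOn.norm hx))⟩
    ⟨z, ⟨hzX, h.cent_of_norm hab hOD (hOn.norm hzX) hz hza⟩, hz⟩
  have hN0 : N ⊓ 𝐂(O) ⊴ X ⊓ stabilizer G a := ⟨inf_le_left.trans B.nrm.le, fun x hx =>
    mem_norm_inf (B.nrm.norm hx) (normalizer_le_normalizer_centralizer _ (hOn.norm hx.1))⟩
  obtain ⟨T, hT⟩ := exists_isSylowIn 2 (N ⊓ 𝐂(O))
  have h4 : N ⊓ 𝐂(O) ⊓ O ⊔ T = N ⊓ 𝐂(O) := by
    refine (isHall_singleton_iff.2 hT).sup_eq_of_relIndex inf_le_left ?_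
    rw [inf_comm, inf_relIndex_right, ← piGrp_quo_iff ((hN0.le.trans inf_le_left).trans hOn.norm)]
    refine piGrp_of_forall_piElt fun x hx => ?_
    obtain ⟨w, hw, rfl⟩ := (mem_quo_of_le ((hN0.le.trans inf_le_left).trans hOn.norm)).1 hx
    refine piElt_of_pow_eq_one (n := 4) ?_ (by
      intro q hq hd
      exact (Nat.prime_dvd_prime_iff_eq hq Nat.prime_two).1 (hq.dvd_of_dvd_pow (n := 2) hd))
    rw [← Mor.map_pow _ (hOn.norm (hN0.le hw).1)]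
    exact cos_eq_one (B.two w hw.1)
  have hOT : N ⊓ 𝐂(O) ⊓ O ≤ 𝐍(T) := inf_le_right.trans
    ((le_centralizer_comm.1 (hT.le.trans inf_le_right)).trans (centralizer_le_normalizer' _))
  have hTn : T ⊴ N ⊓ 𝐂(O) := ⟨hT.le, h4.ge.trans (sup_le hOT le_normalizer)⟩
  refine ⟨T, ((isHall_singleton_iff.2 hT).chr_of_nrm hTn).nrm_trans hN0, hT.isPGroup, fun x hx hax => ?_⟩
  obtain ⟨k, hk, rfl⟩ := horb x hx hax
  obtain ⟨n, hn, e⟩ := B.tr t ht k hk hta hax.symm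
  obtain ⟨n', hn', o, ho, rfl⟩ := (mem_sup_iff_of_norm
    (Or.inr (inf_le_left.trans hOn.norm))).1 (h3 hn)
  have h5 : n' ∈ N := by simpa using mul_mem hn (inv_mem (B.le ho))
  rw [sup_comm] at h4
  obtain ⟨s, hs, o', ho', rfl⟩ := (mem_sup_iff_of_norm (Or.inl hOT)).1 (h4.ge ⟨h5, hn'.2⟩)
  refine ⟨s, hs, ?_⟩
  rw [← e, htb, mul_smul, mul_smul, show o • b = b from (hOD ho).2,
    show o' • b = b from (hOD ho'.2).2]

theorem peel {a b : Ω} (hab : a ≠ b) (H : Subgroup G) (hn : H ⊴ stabilizer G a)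
    (htr : ∀ c, a ≠ c → ∃ q ∈ H, q • b = c)
    (hr : ∀ y ∈ H ⊓ Dd G a b, (orderOf y).Prime → ∀ c, y • c = c → c ≠ a → c ≠ b →
      ∃ u ∈ 𝐂[y], ∃ v ∈ 𝐂[y], Iv u ∧ Iv v ∧ u ≠ v ∧ u * v = v * u) : Nonempty (MS G Ω) := by
  induction H using WellFoundedLT.induction with | _ H ih => ?_
  have : Fact (Nat.Prime 2) := ⟨Nat.prime_two⟩
  by_cases h0 : H ⊓ Dd G a b = ⊥
  · exact h.ms_of_reg hab hn htr h0
  set D := H ⊓ Dd G a b with hD
  have hDo := h.toSE.odd_Dd hab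
  have hDo' : Odd (Nat.card D) := odd_of_le hDo inf_le_right
  obtain ⟨r, hrp, hrd⟩ := Nat.exists_prime_and_dvd (one_lt_relIndex
    (der1_lt_of_isSolvable (sol_of_odd hDo') h0).not_ge).ne'
  have : Fact r.Prime := ⟨hrp⟩
  have hr2 : r ≠ 2 := fun e =>
    absurd (hDo'.of_dvd_nat ((e ▸ hrd).trans (relIndex_dvd_card' _ _))) (by decide)
  have hHD : H ⊔ Dd G a b = stabilizer G a := le_antisymm (sup_le hn.le inf_le_left) fun g hg => by
    obtain ⟨q, hq, e⟩ := htr (g • b) fun e => hab (smul_left_cancel g (hg.trans e))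
    rw [show g = q * (q⁻¹ * g) by group]
    refine mul_mem_sup hq ⟨(stabilizer G a).mul_mem (inv_mem (hn.le hq)) hg, ?_⟩
    change (q⁻¹ * g) • b = b
    rw [mul_smul, ← e, inv_smul_smul]
  have key : ∀ y ∈ D, (orderOf y).Prime → ∀ c, y • c = c → c ≠ a → c ≠ b →
      ∃ S : Subgroup G, S ⊴ 𝐂[y] ⊓ stabilizer G a ∧ IsPGroup 2 S ∧ S ≤ H ∧
        ∀ x, y • x = x → a ≠ x → ∃ s ∈ S, s • b = x := fun y hy hp c hc h1 h2 => by
    obtain ⟨S, h3, h4, h5⟩ := h.exists_S hab hy.2 hp hc h1 h2 (hr y hy hp c hc h1 h2)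
    refine ⟨S, h3, h4, (piGrp_singleton_iff.2 h4).le_of_nrm_of_relIndex (h3.le.trans inf_le_right)
      hn.norm ?_, h5⟩
    rw [← hHD, relIndex_sup_left' (Or.inl (inf_le_left.trans hn.norm))]
    exact (odd_iff_piGrp.1 hDo).relIndex _
  obtain ⟨P, hP⟩ := exists_isSylowIn r D
  have hPD : ¬ P ≤ der 1 D := fun e => hP.not_dvd (hrd.trans (relIndex_dvd_of_le_left _ e))
  have hPH : IsSylowIn r P H := by
    rw [← isSylowIn_iff_normalizer]
    obtain ⟨R, hR, hPR⟩ := exists_isSylowIn_ge hP.isPGroup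
      (le_inf (hP.le.trans inf_le_left) (le_normalizer (H := P)))
    have hRH : R ≤ H := hR.le.trans inf_le_left
    suffices h1 : ∃ c, a ≠ c ∧ R ≤ stabilizer G c by
      obtain ⟨c, hc, h1⟩ := h1
      obtain ⟨q, hq, rfl⟩ := htr c hc
      have h2 : MulAut.conj q⁻¹ • R ≤ D := by
        refine le_inf (conj_smul_le_of_mem_normalizer (le_normalizer (inv_mem hq)) hRH) (le_inf
          (conj_smul_le_of_mem_normalizer (le_normalizer (inv_mem (hn.le hq))) (hRH.trans hn.le)) ?_)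
        simpa using conj_le_stab h1 q⁻¹
      obtain ⟨n, -, h3⟩ := hP.exists_le_conj (isPGroup_conj_smul hR.isPGroup _) h2
      have h4 := card_le_of_le h3
      rw [card_conj_smul, card_conj_smul] at h4
      exact (eq_of_le_of_card_ge hPR h4).symm ▸ hR
    obtain ⟨y, hy, hk⟩ := exists_prime_orderOf_of_ne_bot (inf_cen_ne_bot
      (isNilpotent_of_isPGroup hR.isPGroup) ⟨hPR, hR.le.trans inf_le_right⟩
      fun e => hPD (e ▸ bot_le))
    have hRC : R ≤ 𝐂[y] ⊓ stabilizer G a :=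
      le_inf (fun g hg => mem_cent1.2 (hy.2.2 g hg).symm) (hRH.trans hn.le)
    have hyD := hP.le hy.1
    have hfix : ∀ g ∈ R, y • g • b = g • b := fun g hg => by
      rw [← mul_smul, mem_cent1.1 (hRC hg).1, mul_smul, show y • b = b from hyD.2.2]
    have hne : ∀ g : G, g • a = a → a ≠ g • b := fun g hg e => hab (smul_left_cancel g (hg.trans e))
    by_cases h1 : R ≤ stabilizer G b
    · exact ⟨b, hab, h1⟩
    obtain ⟨g, hg, h2⟩ := SetLike.not_le_iff_exists.1 h1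
    obtain ⟨S, h3, h4, -, h5⟩ := key y hyD hk _ (hfix g hg) (hne g (hRC hg).2).symm h2
    obtain ⟨s, hs, e⟩ := exists_fixed_of_coprime (A := R) (N := S) (hRC.trans h3.norm)
      ((odd_iff_piGrp.1 (odd_of_isPGroup hr2 hR.isPGroup)).coprime_of_isPGroup h4).symm
      (Or.inl (sol_of_odd (odd_of_isPGroup hr2 hR.isPGroup))) b
      fun g hg => h5 _ (hfix g hg) (hne g (hRC hg).2)
    exact ⟨_, hne s (h3.le hs).2, e⟩
  have hfoc : P ⊓ der 1 H ≤ der 1 D := by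
    rw [focal_subgroup_gen hPH, closure_le]
    rintro _ ⟨x0, hx0, u, hu, hx, rfl⟩
    suffices h1 : ∃ d ∈ D, d * x0 * d⁻¹ = u * x0 * u⁻¹ by
      obtain ⟨d, hd, e⟩ := h1
      rw [← e, der_one, show x0⁻¹ * (d * x0 * d⁻¹) = ⁅x0⁻¹, d⁆ by
        simp only [commutatorElement_def]; group]
      exact commutator_mem_commutator (inv_mem (hP.le hx0)) hd
    by_cases h1 : u • b = b
    · exact ⟨u, ⟨hu, hn.le hu, h1⟩, rfl⟩
    by_cases h2 : x0 = 1
    · exact ⟨1, one_mem _, by simp [h2]⟩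
    set x := u * x0 * u⁻¹ with hxe
    have hxD : x ∈ H ⊓ Dd G a b := hP.le hx
    have hxu : x • u • b = u • b := conj_fix (hP.le hx0).2.2 u
    obtain ⟨k, hk⟩ := Suz2T.exists_prime_pow (g := x) (by simpa [hxe] using h2)
    have hub : a ≠ u • b := fun e => hab (smul_left_cancel u ((hn.le hu).trans e))
    obtain ⟨S, h3, h4, h5, h6⟩ := key _ (pow_mem hxD k) hk _ (pow_smul_eq hxu k) hub.symm h1
    obtain ⟨s, hs, e⟩ := h6 _ (pow_smul_eq hxu k) hub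
    have h7 : x * s * x⁻¹ ∈ S := h3.conj_mem ⟨mem_cent1.2 (Commute.self_pow x k).eq.symm, hxD.2.1⟩ hs
    have h8 : s⁻¹ * (x * s * x⁻¹) = 1 := by
      have h9 := mul_mem (inv_mem hs) h7
      obtain ⟨j, hj⟩ := h4 ⟨_, h9⟩
      refine eq_one_of_pow_two (h.toSE.odd_fix hab (h3.le h9).2 ?_) (pow_orderOf_eq_one _)
        (congrArg Subtype.val hj)
      rw [mul_smul, mul_smul, mul_smul, show x⁻¹ • b = b from (inv_mem hxD).2.2, e, hxu, ← e,
        inv_smul_smul]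
    have h9 : s⁻¹ * u ∈ H := mul_mem (inv_mem (h5 hs)) hu
    refine ⟨s⁻¹ * u, ⟨h9, hn.le h9, ?_⟩, ?_⟩
    · change (s⁻¹ * u) • b = b
      rw [mul_smul, ← e, inv_smul_smul]
    · rw [show s⁻¹ * u * x0 * (s⁻¹ * u)⁻¹ = s⁻¹ * (x * s * x⁻¹) * x by rw [hxe]; group, h8, one_mul]
  have hJ := der_nrm 1 H
  have hE : eltGen {r}ᶜ H ≤ coreMod (der 1 H) {r}ᶜ H := (closure_le _).2 fun x hx => by
    refine le_coreMod hJ (nrm_of_der1_le (K := der 1 H ⊔ zpowers x) le_sup_left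
      (sup_le hJ.le (zpowers_le.2 hx.1))) ?_ (mem_sup_right (mem_zpowers x))
    rw [relIndex_sup_left' (Or.inl ((zpowers_le.2 hx.1).trans hJ.norm))]
    exact (piGrp_zpowers_iff.2 hx.2).relIndex _
  have hlt : eltGen {r}ᶜ H < H := lt_of_le_of_ne (eltGen_le _ _) fun e => by
    have h1 := (coreMod_eq_self_iff hJ).1 (le_antisymm (coreMod_le _ _ _) (e.ge.trans hE))
    exact hPD ((le_inf le_rfl ((piGrp_singleton_iff.2 hP.isPGroup).le_of_nrm_of_relIndex hPH.le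
      hJ.norm h1)).trans hfoc)
  have hEP := (isHall_singleton_iff.2 hPH).sup_eq_of_relIndex (eltGen_le {r}ᶜ H)
    (by simpa using piNat_relIndex_eltGen {r}ᶜ H)
  refine ih _ hlt ((eltGen_chr _ _).nrm_trans hn) (fun c hc => ?_)
    fun y hy => hr y ⟨hlt.le hy.1, hy.2⟩
  obtain ⟨q, hq, rfl⟩ := htr c hc
  obtain ⟨e, he, d, hd, rfl⟩ := (mem_sup_iff_of_norm
    (Or.inl (hPH.le.trans (eltGen_chr _ _).nrm.norm))).1 (hEP.ge hq)
  exact ⟨e, he, by rw [mul_smul, show d • b = b from (hP.le hd).2.2]⟩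

theorem W_le_cent {t : G} (ht : Iv t) {a b : Ω} (hab : a ≠ b) (htab : t • a = b) :
    𝐂(Aa G a) ⊓ Dd G a b ≤ 𝐂[t] := by
  refine le_of_forall_sylow_le fun r hr hd => ?_
  have : Fact r.Prime := ⟨hr⟩
  have h2 : r ≠ 2 := by
    rintro rfl
    exact absurd ((odd_of_le (h.toSE.odd_Dd hab) inf_le_right).of_dvd_nat hd) (by decide)
  obtain ⟨M, hM⟩ := exists_isSylowIn r (𝐂(Aa G a) ⊓ Dd G a b)
  obtain ⟨z, hz, hza⟩ := h.toSE.exists_iv_fix a
  have hzM : z ∈ 𝐂(M) := fun x hx => (mem_cent_Aa.1 (hM.le hx).1 z hz hza).symm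
  have hMD : M ≤ Dd G a b := hM.le.trans inf_le_right
  have hMb := hMD.trans inf_le_right
  obtain ⟨z', hzU, hz', hzc⟩ := h.lemF h2 M hM.isPGroup (fix3_of hab hMD
    (le_stab_of_norm hMb (centralizer_le_normalizer' _ hzM))
    (fun e => hab (smul_left_cancel z (hza.trans e.symm))) (h.toSE.smul_ne hz hza hab).symm) hMb
  obtain ⟨w, hw, -, hwa, hwM⟩ := h.toSE.exists_mid hz hz' hza hzc hab
  obtain ⟨d, hd, rfl⟩ := h.toSE.swap_conj hw ht hab hwa htab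
  refine ⟨MulAut.conj d • M, hM.conj_smul_of_mem_normalizer
    (mem_norm_inf ((h.toSE.C_nrm a).norm hd.1) (le_normalizer hd)), ?_⟩
  rw [cent1_conj_smul, conj_smul_le_iff, ← cent_zpowers, le_centralizer_comm, zpowers_le]
  exact hwM _ hzM hzU

theorem caseW {a b : Ω} (hab : a ≠ b) (hW : 𝐂(Aa G a) ⊓ Dd G a b ≠ ⊥) : Nonempty (MS G Ω) := by
  have : Fact (Nat.Prime 2) := ⟨Nat.prime_two⟩
  set C := 𝐂(Aa G a) with hC
  have hCn := h.toSE.C_nrm a
  have hDo := h.toSE.odd_Dd hab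
  obtain ⟨r, hr, hd⟩ := Nat.exists_prime_and_dvd (mt card_eq_one.1 hW)
  have : Fact r.Prime := ⟨hr⟩
  have hr2 : r ≠ 2 := fun e =>
    absurd ((odd_of_le hDo inf_le_right).of_dvd_nat (e ▸ hd)) (by decide)
  obtain ⟨R, hR⟩ := exists_isSylowIn r (C ⊓ Dd G a b)
  obtain ⟨t, ht, hta⟩ := h.toSE.exists_swap hab
  have hRD := hR.le.trans inf_le_right
  have hcN := centralizer_le_normalizer' R
  have htY : t ∈ 𝐍(R) := hcN fun x hx => (mem_cent1.1 (h.W_le_cent ht hab hta (hR.le hx))).symm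
  have hta' : t • a ≠ a := hta ▸ hab.symm
  have hI : ∀ v, Iv v → v • a = a → v ∈ 𝐍(R) := fun v hv hva =>
    hcN fun x hx => (mem_cent_Aa.1 (hR.le hx).1 v hv hva).symm
  have hY := h.norm_ne_top (hR.ne_bot hd) (h.ne_top (hRD.trans inf_le_left))
  have hY' : ¬ 𝐍(R) ≤ stabilizer G a := fun e => hta' (e htY)
  obtain ⟨N, B⟩ := h.bt' hY hI hY'
  have hNC : N ≤ C := fun n hn => mem_cent_Aa.2 fun w hw hwa => by
    have h1 := B.cen w (hI w hw hwa) hw hwa n hn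
    have h2 := h.inv_one hY (hI w hw hwa) hw hwa hY' (core_le _ _ h1)
      (B.nrm.le (mul_mem (B.nrm.conj_mem (B.nrm.le hn) (B.iv w (hI w hw hwa) hw hwa))
        (B.iv w (hI w hw hwa) hw hwa))).2
      (odd_mem (odd_core _) h1) (by
        rw [mul_assoc, cancel_sq' hw.sq]; simp [mul_assoc, hw.inv])
    rw [mul_eq_one_iff_eq_inv, hw.inv, mul_inv_eq_iff_eq_mul] at h2
    exact h2.symm
  have h3 := B.le_sup htY hta'
  have h4 := B.not_dvd hr2 htY hta'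
  rw [hta] at h3 h4
  have hRC : IsSylowIn r R C := by
    rw [← isSylowIn_iff_normalizer]
    refine isSylowIn_trans_of_not_dvd (isSylowIn_iff_normalizer.2 hR)
      (inf_le_inf_right _ inf_le_left) fun e => h4 (e.trans ?_)
    have h5 : C ⊓ 𝐍(R) ⊴ 𝐍(R) ⊓ stabilizer G a := ⟨le_inf inf_le_right (inf_le_left.trans hCn.le),
      fun x hx => mem_norm_inf (hCn.norm hx.2) (le_normalizer hx.1)⟩
    have := relIndex_dvd_of_nrm h5 (Dd G a b)
    rwa [← inf_relIndex_right, ← inf_relIndex_right (Dd G a b) (𝐍(R) ⊓ stabilizer G a),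
      show Dd G a b ⊓ (C ⊓ 𝐍(R)) = C ⊓ Dd G a b ⊓ 𝐍(R) by ac_rfl,
      show Dd G a b ⊓ (𝐍(R) ⊓ stabilizer G a) = 𝐍(R) ⊓ Dd G a b by
        rw [inf_comm 𝐍(R), ← inf_assoc, inf_eq_left.2 inf_le_left, inf_comm]] at this
  refine h.peel hab C hCn (fun c hc => ?_) fun y hy _ _ _ _ _ => ?_
  · obtain ⟨g, hg, rfl⟩ := h.two_trans hab hc
    obtain ⟨n, hn, e⟩ := hRC.frattini (hCn.norm hg)
    obtain ⟨x, hx, d, hd, e'⟩ := (mem_sup_iff_of_norm (Or.inl
      ((inf_le_inf_left _ inf_le_left).trans B.nrm.norm))).1 (h3 ⟨e, (stabilizer G a).mul_mem (inv_mem (hCn.le hn)) hg⟩)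
    refine ⟨n * x, mul_mem hn (hNC hx), ?_⟩
    rw [← mul_inv_cancel_left n g, ← e', mul_smul, mul_smul, mul_smul, show d • b = b from hd.2.2]
  · obtain ⟨u, v, hu, hv, h5, h6, h7, h8⟩ := h.pair a
    exact ⟨u, mem_cent1.2 (mem_cent_Aa.1 hy.1 u hu h7).symm, v,
      mem_cent1.2 (mem_cent_Aa.1 hy.1 v hv h8).symm, hu, hv, h5, h6⟩

end GH

end Cfsg.Agent.Bender
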