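import Cfsg.Agent.Bender.G10
import Cfsg.Agent.FT.BG4
import Cfsg.Agent.FT.Wielandt

/-! The case of an element of prime order whose centraliser has `2`-rank one. -/

set_option autoImplicit false
set_option linter.unusedSectionVars false

namespace Cfsg.Agent.Bender

open Subgroup MulAction Cfsg.Agent.Local Cfsg.Agent.FT Cfsg.Agent.Suz2T
open scoped Pointwise commutatorElement

universe u

section
variable {G : Type*} [Group G] [Finite G]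

theorem relIndex_cent_le {R Y Z : Subgroup G} (h : der 1 R ≤ Z) (hY : Y ≤ R) {x : G} (hx : x ∈ R) :
    𝐂[x].relIndex Y ≤ Nat.card Z := by
  rw [← ncard_conjIn]
  refine (Set.ncard_le_ncard ?_ (Set.toFinite _)).trans
    (Set.ncard_image_of_injective (Z : Set G) (mul_left_injective x)).le
  rintro _ ⟨g, hg, rfl⟩
  exact ⟨⁅g, x⁆, h (der_one R ▸ commutator_mem_commutator (hY hg) hx), by
    simp [commutatorElement_def]⟩

theorem inverted_of {D B : Subgroup G} (hD : Odd (Nat.card D)) {t : G} (ht : t * t = 1)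
    (hn : t ∈ 𝐍(D)) (hB : B ⊴ D) (htB : t ∈ 𝐍(B)) (h : B ⊓ 𝐂[t] = ⊥) :
    (∀ b ∈ B, t * b * t = b⁻¹) ∧ ⁅D, zpowers t⁆ ≤ 𝐂(B) := by
  have h1 : ∀ b ∈ B, t * b * t = b⁻¹ := fun b hb => by
    obtain ⟨c, hc, k, -, h2, h3, rfl⟩ := exists_cent_inv (odd_of_le hD hB.le) ht htB hb
    rwa [mem_bot.1 (h.le ⟨hc, h2⟩), one_mul]
  refine ⟨h1, W_le ht hn fun k hk e b hb => ?_⟩
  have h2 := h1 _ (hB.conj_mem hk hb)
  rw [conj_mul_sq ht, conj_mul_sq ht, conj_inv_sq ht, e, h1 b hb] at h2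
  have h3 : Commute (k ^ 2) b := by
    rw [← Commute.inv_right_iff, Commute, SemiconjBy, sq, ← mul_right_inj k⁻¹, ← mul_left_inj k⁻¹]
    rw [← inv_inj]
    convert congrArg (·⁻¹) h2.symm using 1 <;> group
  obtain ⟨j, hj⟩ := odd_mem hD hk
  have h4 := (h3.pow_left (j + 1)).symm.eq
  rwa [← pow_mul, show 2 * (j + 1) = orderOf k + 1 by omega, pow_succ, pow_orderOf_eq_one,
    one_mul] at h4

theorem comm_abelian {D : Subgroup G} (hD : Odd (Nat.card D)) {t : G} (ht : t * t = 1)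
    (hn : t ∈ 𝐍(D)) (h1 : ∀ B, B ⊴ D → IsMulCommutative B → B ⊓ 𝐂[t] = ⊥)
    (h2 : ∀ x ∈ D ⊓ 𝐂[t], x ≠ 1 → ∀ Y, Y ≤ D ⊓ 𝐂[x] → IsMulCommutative Y →
      (∀ k ∈ Y, t * k * t = k⁻¹) → IsCyclic Y)
    (h4 : ∀ N, N ⊴ D → D ⊓ 𝐂[t] ≤ N → N = D) : IsMulCommutative ↥⁅D, zpowers t⁆ := by
  by_contra H
  set L := ⁅D, zpowers t⁆ with hL
  have hLD : L ≤ D := commutator_le_left_iff.2 (zpowers_le.2 hn)
  obtain ⟨R, -, hR⟩ := exists_minimal_le_of_wellFoundedLT (fun R : Subgroup G => R ≤ L ∧ D ≤ 𝐍(R) ∧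
    t ∈ 𝐍(R) ∧ ¬ IsMulCommutative R) L ⟨le_rfl, le_norm_commutator_left _ _,
      le_norm_commutator_right _ _ (mem_zpowers t), H⟩
  obtain ⟨hRL, hDR, htR, hRa⟩ := hR.prop
  have hRD := hRL.trans hLD
  have hRo := odd_of_le hD hRD
  set Z := cen R with hZ
  have key : ∀ M, M < R → D ≤ 𝐍(M) → t ∈ 𝐍(M) → M ≤ Z := fun M e1 e2 e3 => by
    have e4 : IsMulCommutative M := by_contra fun e =>
      e1.not_ge (hR.le_of_le ⟨e1.le.trans hRL, e2, e3, e⟩ e1.le)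
    have e5 : M ⊴ D := ⟨e1.le.trans hRD, e2⟩
    exact le_inf e1.le (le_centralizer_comm.1
      (hRL.trans (inverted_of hD ht hn e5 e3 (h1 M e5 e4)).2))
  have key' : ∀ M, Chr M R → M ≠ R → M ≤ Z := fun M e1 e2 =>
    key M (e1.nrm.le.lt_of_ne e2) (e1.le_norm hDR) (e1.norm_le htR)
  have hR1 : R ≠ ⊥ := fun e => hRa (e ▸ inferInstance)
  have hdZ : der 1 R ≤ Z := key' _ (der_chr 1 R) (der1_lt_of_isSolvable (sol_of_odd hRo) hR1).ne
  have hnil : Group.IsNilpotent R := isNilpotent_iff_lcn.2 ⟨2, lcn_two_eq_bot_iff.2 hdZ⟩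
  have hZa := isMulCommutative_cen R
  have hab : ∀ M, M ≤ Z → IsMulCommutative M := fun M e => isMulCommutative_iff.2 fun a ha b hb =>
    isMulCommutative_iff.1 hZa a (e ha) b (e hb)
  obtain ⟨p, hp, hpa⟩ : ∃ p : ℕ, p.Prime ∧ ¬ IsMulCommutative (core {p} R) := by
    by_contra! e
    exact hRa (isMulCommutative_of_nil_of_forall_core hnil e)
  have : Fact p.Prime := ⟨hp⟩
  have hP : IsPGroup p R := by
    rw [← of_not_not (mt (fun e => hab _ (key' _ (core_chr {p} R) e)) hpa)]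
    exact piGrp_singleton_iff.1 (piGrp_core _ _)
  have hZn : Z ⊴ D := (cen_chr R).nrm_trans ⟨hRD, hDR⟩
  have hZt := h1 Z hZn hZa
  have hZi := (inverted_of hD ht hn hZn ((cen_chr R).norm_le htR) hZt).1
  have hV : R ⊓ 𝐂[t] ≠ ⊥ := fun e => hRa (isMulCommutative_iff.2 fun a ha b hb => by
    have e1 := (inverted_of hD ht hn ⟨hRD, hDR⟩ htR e).1
    have := e1 _ (mul_mem ha hb)
    rw [conj_mul_sq ht, e1 a ha, e1 b hb, ← mul_inv_rev, inv_inj] at this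
    exact this.symm)
  obtain ⟨x, hx, hxp⟩ := exists_prime_orderOf_of_ne_bot hV
  have hx1 : x ≠ 1 := fun e => by rw [e, orderOf_one] at hxp; exact Nat.not_prime_one hxp
  have hO : Ohm 1 R = R := by_contra fun e => hx1 (mem_bot.1 (hZt.le
    ⟨key' _ (Ohm_chr 1 R) e (mem_Ohm1 hxp hx.1 (pow_orderOf_eq_one x)), hx.2⟩))
  have hp2 : Odd p := hp.odd_of_ne_two fun e => by
    obtain ⟨k, hk⟩ := hP ⟨x, hx.1⟩
    exact hx1 (eq_one_of_pow_two (odd_mem hRo hx.1) (pow_orderOf_eq_one x)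
      (e ▸ congrArg Subtype.val hk))
  have hexp : ∀ g ∈ R, g ^ p = 1 := fun g hg =>
    Ohm1_pow_eq_one_of_class_two hp2 hP hdZ g (hO.ge hg)
  have hcm : ∀ a ∈ R, ∀ b ∈ R, ⁅a, b⁆ ∈ Z := fun a ha b hb =>
    hdZ (der_one R ▸ commutator_mem_commutator ha hb)
  have hYc : ∀ a ∈ R, ∀ b ∈ R, t * a * t = a⁻¹ → t * b * t = b⁻¹ → a * b = b * a := by
    intro a ha b hb e1 e2
    rw [← commutatorElement_eq_one_iff_mul_comm]
    refine mem_bot.1 (hZt.le ⟨hcm a ha b hb, (mem_cent1_sq ht).2 ?_⟩)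
    have e3 := (hcm a ha b hb).2 _ (mul_mem hb ha)
    rw [commutatorElement_def, conj_mul_sq ht, conj_mul_sq ht, conj_mul_sq ht, conj_inv_sq ht,
      conj_inv_sq ht, e1, e2, ← mul_right_inj (b * a), ← commutatorElement_def a b, e3,
      commutatorElement_def]
    group
  let Y : Subgroup G :=
    { carrier := {k | k ∈ R ∧ t * k * t = k⁻¹}
      one_mem' := ⟨one_mem _, by simp [ht]⟩
      mul_mem' := fun {a b} ha hb => ⟨mul_mem ha.1 hb.1, by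
        rw [conj_mul_sq ht, ha.2, hb.2, hYc a ha.1 b hb.1 ha.2 hb.2, mul_inv_rev]⟩
      inv_mem' := fun {a} ha => ⟨inv_mem ha.1, inverts_inv ht ha.2⟩ }
  have hYR : Y ≤ R := fun _ h => h.1
  have hZY : Z ≤ Y := fun z hz => ⟨hz.1, hZi z hz⟩
  have hZ1 : Z ≠ ⊥ := cen_ne_bot hnil hR1
  have hYx : ∀ x ∈ R ⊓ 𝐂[t], x ≠ 1 → Y ⊓ 𝐂[x] = Z ∧ Nat.card Z = p := fun x hx hx1 => by
    have e1 : IsMulCommutative ↥(Y ⊓ 𝐂[x]) := isMulCommutative_iff.2 fun a ha b hb =>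
      hYc a ha.1.1 b hb.1.1 ha.1.2 hb.1.2
    have e2 : Z ≤ Y ⊓ 𝐂[x] := le_inf hZY fun z hz => mem_cent1.2 (hz.2 x hx.1)
    have e3 := isEA_card_eq_of_isCyclic (p := p) (isEA_iff.2 ⟨e1, fun g hg => hexp g hg.1.1⟩)
      (h2 x ⟨hRD hx.1, hx.2⟩ hx1 _ (inf_le_inf_right _ (hYR.trans hRD)) e1 fun k hk => hk.1.2)
      fun e => hZ1 (le_bot_iff.1 (e ▸ e2))
    have e4 := (eq_bot_or_eq_of_card_prime (e3 ▸ hp) e2).resolve_left hZ1
    exact ⟨e4.symm, e4 ▸ e3⟩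
  have hmul : MulEq (R ⊓ 𝐂[t]) Y R := mulEq_of_forall inf_le_left hYR fun g hg => by
    obtain ⟨c, hc, k, hk, e1, e2, rfl⟩ := exists_cent_inv hRo ht htR hg
    exact ⟨c, ⟨hc, e1⟩, k, ⟨hk, e2⟩, rfl⟩
  have hMa : IsMulCommutative ↥(R ⊓ 𝐂[t] ⊔ Z) := isMulCommutative_sup
    (isMulCommutative_iff.2 fun a ha b hb => commutatorElement_eq_one_iff_mul_comm.1
      (mem_bot.1 (hZt.le ⟨hcm a ha.1 b hb.1, commutator_le_of_le (H := 𝐂[t]) inf_le_right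
        inf_le_right (commutator_mem_commutator ha hb)⟩))) hZa
    (inf_le_right.trans (cent_anti inf_le_left))
  have hMR : R ⊓ 𝐂[t] ⊔ Z ≤ R := sup_le inf_le_left inf_le_left
  suffices hM : D ≤ 𝐍(R ⊓ 𝐂[t] ⊔ Z) from hV (le_bot_iff.1 ((le_inf le_sup_left inf_le_right).trans
    (h1 _ ⟨hMR.trans hRD, hM⟩ hMa).le))
  obtain ⟨k, hk, hkZ⟩ : ∃ k ∈ Y, k ∉ Z := by
    by_contra! e
    refine hRa ?_
    rwa [le_antisymm hMR (hmul.sup_eq.ge.trans (sup_le_sup_left e _))] at hMa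
  obtain ⟨e1, e2⟩ := hYx x hx hx1
  have hc1 : Nat.card Y ≤ p * p := by
    rw [← card_mul_relIndex (inf_le_left : Y ⊓ 𝐂[x] ≤ Y), inf_comm, inf_relIndex_right, inf_comm,
      e1, e2]
    exact Nat.mul_le_mul_left _ (e2 ▸ relIndex_cent_le hdZ hYR hx.1)
  have hc2 : Nat.card ↥(R ⊓ 𝐂[t]) ≤ p := by
    have e3 : R ⊓ 𝐂[t] ⊓ 𝐂[k] = ⊥ := le_bot_iff.1 fun g hg => by_contra fun e =>
      hkZ ((hYx g hg.1 e).1.le ⟨hk, mem_cent1.2 (mem_cent1.1 hg.2).symm⟩)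
    rw [← card_mul_relIndex (inf_le_left : R ⊓ 𝐂[t] ⊓ 𝐂[k] ≤ _), inf_comm _ 𝐂[k],
      inf_relIndex_right, inf_comm 𝐂[k], e3, card_bot, one_mul]
    exact e2 ▸ relIndex_cent_le hdZ inf_le_left hk.1
  have hc3 : Nat.card R ≤ p ^ 3 := by
    have := hmul.card
    have e3 : 0 < Nat.card ↥(R ⊓ 𝐂[t] ⊓ Y) := Nat.card_pos
    have e4 := Nat.mul_le_mul hc2 hc1
    nlinarith
  have hrk : rk R ≤ 2 := by
    rw [rk_eq_pRk hP]
    by_contra! e
    obtain ⟨E, hE⟩ := le_pRk_iff.1 e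
    exact hRa (eq_of_le_of_card_ge hE.1 (hE.2.2 ▸ hc3) ▸ isEA_comm hE.2.1)
  have h5 := der1_Aut_rank2_pgroup hP hRo hrk hDR (sol_of_odd hD) hD
  obtain ⟨P, hS⟩ := exists_isSylowIn p (der 1 D)
  have hPR := (hS.le.trans (der_le 1 D)).trans hDR
  have h6 := (isHall_singleton_iff.2 hS).sup_eq_of_relIndex (N := 𝐂(R) ⊓ der 1 D) inf_le_right
    (by rwa [inf_relIndex_right])
  have h7 : ⁅R, der 1 D⁆ < R := by
    refine lt_of_le_of_lt ?_ (commutator_lt_of_nil (isNilpotent_of_isPGroup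
      (IsPGroup.to_sup_of_normal_left' hP hS.isPGroup hPR)) le_sup_left le_sup_right hPR hR1)
    rw [← h6]
    refine commutator_sup_right_le ?_ le_rfl (sup_le (inf_le_left.trans ((cent_anti
      (commutator_le_left_iff.2 hPR)).trans (centralizer_le_normalizer' _)))
      (le_norm_commutator_right _ _))
    rw [FT.commutator_eq_bot_iff.2 inf_le_left]
    exact bot_le
  have h8 := key _ h7 (fun g hg => mem_norm_comm (hDR hg) ((der_nrm 1 D).norm hg))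
    (mem_norm_comm htR ((der_chr 1 D).norm_le hn))
  refine (h4 (D ⊓ 𝐍(R ⊓ 𝐂[t] ⊔ Z)) (nrm_of_der1_le (le_inf (der_le 1 D) ?_) inf_le_left)
    (le_inf inf_le_left fun g hg => mem_norm_sup (mem_norm_inf (hDR hg.1) (le_normalizer hg.2))
      (hZn.norm hg.1))).ge.trans inf_le_right
  exact commutator_le_left_iff.1 (((commutator_mono hMR le_rfl).trans h8).trans le_sup_right)

end

variable {G Ω : Type u} [Group G] [Finite G] [MulAction G Ω]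

/-- the configuration in the case of `2`-rank one -/
structure RO (a b : Ω) (K : Subgroup G) (s : ℕ) : Prop extends SE G Ω where
  ne : a ≠ b
  two : ∀ c, a ≠ c → ∃ g : G, g • a = a ∧ g • b = c
  comm : ∀ u v : G, Iv u → Iv v → u • a = a → v • a = a → u * v = v * u
  prime : s.Prime
  odd : s ≠ 2
  cardI : (Ts G a a).ncard + 1 = 2 ^ s
  cardK : Nat.card K = (Ts G a a).ncard
  le : K ≤ Dd G a b
  ab : IsMulCommutative K
  ktr : ∀ u v : G, Iv u → Iv v → u • a = a → v • a = a → ∃ k ∈ K, k * u * k⁻¹ = v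
  ktwo : ∀ k ∈ K, k ≠ 1 → ∀ c, k • c = c → c = a ∨ c = b
  cent : ∀ k ∈ K, k ≠ 1 → 𝐂[k] ≤ K
  norm : ∀ g, g ∈ 𝐍(K) ↔ g ∈ Dd G a b ∨ g • a = b ∧ g • b = a
  cardC : ∀ u : G, Iv u → u • a = a → Nat.card ↥(Dd G a b ⊓ 𝐂[u]) = s
  uniq : ∀ d ∈ Dd G a b, d ≠ 1 → ∀ u v : G, Iv u → Iv v → u • a = a → v • a = a →
    d ∈ 𝐂[u] → d ∈ 𝐂[v] → u = v

theorem SE.exists_K (S : SE G Ω) {t u v : G} (ht : Iv t) {a b : Ω} (hab : a ≠ b) (hta : t • a = b)
    (hu : Iv u) (hv : Iv v) (hua : u • a = a) (hva : v • a = a) :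
    ∃ k ∈ Dd G a b, t * k * t = k⁻¹ ∧ k * u * k⁻¹ = v := by
  obtain ⟨w, hw, e, hwa, -⟩ := S.exists_mid hu (hv.conj' ht.sq) hua (conj_fix' ht.sq hva hta) hab
  refine ⟨t * w, ⟨?_, ?_⟩, ?_, ?_⟩
  · change (t * w) • a = a
    rw [mul_smul, hwa, smul_back ht.sq hta]
  · change (t * w) • b = b
    rw [mul_smul, smul_back hw.sq hwa, hta]
  · rw [cancel_sq ht.sq, mul_inv_rev, ht.inv, hw.inv]
  · rw [mul_inv_rev, ht.inv, hw.inv, show t * w * u * (w * t) = t * (w * u * w) * t by group, e,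
      mul_assoc t v, cancel_sq ht.sq, cancel_sq' ht.sq]

theorem exists_A' {a : Ω} {X : Subgroup G}
    (h : ∀ u ∈ X, ∀ v ∈ X, Iv u → Iv v → u • a = a → v • a = a → u * v = v * u) :
    ∃ A : Subgroup G, ∀ x, x ∈ A ↔ x ∈ X ∧ x * x = 1 ∧ x • a = a :=
  ⟨{ carrier := {x | x ∈ X ∧ x * x = 1 ∧ x • a = a}
     one_mem' := by simp
     mul_mem' := fun {x y} hx hy => ⟨mul_mem hx.1 hy.1, by
       by_cases e1 : x = 1
       · simpa [e1] using hy.2.1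
       by_cases e2 : y = 1
       · simpa [e2] using hx.2.1
       nth_rw 1 [h x hx.1 y hy.1 ⟨hx.2.1, e1⟩ ⟨hy.2.1, e2⟩ hx.2.2 hy.2.2]
       rw [mul_assoc, cancel_sq hx.2.1, hy.2.1], by rw [mul_smul, hy.2.2, hx.2.2]⟩
     inv_mem' := fun {x} hx => by rwa [inv_of_sq hx.2.1] }, fun _ => Iff.rfl⟩

theorem exists_A {a : Ω} (h : ∀ u v : G, Iv u → Iv v → u • a = a → v • a = a → u * v = v * u) :
    ∃ A : Subgroup G, (∀ x, x ∈ A ↔ x * x = 1 ∧ x • a = a) ∧ EA2 A ∧ A ⊴ stabilizer G a ∧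
      Nat.card A = (Ts G a a).ncard + 1 := by
  obtain ⟨A, hA⟩ := exists_A' (X := ⊤) fun u _ v _ => h u v
  simp only [mem_top, true_and] at hA
  refine ⟨A, hA, fun _ hx => ((hA _).1 hx).1, nrm_of_conj_mem (fun _ hx => ((hA _).1 hx).2)
    fun g hg x hx => (hA _).2 ⟨by rw [conj_mul, ((hA _).1 hx).1]; simp,
      hg ▸ conj_fix ((hA _).1 hx).2 g⟩, ?_⟩
  have : Ts G a a = nt A := by
    ext x
    rw [mem_nt_iff, hA]
    exact ⟨fun hx => ⟨⟨hx.1.sq, hx.2⟩, hx.1.ne⟩, fun hx => ⟨⟨hx.1.1, hx.2⟩, hx.1.2⟩⟩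
  rw [this, ncard_nt_eq, Nat.sub_add_cancel Nat.card_pos]

namespace GH

variable (h : GH G Ω)
include h

theorem cent_ne_top {y : G} {a : Ω} (hy1 : y ≠ 1) (hy : y • a = a) : 𝐂[y] ≠ ⊤ := fun e =>
  h.norm_ne_top (X := zpowers y) (by simpa using hy1) (h.ne_top (zpowers_le.2 hy))
    (top_le_iff.1 (by rw [← e, ← cent_zpowers]; exact centralizer_le_normalizer' _))

theorem comm_of_cent {x u v : G} {a b : Ω} (hab : a ≠ b) (hx : x ∈ Dd G a b) (hx1 : x ≠ 1)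
    (hu : Iv u) (hv : Iv v) (hua : u • a = a) (hva : v • a = a) (h1 : x ∈ 𝐂[u]) (h2 : x ∈ 𝐂[v]) :
    u * v = v * u := by
  obtain ⟨k, hk⟩ := Suz2T.exists_prime_pow hx1
  have h3 := pow_mem hx k
  have h4 := mem_cent1.1 (pow_mem h1 k)
  obtain ⟨z, h5, hz, hzb⟩ := h.lemF' hab h3 hk (c := u • b)
    (by rw [← mul_smul, ← h4, mul_smul, show x ^ k • b = b from h3.2])
    (fun e => hab (smul_left_cancel u (hua.trans e.symm))) (h.toSE.smul_ne hu hua hab).symm h3.2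
  refine h.comm_in (h.cent_ne_top (fun e => ?_) h3.1) (fun e => hab (h.un z hz a b (e h5) hzb))
    hu hv (mem_cent1.2 h4.symm) (mem_cent1.2 (mem_cent1.1 (pow_mem h2 k)).symm) hua hva
  rw [e, orderOf_one] at hk
  exact Nat.not_prime_one hk

theorem exists_iv_V {t x : G} (ht : Iv t) {a b : Ω} (hab : a ≠ b) (hta : t • a = b)
    (hx : x ∈ Dd G a b ⊓ 𝐂[t]) (hp : (orderOf x).Prime) : ∃ u, Iv u ∧ u • a = a ∧ x ∈ 𝐂[u] := by
  obtain ⟨c, hc⟩ := h.ex t ht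
  obtain ⟨z, h5, hz, hza⟩ := h.lemF' hab hx.1 hp (h.toSE.cent_le ht hc hx.2)
    (fun e => hab (by rw [← hta, ← e, hc])) (fun e => hab (by rw [← smul_back ht.sq hta, ← e, hc]))
    hx.1.1
  exact ⟨z, hz, hza, mem_cent1.2 (mem_cent1.1 h5).symm⟩

theorem semireg_ab {a b : Ω} (hab : a ≠ b) (hW : 𝐂(Aa G a) ⊓ Dd G a b = ⊥) {B : Subgroup G}
    (hB : B ⊴ Dd G a b) (ha : IsMulCommutative B) {u : G} (hu : Iv u) (hua : u • a = a) :
    B ⊓ 𝐂[u] = ⊥ := by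
  by_contra H
  have hc : ∀ v, Iv v → v • a = a → Nat.card ↥(B ⊓ 𝐂[v]) = Nat.card ↥(B ⊓ 𝐂[u]) := by
    intro v hv hva
    obtain ⟨d, hd, rfl⟩ := h.toSE.exists_conj_D hu hv hua hva hab
    rw [cent1_conj_smul, ← card_conj_smul d (B ⊓ 𝐂[u]), smul_inf,
      mem_normalizer_iff_conj_smul_eq.1 (hB.norm hd)]
  have he : ∀ v w, Iv v → v • a = a → Iv w → w • a = a → B ⊓ 𝐂[v] ≤ 𝐂[w] →
      B ⊓ 𝐂[v] = B ⊓ 𝐂[w] := fun v w h1 h2 h3 h4 h5 =>
    eq_of_le_of_card_ge (le_inf inf_le_left h5) (by rw [hc v h1 h2, hc w h3 h4])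
  have hm : ∀ v, Iv v → v • a = a → ∀ g ∈ B, B ⊓ 𝐂[v] ≤ 𝐂[g * v * g⁻¹] := fun v _ _ g hg x hx => by
    rw [cent1_conj_smul, mem_conj_smul_iff, mul_assoc, isMulCommutative_iff.1 ha x hx.1 g hg,
      inv_mul_cancel_left]
    exact hx.2
  have hcm : ∀ v, Iv v → v • a = a → ∀ g ∈ B, v * (g * v * g⁻¹) = g * v * g⁻¹ * v := by
    intro v hv hva g hg
    obtain ⟨x, hx, hx1⟩ := exists_nt_of_ne_bot (H := B ⊓ 𝐂[v]) fun e =>
      H (card_eq_one.1 (by rw [← hc v hv hva, e, card_bot]))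
    exact h.comm_of_cent hab (hB.le hx.1) hx1 hv (hv.conj g) hva
      ((hB.le hg).1 ▸ conj_fix hva g) hx.2 (hm v hv hva g hg hx)
  have key := h.conn (a := a) (Γ := {v | v ∈ Ts G a a ∧ B ⊓ 𝐂[v] = B ⊓ 𝐂[u]}) ⟨u, ⟨hu, hua⟩, rfl⟩
    (fun _ hv => hv.1) fun v ⟨⟨hv, hva⟩, e⟩ w hw hvw => by
      have hwa := h.toSE.fix_of_comm hv hva hvw.symm
      refine ⟨⟨hw, hwa⟩, e ▸ ?_⟩
      by_cases e1 : v = w
      · rw [e1]
      have h1 := iv_mul_comm hv hw e1 hvw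
      have h2 : (v * w) • a = a := by rw [mul_smul, hwa, hva]
      by_cases h3 : B ⊓ 𝐂[v * w] ≤ 𝐂[v]
      · rw [← he _ _ h1 h2 hv hva h3]
        refine (he _ _ h1 h2 hw hwa fun x hx => ?_).symm
        have := mem_cent1.1 hx.2
        rw [mul_assoc, ← mul_assoc x, ← mem_cent1.1 (h3 hx), mul_assoc, mul_right_inj] at this
        exact mem_cent1.2 this
      obtain ⟨g, hg, h4⟩ := SetLike.not_le_iff_exists.1 h3
      have h5 : v * (g * v * g⁻¹) = w * (g * w * g⁻¹) := by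
        have := mem_cent1.1 hg.2
        rw [← mul_right_inj v, cancel_sq hv.sq, ← mul_assoc v, ← mul_assoc (v * w), ← mul_assoc (v * w),
          this, mul_assoc g (v * w), mul_assoc v, hw.sq, mul_one]
      have h6 := iv_mul_comm hv (hv.conj g) (fun e => h4 (mem_cent1.2
        (mul_inv_eq_iff_eq_mul.1 e.symm).symm)) (hcm v hv hva g hg.1)
      have h7 : (v * (g * v * g⁻¹)) • a = a := by
        rw [mul_smul, show (g * v * g⁻¹) • a = a from (hB.le hg.1).1 ▸ conj_fix hva g, hva]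
      have h8 : ∀ v, Iv v → v • a = a → B ⊓ 𝐂[v] ≤ 𝐂[v * (g * v * g⁻¹)] := fun v hv hva x hx =>
        mem_cent1.2 (Commute.mul_left (mem_cent1.1 hx.2) (mem_cent1.1 (hm v hv hva g hg.1 hx)))
      rw [he _ _ hv hva h6 h7 (h8 v hv hva), he _ _ hw hwa (h5 ▸ h6) (h5 ▸ h7) (h8 w hw hwa), h5]
  refine H (le_bot_iff.1 (hW ▸ le_inf (fun x hx => mem_cent_Aa.2 fun v hv hva => ?_)
    (inf_le_left.trans hB.le)))
  exact mem_cent1.1 ((key.ge ⟨hv, hva⟩).2.ge hx).2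

theorem grid {a : Ω} {K : Subgroup G} (ha : IsMulCommutative K) (hK : K ≤ stabilizer G a)
    (htr : ∀ u v : G, Iv u → Iv v → u • a = a → v • a = a → ∃ k ∈ K, k * u * k⁻¹ = v)
    {u v : G} (hu : Iv u) (hv : Iv v) (hua : u • a = a) (hva : v • a = a) : u * v = v * u := by
  have key := h.conn (a := a) (Γ := {v | v ∈ Ts G a a ∧ u * v = v * u}) ⟨u, ⟨hu, hua⟩, rfl⟩
    (fun _ hv => hv.1) fun v ⟨⟨hv, hva⟩, e⟩ w hw hvw => by
      have hwa := h.toSE.fix_of_comm hv hva hvw.symm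
      refine ⟨⟨hw, hwa⟩, ?_⟩
      by_cases e1 : v = w
      · exact e1 ▸ e
      by_cases e2 : v = u
      · exact e2 ▸ hvw
      obtain ⟨k, hk, rfl⟩ := htr v w hv hw hva hwa
      obtain ⟨l, hl, e3⟩ := htr v _ hv (iv_mul_comm hv hw e1 hvw) hva (by rw [mul_smul, hwa, hva])
      have h1 : ∀ x, Iv x → x • a = a → l * x * l⁻¹ = x * (k * x * k⁻¹) := fun x hx hxa => by
        obtain ⟨j, hj, rfl⟩ := htr v x hv hx hva hxa
        have e4 : ∀ i ∈ K, i * (j * v * j⁻¹) * i⁻¹ = j * (i * v * i⁻¹) * j⁻¹ := fun i hi => by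
          rw [show i * (j * v * j⁻¹) * i⁻¹ = i * j * v * (i * j)⁻¹ by group,
            isMulCommutative_iff.1 ha i hi j hj]
          group
        rw [e4 l hl, e4 k hk, e3, conj_mul]
      have h2 := h1 _ (iv_mul_comm hv hu e2 e.symm) (by rw [mul_smul, hua, hva])
      rw [← conj_mul, ← conj_mul, h1 v hv hva, h1 u hu hua, mul_assoc, mul_assoc v u, mul_right_inj,
        ← mul_assoc _ u, ← mul_assoc u, mul_left_inj] at h2
      exact h2.symm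
  exact (key.ge ⟨hv, hva⟩).2

theorem exists_ro {a b c : Ω} (hab : a ≠ b) (hW : 𝐂(Aa G a) ⊓ Dd G a b = ⊥) {y : G}
    (hy : y ∈ Dd G a b) (hp : (orderOf y).Prime) (hc : y • c = c) (hca : c ≠ a) (hcb : c ≠ b)
    (hr : ∀ u ∈ 𝐂[y], ∀ v ∈ 𝐂[y], Iv u → Iv v → u * v = v * u → u = v) :
    ∃ K : Subgroup G, RO a b K (orderOf y) := by
  have : Fact (Nat.Prime 2) := ⟨Nat.prime_two⟩
  have : Fact (orderOf y).Prime := ⟨hp⟩
  have S := h.toSE
  have hD := S.odd_Dd hab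
  set D := Dd G a b with hDe
  have hy1 : y ≠ 1 := fun e => by rw [e, orderOf_one] at hp; exact Nat.not_prime_one hp
  have sy : ∀ {u v : G}, u ∈ 𝐂[v] → v ∈ 𝐂[u] := fun e => mem_cent1.2 (mem_cent1.1 e).symm
  obtain ⟨z, hzy, hz, hza⟩ := h.lemF' hab hy hp hc hca hcb hy.1
  obtain ⟨z', hzy', hz', hzb⟩ := h.lemF' hab hy hp hc hca hcb hy.2
  obtain ⟨t, ht, -, hta, hty⟩ := S.exists_mid hz hz' hza hzb hab
  replace hty := hty _ hzy hzy'
  have htb := smul_back ht.sq hta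
  have htD : t ∈ 𝐍(D) := swap_norm hta htb
  have hu1 : ∀ u, Iv u → u • a = a → u ∈ 𝐂[y] → u = z := fun u hu hua e =>
    hr u e z hzy hu hz (h.comm_of_cent hab hy hy1 hu hz hua hza (sy e) (sy hzy))
  have hCz : D ⊓ 𝐂[y] ≤ 𝐂[z] := fun g hg => mem_cent1.2 (mul_inv_eq_iff_eq_mul.1 (hu1 _ (hz.conj g)
    (hg.1.1 ▸ conj_fix hza g) (mul_mem (mul_mem hg.2 hzy) (inv_mem hg.2)))).symm
  have hKy : ∀ k ∈ D, t * k * t = k⁻¹ → k ∈ 𝐂[y] → k = 1 := fun k hk e1 e2 =>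
    S.K_cent ht hab hta hk.1 hk.2 e1 hz hza (mem_cent1.1 (hCz ⟨hk, e2⟩))
  have h3 : ∀ d ∈ D, d * y * d⁻¹ ∈ 𝐂[t] → d ∈ 𝐂[t] := fun d hd e => by
    have e1 : d⁻¹ * t * d ∈ 𝐂[y] := by
      rw [← mem_conj_smul_iff, ← cent1_conj_smul]
      exact sy e
    have e2 := hKy (t * (d⁻¹ * t * d)) (by
      rw [← mul_assoc, ← mul_assoc]; exact mul_mem (conj_mem_sq ht.sq htD (inv_mem hd)) hd)
      (by rw [cancel_sq ht.sq]; simp [ht.inv, mul_assoc]) (mul_mem hty e1)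
    rw [mul_eq_one_iff_inv_eq, ht.inv, mul_assoc, eq_inv_mul_iff_mul_eq] at e2
    exact mem_cent1.2 e2.symm
  have H1 : ∀ B, B ⊴ D → IsMulCommutative B → B ⊓ 𝐂[t] = ⊥ := fun B hB ha => by_contra fun e => by
    obtain ⟨x, hx, hxp⟩ := exists_prime_orderOf_of_ne_bot e
    obtain ⟨u, hu, hua, e1⟩ := h.exists_iv_V ht hab hta ⟨hB.le hx.1, hx.2⟩ hxp
    rw [mem_bot.1 ((h.semireg_ab hab hW hB ha hu hua).le ⟨hx.1, e1⟩), orderOf_one] at hxp
    exact Nat.not_prime_one hxp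
  have hKa := comm_abelian hD ht.sq htD H1 (fun x hx hx1 Y hY ha hi => by
    obtain ⟨k, hk⟩ := Suz2T.exists_prime_pow hx1
    have e0 := pow_mem hx k
    have e1 : x ^ k ≠ 1 := fun e => by rw [e, orderOf_one] at hk; exact Nat.not_prime_one hk
    obtain ⟨u, hu, hua, e2⟩ := h.exists_iv_V ht hab hta e0 hk
    obtain ⟨E, hE⟩ := exists_A' (a := a) (X := 𝐂[x ^ k]) fun v hv w hw e3 e4 e5 e6 =>
      h.comm_of_cent hab e0.1 e1 e3 e4 e5 e6 (sy hv) (sy hw)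
    refine abelian_regular_cyclic (H := E) ha
      (fun e => hu.ne (mem_bot.1 (e ▸ (hE u).2 ⟨sy e2, hu.sq, hua⟩))) (fun g hg => ?_)
      (semireg_iff.2 fun g hg hg1 e he e3 => by_contra fun e4 => hg1 (S.K_cent ht hab hta
        (hY hg).1.1 (hY hg).1.2 (hi g hg) ⟨((hE e).1 he).2.1, e4⟩ ((hE e).1 he).2.2 e3.symm))
    have e3 : g ∈ 𝐂[x ^ k] := mem_cent1.2 (Commute.pow_left (mem_cent1.1 (hY hg).2) k).eq
    refine mem_normalizer_of_conj_mem fun v hv => ?_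
    obtain ⟨e4, e5, e6⟩ := (hE v).1 hv
    exact (hE _).2 ⟨mul_mem (mul_mem e3 e4) (inv_mem e3), by rw [conj_mul, e5]; simp,
      (hY hg).1.1 ▸ conj_fix e6 g⟩) fun N hN hle => le_antisymm hN.le fun g hg => by
    obtain ⟨P, hP, hyP⟩ := exists_isSylowIn_ge (zp_prime hp) (zpowers_le.2 (mem_inf.2 ⟨hy, sy hty⟩))
    have e1 : D ⊓ 𝐍(P) ≤ D ⊓ 𝐂[t] := fun d hd => ⟨hd.1, h3 d hd.1
      (hP.le (conj_mem_of_mem_normalizer hd.2 (hyP (mem_zpowers y)))).2⟩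
    obtain ⟨n, hn, e2⟩ := (isSylowIn_of_isSylowIn_normalizer (hP.le.trans hle) (hP.of_le
      (le_inf (hP.le.trans hle) le_normalizer) ((inf_le_inf_right _ hN.le).trans e1))).frattini
      (hN.norm hg)
    simpa using mul_mem hn (hle (e1 ⟨D.mul_mem (D.inv_mem (hN.le hn)) hg, e2⟩))
  set K := ⁅D, zpowers t⁆ with hKe
  have hKn : K ⊴ D := ⟨commutator_le_left_iff.2 (zpowers_le.2 htD), le_norm_commutator_left _ _⟩
  have htK : t ∈ 𝐍(K) := le_norm_commutator_right _ _ (mem_zpowers t)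
  have hKt := H1 K hKn hKa
  have hKi := (inverted_of hD ht.sq htD hKn htK hKt).1
  have hktr : ∀ u v : G, Iv u → Iv v → u • a = a → v • a = a → ∃ k ∈ K, k * u * k⁻¹ = v := by
    intro u v hu hv hua hva
    obtain ⟨k, hk, e1, e2⟩ := S.exists_K ht hab hta hu hv hua hva
    exact ⟨k, mem_W hD ht.sq hk e1, e2⟩
  have hcomm := fun u v hu hv hua hva => h.grid hKa (hKn.le.trans inf_le_left) hktr (u := u) (v := v)
    hu hv hua hva
  obtain ⟨A, hA, hA2, hAn, hAc⟩ := exists_A hcomm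
  have hDA : D ≤ 𝐍(A) := inf_le_left.trans hAn.norm
  have hsr : Semireg A K := semireg_iff.2 fun g hg hg1 e he e3 => by_contra fun e4 => hg1
    (S.K_cent ht hab hta (hKn.le hg).1 (hKn.le hg).2 (hKi g hg) ⟨hA2 e he, e4⟩ (hAn.le he) e3.symm)
  have hzA := (hA z).2 ⟨hz.sq, hza⟩
  have hcK : Nat.card K = (Ts G a a).ncard := by
    have e1 : K ⊓ 𝐂[z] = ⊥ := hsr.symm z hzA hz.ne
    rw [← card_mul_relIndex (inf_le_left : K ⊓ 𝐂[z] ≤ K), inf_comm K, inf_relIndex_right,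
      inf_comm, e1, card_bot, one_mul, ← ncard_conjIn]
    congr 1
    ext v
    refine ⟨?_, fun hv => (hktr z v hz hv.1 hza hv.2).imp fun k e => ⟨e.1, e.2.symm⟩⟩
    rintro ⟨k, hk, rfl⟩
    exact ⟨hz.conj k, (hKn.le hk).1 ▸ conj_fix hza k⟩
  have hK1 : K ≠ ⊥ := fun e => by
    have := h.one_lt_m a
    rw [← hcK, e, card_bot] at this
    exact this.false
  have hWA : ∀ d ∈ D, d ∈ 𝐂(A) → d = 1 := fun d hd e => mem_bot.1 (hW.le
    ⟨mem_cent_Aa.2 fun u hu hua => e u ((hA u).2 ⟨hu.sq, hua⟩), hd⟩)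
  have hCK : D ⊓ 𝐂(K) ≤ K := fun d hd => by
    obtain ⟨k, hk, e⟩ := hktr z _ hz (hz.conj d) hza (hd.1.1 ▸ conj_fix hza d)
    have e1 : k⁻¹ * d ∈ 𝐂(K) := mul_mem (isMulCommutative_iff_le_cent.1 hKa (inv_mem hk)) hd.2
    have e2 := hWA (k⁻¹ * d) (mul_mem (inv_mem (hKn.le hk)) hd.1) fun u hu => by
      by_cases e3 : u = 1
      · simp [e3]
      obtain ⟨j, hj, rfl⟩ := hktr z u hz ⟨hA2 u hu, e3⟩ hza (hAn.le hu)
      refine (Commute.mul_left (Commute.mul_left (e1 j hj) ?_) (e1 _ (inv_mem hj))).eq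
      rw [Commute, SemiconjBy, ← mul_right_inj k, ← mul_left_inj d⁻¹]
      convert e using 1 <;> group
    rwa [← inv_mul_eq_one.1 e2]
  set V := D ⊓ 𝐂[t] with hV
  have hyV : y ∈ V := ⟨hy, sy hty⟩
  have hVa : IsMulCommutative V := der1_eq_bot_iff.1 (le_bot_iff.1 (hKt ▸ le_inf
    ((le_inf ((der_le 1 V).trans inf_le_left) (der1_le_cent_of_isCyclic
      (abelian_regular_cyclic hKa (fun e => hz.ne (mem_bot.1 (e ▸ hzA))) (hKn.le.trans hDA) hsr)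
      (inf_le_left.trans hKn.norm))).trans hCK) ((der_le 1 V).trans inf_le_right)))
  have hVy : V ≤ 𝐂[y] := fun g hg => mem_cent1.2 (isMulCommutative_iff.1 hVa y hyV g hg)
  have hW : ∀ (L K' R M : Subgroup G), Frob L K' R → L ≤ D → K' ≤ K → y ∈ R → R ≤ V → M ≤ A →
      z ∈ M → L ≤ 𝐍(M) → Nat.card M = 2 ^ Nat.card R := fun L K' R M hF e1 e2 e3 e4 e5 e6 e7 => by
    rw [(Frobenius_Wielandt_fixpoint hF e7 ((odd_iff_piGrp.1 (odd_of_le hD e1)).coprime_of_isPGroup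
      (hA2.isPGroup.to_le e5)) (isSolvable_of_isNilpotent (isNilpotent_of_isPGroup
      (hA2.isPGroup.to_le e5)))).2.2 ((hsr.mono e5 le_rfl).inf_cent e2 hF.ker_ne), ← card_zpowers_iv hz]
    congr 3
    refine le_antisymm (fun u hu => ?_) (zpowers_le.2 ⟨e6, fun g hg =>
      (mem_cent1.1 (hCz ⟨(e4 hg).1, hVy (e4 hg)⟩)).symm⟩)
    by_cases e8 : u = 1
    · exact e8 ▸ one_mem _
    · rw [hu1 u ⟨hA2 u (e5 hu.1), e8⟩ (hAn.le (e5 hu.1)) (mem_cent1.2 (hu.2 y e3))]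
      exact mem_zpowers z
  have hyK : Semireg K (zpowers y) := semireg_of_card_prime (by rwa [Nat.card_zpowers])
    (le_bot_iff.1 fun k hk => hKy k (hKn.le hk.1) (hKi k hk.1) (cent_zpowers y ▸ hk.2))
  have hW' : ∀ x ∈ V, K ⊓ 𝐂[x] ≠ ⊥ → Nat.card ↥(A ⊓ 𝐂[x]) = 2 ^ orderOf y := fun x hx e => by
    have e1 : zpowers y ≤ 𝐂[x] := zpowers_le.2 (sy (hVy hx))
    rw [← Nat.card_zpowers]
    exact hW _ _ _ _ (frob_sup (fun g hg => mem_norm_inf (hKn.norm (zpowers_le.2 hy hg))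
      (le_normalizer (e1 hg))) e (by simpa using hy1) (hyK.mono inf_le_left le_rfl))
      (sup_le (inf_le_left.trans hKn.le) (zpowers_le.2 hy)) inf_le_left (mem_zpowers y)
      (zpowers_le.2 hyV) inf_le_left ⟨hzA, sy (hCz ⟨hx.1, hVy hx⟩)⟩ fun g hg => mem_norm_inf
        (hDA (sup_le (inf_le_left.trans hKn.le) (zpowers_le.2 hy) hg))
        (le_normalizer (sup_le inf_le_right e1 hg))
  have hA1 : Nat.card A = 2 ^ orderOf y := by
    have e : 𝐂[(1 : G)] = ⊤ := top_le_iff.1 fun g _ => mem_cent1.2 (by simp)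
    simpa [e] using hW' 1 (one_mem _) (by simpa [e] using hK1)
  have hF : Frob (K ⊔ V) K V := frob_sup (inf_le_left.trans hKn.norm) hK1
    (fun e => hy1 (mem_bot.1 (e ▸ hyV))) fun x hx hx1 => by_contra fun e => hx1 (hWA x hx.1
      fun u hu => (mem_cent1.1 ((eq_of_le_of_card_ge (inf_le_left : A ⊓ 𝐂[x] ≤ A)
        (by rw [hW' x hx e, hA1])).ge hu).2).symm)
  have hKV : K ⊔ V = D := le_antisymm (sup_le hKn.le inf_le_left) fun g hg => by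
    obtain ⟨c, hc, k, hk, e1, e2, rfl⟩ := exists_cent_inv hD ht.sq htD hg
    exact mul_mem (mem_sup_right ⟨hc, e1⟩) (mem_sup_left (mem_W hD ht.sq hk e2))
  rw [hKV] at hF
  have hcV : Nat.card V = orderOf y := Nat.pow_right_injective le_rfl
    ((hW _ _ _ _ hF le_rfl le_rfl hyV le_rfl le_rfl hzA hDA).symm.trans hA1)
  have hcC : ∀ u : G, Iv u → u • a = a → Nat.card ↥(D ⊓ 𝐂[u]) = orderOf y := fun u hu hua => by
    have e1 := card_mul_relIndex (inf_le_left : D ⊓ 𝐂[u] ≤ D)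
    have e2 := card_mul_relIndex (inf_le_left : V ≤ D)
    rw [inf_comm D, inf_relIndex_right, S.relIndex_I hu hua hab, inf_comm] at e1
    rw [hcV, inf_comm D, inf_relIndex_right, S.relIndex_T' ht hta hab] at e2
    exact Nat.eq_of_mul_eq_mul_right (zero_lt_one.trans (h.one_lt_m a)) (e1.trans e2.symm)
  have hk2 : ∀ k ∈ K, k ≠ 1 → ∀ c, k • c = c → c = a ∨ c = b := fun k hk hk1 c hc =>
    h.K_two ht hab (hKn.le hk) hk1 (hKi k hk) hc
  have hsw : ∀ g : G, (∃ k ∈ K, k ≠ 1 ∧ g⁻¹ * k * g ∈ K) → g ∈ D ∨ g • a = b ∧ g • b = a := by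
    rintro g ⟨k, hk, hk1, e⟩
    have e1 : ∀ x, (g⁻¹ * k * g) • x = x → g • x = a ∨ g • x = b := fun x hx => hk2 k hk hk1 _ (by
      rw [mul_smul, mul_smul, inv_smul_eq_iff] at hx; exact hx)
    have e2 : g • a ≠ g • b := fun e => hab (smul_left_cancel g e)
    rcases e1 a (hKn.le e).1 with e3 | e3 <;> rcases e1 b (hKn.le e).2 with e4 | e4
    exacts [absurd (e3.trans e4.symm) e2, Or.inl ⟨e3, e4⟩, Or.inr ⟨e3, e4⟩,
      absurd (e3.trans e4.symm) e2]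
  have ho := S.odd_fix hab hy.1 hy.2
  refine ⟨K, S, hab, fun c hc => h.two_trans hab hc, hcomm, hp,
    fun e => by rw [e] at ho; exact absurd ho (by decide), hAc ▸ hA1, hcK, hKn.le, hKa, hktr, hk2,
    fun k hk hk1 g hg => ?_, fun g => ⟨fun hg => ?_, ?_⟩, hcC, fun d hd hd1 u v hu hv hua hva e1 e2 => ?_⟩
  · rcases hsw g ⟨k, hk, hk1, by rwa [mul_assoc, mem_cent1.1 hg, inv_mul_cancel_left]⟩ with e | e
    · exact hF.cent1_ker hk hk1 ⟨e, hg⟩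
    · obtain ⟨w, e1, hw, e2⟩ := S.exists_iv_swap hab e.1 e.2
      obtain ⟨d, hd, rfl⟩ := S.swap_conj ht hw hab hta e2
      have e3 := sy (zpowers_le.2 hg e1)
      rw [cent1_conj_smul, mem_conj_smul_iff] at e3
      have e4 := mem_bot.1 (hKt.le ⟨hKn.inv_conj_mem hd hk, e3⟩)
      exact absurd (by simpa [mul_assoc] using congrArg (d * · * d⁻¹) e4) hk1
  · obtain ⟨k, hk, hk1⟩ := exists_nt_of_ne_bot hK1
    exact hsw g ⟨k, hk, hk1, inv_conj_mem_of_mem_normalizer hg hk⟩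
  · rintro (e | e)
    · exact hKn.norm e
    · rw [← cancel_sq' ht.sq g]
      exact mul_mem (hKn.norm ⟨show (g * t) • a = a by rw [mul_smul, hta, e.2],
        show (g * t) • b = b by rw [mul_smul, htb, e.1]⟩) htK
  · obtain ⟨k, hk, rfl⟩ := hktr z u hz hu hza hua
    have e3 : k * y * k⁻¹ ∈ D ⊓ 𝐂[k * z * k⁻¹] := ⟨hKn.le hk |> fun e =>
      mul_mem (mul_mem e hy) (inv_mem e), cent1_conj_smul k z ▸ conj_mem_conj_smul k (sy hzy)⟩
    rw [← zpowers_eq_of_card_prime (by rwa [hcC _ hu hua]) (mem_inf.2 ⟨hd, e1⟩) hd1] at e3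
    have e4 := sy (zpowers_le.2 e2 e3)
    rw [cent1_conj_smul, mem_conj_smul_iff] at e4
    rw [← hu1 _ (by simpa using hv.conj k⁻¹) (by
      simpa [show k⁻¹ • a = a from (inv_mem (hKn.le hk)).1] using conj_fix hva k⁻¹) e4]
    group

end GH

end Cfsg.Agent.Bender
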