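import Cfsg.Agent.Bender.Basic
import Cfsg.Agent.Sig.Main
import Cfsg.Agent.Suz2T.Ind

/-! Groups with solvable centralisers of involutions: reduction to the theorem of Bender. -/

set_option autoImplicit false
set_option linter.unusedSectionVars false

namespace Cfsg.Agent.Bender

open Subgroup MulAction Cfsg.Agent.Local Cfsg.Agent.FT Cfsg.Agent.Suz2T
open scoped Pointwise commutatorElement

universe u

/-- the statement of the theorem of Bender -/
def GenHyp : Prop :=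
  ∀ (G Ω : Type u) [Group G] [Finite G] [MulAction G Ω] [FaithfulSMul G Ω], SE G Ω →
    (∃ u v : G, Iv u ∧ Iv v ∧ u ≠ v ∧ u * v = v * u) → (∃ a b : Ω, a ≠ b) → Nonempty (MS G Ω)

namespace Red

variable {G : Type*} [Group G] [Finite G]

/-- generators of a four-group -/
structure F4 (u v : G) : Prop where
  l : Iv u
  r : Iv v
  ne : u ≠ v
  cm : u * v = v * u

theorem F4.symm {u v : G} (h : F4 u v) : F4 v u := ⟨h.r, h.l, h.ne.symm, h.cm.symm⟩

theorem F4.conj {u v : G} (h : F4 u v) (g : G) : F4 (g * u * g⁻¹) (g * v * g⁻¹) :=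
  ⟨h.l.conj g, h.r.conj g, fun e => h.ne (by simpa using e), by rw [conj_mul, conj_mul, h.cm]⟩

theorem F4.mul {u v : G} (h : F4 u v) : Iv (u * v) :=
  ⟨by rw [mul_assoc, ← mul_assoc v, ← h.cm, mul_assoc, h.r.sq, mul_one, h.l.sq],
    fun e => h.ne (by rw [← mul_one u, ← h.r.sq, ← mul_assoc, e, one_mul])⟩

/-- the core of the centraliser -/
def th (a : G) : Subgroup G := core {2}ᶜ 𝐂[a]

theorem th_conj (g a : G) : th (g * a * g⁻¹) = MulAut.conj g • th a := by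
  rw [th, cent1_conj_smul, core_conj, th]

/-- the group signalised by a four-group -/
def WW (u v : G) : Subgroup G := th u ⊔ th v ⊔ th (u * v)

theorem WW_conj (g u v : G) : WW (g * u * g⁻¹) (g * v * g⁻¹) = MulAut.conj g • WW u v := by
  rw [WW, conj_mul, th_conj, th_conj, th_conj, WW, Subgroup.smul_sup, Subgroup.smul_sup]

theorem F4.WW_symm {u v : G} (h : F4 u v) : WW u v = WW v u := by
  rw [WW, WW, h.cm, sup_comm (th u)]

theorem card8 {B : Subgroup G} (hB : EA2 B) (h : 4 < Nat.card B) : 8 ≤ Nat.card B := by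
  have : Fact (Nat.Prime 2) := ⟨Nat.prime_two⟩
  obtain ⟨n, hn⟩ := exists_card_eq_pow hB.isPGroup
  rw [hn] at h ⊢
  have : 2 < n := (Nat.pow_lt_pow_iff_right (a := 2) (by decide)).1 h
  exact Nat.pow_le_pow_right (n := 2) (by decide) this

theorem tri {u v w : G} (h : F4 u v) (hw : Iv w) (h1 : u * w = w * u) (h2 : v * w = w * v)
    (n1 : w ≠ u) (n2 : w ≠ v) (n3 : w ≠ u * v) :
    EA2 (closure {u, v, w}) ∧ 8 ≤ Nat.card (closure ({u, v, w} : Set G)) := by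
  classical
  have hc : IsMulCommutative (closure ({u, v, w} : Set G)) := by
    rw [isMulCommutative_iff_le_cent, closure_le]
    rintro _ (rfl | rfl | rfl) <;> rw [SetLike.mem_coe, centralizer_closure] <;>
      rintro _ (rfl | rfl | rfl) <;> simp [h.cm, h1, h2]
  have he : EA2 (closure ({u, v, w} : Set G)) := fun a ha => by
    induction ha using closure_induction with
    | one => simp
    | mem x hx =>
      rcases hx with rfl | rfl | rfl
      exacts [h.l.sq, h.r.sq, hw.sq]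
    | mul x y hx hy h1 h2 =>
      rw [mul_assoc, ← mul_assoc y, ← isMulCommutative_iff.1 hc x hx y hy, mul_assoc, h2, mul_one,
        h1]
    | inv x _ h1 => rw [inv_of_sq h1, h1]
  refine ⟨he, card8 he ?_⟩
  have m1 : u ∈ closure ({u, v, w} : Set G) := subset_closure (by simp)
  have m2 : v ∈ closure ({u, v, w} : Set G) := subset_closure (by simp)
  have m3 : w ∈ closure ({u, v, w} : Set G) := subset_closure (by simp)
  have hs : (({1, u, v, u * v, w} : Finset G) : Set G) ⊆ closure ({u, v, w} : Set G) := by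
    intro x hx
    simp only [Finset.coe_insert, Finset.coe_singleton, Set.mem_insert_iff,
      Set.mem_singleton_iff] at hx
    rcases hx with rfl | rfl | rfl | rfl | rfl
    exacts [one_mem _, m1, m2, mul_mem m1 m2, m3]
  have h5 := Set.ncard_le_ncard hs
  have a1 := h.l.ne
  have a2 := h.r.ne
  have a3 := h.mul.ne
  have a4 := hw.ne
  have a5 := h.ne
  have a6 : u ≠ u * v := fun e => a2 (by simpa using e)
  have a7 : v ≠ u * v := fun e => a1 (by simpa using e)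
  rw [Set.ncard_coe_finset, Finset.card_insert_of_notMem (by simp [a1.symm, a2.symm, a3.symm,
    a4.symm]), Finset.card_insert_of_notMem (by simp [a5, a6, n1.symm]),
    Finset.card_insert_of_notMem (by simp [a7, n2.symm]),
    Finset.card_pair n3.symm] at h5
  exact h5

theorem sf_bot {B : Subgroup G} (hB : EA2 B) (h8 : 8 ≤ Nat.card B) : Sig.SF B fun _ => ⊥ :=
  ⟨hB, h8, fun _ _ _ => bot_le, fun _ _ _ => by simp,
    fun _ _ _ => le_top.trans (Nrm.bot ⊤).norm, fun _ _ _ _ _ _ => inf_le_left⟩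

theorem hyp_of_ea2 {A B : Subgroup G} (h : EA2 A) (hB : B ≤ A) (hc : IsCyclic (quo B A)) :
    Sig.Hyp A B := by
  have hn : B ⊴ A := nrm_of_le_of_isMulCommutative h.isMulCommutative hB
  obtain ⟨x, hx, e⟩ := (isCyclic_quo_iff hn).1 hc
  have key : ∀ y ∈ A, y ∉ B → ∃ b ∈ B, b * x = y := fun y hy hyB => by
    rw [← e] at hy
    obtain ⟨b, hb, u, hu, rfl⟩ :=
      (mem_sup_iff_of_norm (Or.inl (Sig.zp_le_norm (hn.norm hx)))).1 hy
    rcases Sig.mem_zp (h x hx) hu with rfl | rfl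
    · exact absurd (by simpa using hb) hyB
    · exact ⟨b, hb, rfl⟩
  refine ⟨hB, fun y hy z hz hyB hzB => ?_⟩
  obtain ⟨b, hb, rfl⟩ := key y hy hyB
  obtain ⟨c, hc, rfl⟩ := key z hz hzB
  have : b * x * (c * x) = b * c := by
    rw [← h.comm hx (hB hc), mul_assoc, ← mul_assoc x, h x hx, one_mul]
  rw [this]; exact B.mul_mem hb hc

theorem exists_f4 {A B : Subgroup G} (h : EA2 A) (h8 : 8 ≤ Nat.card A) (hB : Sig.Hyp A B) :
    ∃ u ∈ B, ∃ v ∈ B, F4 u v := by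
  obtain ⟨x, hx, h1, -⟩ := hB.exists_ne (sf_bot h h8) A.one_mem
  obtain ⟨y, hy, h2, h3⟩ := hB.exists_ne (sf_bot h h8) (hB.le hx)
  exact ⟨x, hx, y, hy, ⟨h x (hB.le hx), h1⟩, ⟨h y (hB.le hy), h2⟩, h3.symm,
    h.comm (hB.le hx) (hB.le hy)⟩

/-- four-groups lie in at most one conjugate of `M` -/
def Star (M : Subgroup G) : Prop :=
  ∀ g u v : G, F4 u v → u ∈ M → v ∈ M → g * u * g⁻¹ ∈ M → g * v * g⁻¹ ∈ M → g ∈ M

theorem Star.le {M H B : Subgroup G} (hM : Star M) (hs : Group.IsSolvable H) (hB : EA2 B)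
    (h8 : 8 ≤ Nat.card B) (hBH : B ≤ H) (hBM : B ≤ M) : H ≤ M := by
  have : Fact (Nat.Prime 2) := ⟨Nat.prime_two⟩
  refine chief_induction (P := fun V => V ≤ M) (Nrm.bot H) (Nrm.refl H) bot_le bot_le
    fun V U hc _ _ hV => ?_
  have hVH := hc.nrm_left
  have hUn : U ≤ 𝐍(V) := hc.nrm.le.trans hVH.norm
  have hBn : B ≤ 𝐍(V) := hBH.trans hVH.norm
  have hVM : V ⊴ M ⊓ 𝐍(V) := ⟨le_inf hV le_normalizer, inf_le_right⟩
  suffices h : quo V U ≤ quo V (M ⊓ 𝐍(V)) from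
    ((quo_le_quo_iff_of_nrm hUn hVM).1 h).trans inf_le_left
  obtain ⟨p, hp, hE⟩ := hc.minNormal.isEA (isSolvable_quo (isSolvable_of_le hs hc.nrm.le) V)
  have := Fact.mk hp
  have hq : EA2 (quo V B) := fun y hy => by
    obtain ⟨b, hb, rfl⟩ := (mem_quo_of_le hBn).1 hy
    rw [← (cos V).map_mul (hBn hb) (hBn hb), hB b hb]
    exact cos_eq_one V.one_mem
  have hn : quo V B ≤ 𝐍(quo V U) := quo_le_normalizer V (hBH.trans hc.nrm.norm)
  have key : ∀ x ∈ 𝐍(V), ∀ u ∈ B, ∀ v ∈ B, F4 u v →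
      cos V x * cos V u * (cos V x)⁻¹ ∈ quo V (M ⊓ 𝐍(V)) →
      cos V x * cos V v * (cos V x)⁻¹ ∈ quo V (M ⊓ 𝐍(V)) → cos V x ∈ quo V (M ⊓ 𝐍(V)) := by
    intro x hx u hu v hv h4 e1 e2
    rw [← (cos V).map_conj hx (hBn hu)] at e1
    rw [← (cos V).map_conj hx (hBn hv)] at e2
    refine cos_mem_quo hx ⟨hM x u v h4 (hBM hu) (hBM hv) ?_ ?_, hx⟩
    · exact (mem_of_cos_mem_quo hVM (mul_mem (mul_mem hx (hBn hu)) (inv_mem hx)) e1).1
    · exact (mem_of_cos_mem_quo hVM (mul_mem (mul_mem hx (hBn hv)) (inv_mem hx)) e2).1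
  have hBq : ∀ u ∈ B, cos V u ∈ quo V (M ⊓ 𝐍(V)) := fun u hu =>
    cos_mem_quo (hBn hu) ⟨hBM hu, hBn hu⟩
  by_cases h2 : p = 2
  · subst h2
    have hR : IsPGroup 2 ↥(quo V U ⊔ quo V B) := isPGroup_sup hE.isPGroup hq.isPGroup hn
    by_contra hcon
    have hlt : (quo V U ⊔ quo V B) ⊓ quo V (M ⊓ 𝐍(V)) < quo V U ⊔ quo V B :=
      lt_of_le_of_ne inf_le_left fun e => hcon (le_sup_left.trans (inf_eq_left.1 e))
    obtain ⟨y, hy, hyn, hy'⟩ := exists_mem_normalizer_of_lt_of_isNilpotent hR.isNilpotent hlt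
    obtain ⟨x, hx, rfl⟩ := exists_cos_eq y
    obtain ⟨u, hu, v, hv, h4⟩ := exists_f4 hB h8 Sig.hyp_self
    have m : ∀ u ∈ B, cos V x * cos V u * (cos V x)⁻¹ ∈ quo V (M ⊓ 𝐍(V)) := fun u hu =>
      (conj_mem_of_mem_normalizer hyn
        ⟨(le_sup_right : quo V B ≤ _) (cos_mem_quo (hBn hu) hu), hBq u hu⟩).2
    exact hy' ⟨hy, key x hx u hu v hv h4 (m u hu) (m v hv)⟩
  · refine coprime_abelian_gen_cent hq.isMulCommutative hn
      (coprime_of_isPGroup_of_ne hE.isPGroup hq.isPGroup h2) fun C hC hcyc y hy => ?_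
    have h3 := hyp_of_ea2 hq hC hcyc
    have h4 : Sig.Hyp B (B ⊓ coquo V C) := ⟨inf_le_left, fun a ha b hb h5 h6 => ⟨mul_mem ha hb,
      mem_coquo.2 ⟨hBn (mul_mem ha hb), by
        rw [(cos V).map_mul (hBn ha) (hBn hb)]
        exact h3.mul _ (cos_mem_quo (hBn ha) ha) _ (cos_mem_quo (hBn hb) hb)
          (fun e => h5 ⟨ha, mem_coquo.2 ⟨hBn ha, e⟩⟩)
          (fun e => h6 ⟨hb, mem_coquo.2 ⟨hBn hb, e⟩⟩)⟩⟩⟩
    obtain ⟨u, hu, v, hv, h5⟩ := exists_f4 hB h8 h4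
    obtain ⟨x, hx, rfl⟩ := exists_cos_eq y
    have m : ∀ u ∈ B ⊓ coquo V C, cos V x * cos V u * (cos V x)⁻¹ ∈ quo V (M ⊓ 𝐍(V)) :=
      fun u hu => by
        rw [← hy.2 _ (mem_coquo.1 hu.2).2, mul_inv_cancel_right]
        exact hBq u hu.1
    exact key x hx u hu.1 v hv.1 h5 (m u hu) (m v hv)

/-- centralisers of involutions are solvable -/
def Sol (G : Type*) [Group G] : Prop := ∀ t : G, Iv t → Group.IsSolvable 𝐂[t]

theorem Sol.bal (h : Sol G) {a b : G} (ha : a * a = 1) (hb : Iv b) (hab : a * b = b * a) :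
    th a ⊓ 𝐂[b] ≤ th b := by
  have : Fact (Nat.Prime 2) := ⟨Nat.prime_two⟩
  have h1 : EA2 (zpowers a) := fun x hx => by
    rcases Sig.mem_zp ha hx with rfl | rfl
    exacts [mul_one 1, ha]
  have h2 := p'core_cent_pgroup (p := 2) (H := 𝐂[b]) (R := zpowers a)
    (zpowers_le.2 (mem_cent1.2 hab.symm)) h1.isPGroup (h b hb)
  rw [cent_zpowers] at h2
  refine le_trans ?_ h2
  have := inf_core_le {2}ᶜ (inf_le_right : 𝐂[b] ⊓ 𝐂[a] ≤ 𝐂[a])
  exact le_trans (le_inf (le_inf inf_le_right (inf_le_left.trans (core_le _ _))) inf_le_left) this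

theorem Sol.sf (h : Sol G) {B : Subgroup G} (hB : EA2 B) (h8 : 8 ≤ Nat.card B) : Sig.SF B th :=
  ⟨hB, h8, fun _ _ _ => core_le _ _, fun _ _ _ => odd_iff_piGrp.2 (piGrp_core _ _),
    fun _ ha _ _ hb => (core_nrm _ _).norm (mem_cent1.2 (hB.comm ha hb)),
    fun a ha _ b hb h1 => h.bal (hB a ha) ⟨hB b hb, h1⟩ (hB.comm ha hb)⟩

theorem Sol.exW (h : Sol G) {B : Subgroup G} (hB : EA2 B) (h8 : 8 ≤ Nat.card B) :
    ∃ W : Subgroup G, Odd (Nat.card W) ∧ ∀ u ∈ B, ∀ v ∈ B, F4 u v → WW u v = W := by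
  have hs := h.sf hB h8
  obtain ⟨W, hW, h2⟩ := hs.compl
  refine ⟨W, hW.odd, fun u hu v hv h4 => le_antisymm
    (sup_le (sup_le (h2 u hu h4.l.ne) (h2 v hv h4.r.ne)) (h2 _ (mul_mem hu hv) h4.mul.ne)) ?_⟩
  exact hs.gen3 hu hv hW.norm hW.odd ((hW.le u hu h4.l.ne).trans (le_sup_left.trans le_sup_left))
    ((hW.le v hv h4.r.ne).trans (le_sup_right.trans le_sup_left))
    ((hW.le _ (mul_mem hu hv) h4.mul.ne).trans le_sup_right)

theorem Sol.WW_eq (h : Sol G) {u v w : G} (h1 : F4 u v) (h2 : F4 u w) (h3 : v * w = w * v) :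
    WW u w = WW u v := by
  by_cases e1 : w = v
  · rw [e1]
  by_cases e2 : w = u * v
  · rw [e2, WW, WW, ← mul_assoc, h1.l.sq, one_mul, sup_right_comm]
  obtain ⟨hB, h8⟩ := tri h1 h2.r h2.cm h3 h2.ne.symm e1 e2
  obtain ⟨W, -, hW⟩ := h.exW hB h8
  have m1 : u ∈ closure ({u, v, w} : Set G) := subset_closure (by simp)
  rw [hW u m1 w (subset_closure (by simp)) h2, hW u m1 v (subset_closure (by simp)) h1]

/-- the configuration: `E` is a normal elementary abelian subgroup of the Sylow subgroup `S` -/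
structure Cf (S E : Subgroup G) (z e : G) : Prop where
  sol : Sol G
  syl : IsSylowIn 2 S ⊤
  nrm : E ⊴ S
  ea : EA2 E
  c8 : 8 ≤ Nat.card E
  zE : z ∈ E
  eE : e ∈ E
  f4 : F4 z e
  cen : ∀ s ∈ S, z * s = s * z

namespace Cf

variable {S E : Subgroup G} {z e : G} (C : Cf S E z e)
include C

theorem exists_comm {w : G} (hw : w ∈ S) (h2 : w * w = 1) :
    ∃ x ∈ E, F4 z x ∧ x * w = w * x := by
  have hs := sf_bot C.ea C.c8
  have f : ∀ x ∈ E, x ≠ 1 → x ≠ z → F4 z x := fun x hx h1 h3 =>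
    ⟨C.f4.l, ⟨C.ea x hx, h1⟩, h3.symm, C.ea.comm C.zE hx⟩
  have cj : ∀ x ∈ E, w * x * w ∈ E := fun x hx => by
    have := conj_mem_of_mem_normalizer (C.nrm.norm hw) hx
    rwa [inv_of_sq h2] at this
  by_contra hc
  push Not at hc
  have key : ∀ x ∈ E, x ≠ 1 → x ≠ z → x * (w * x * w) = z := fun x hx h1 h3 => by
    by_contra h4
    refine hc _ (mul_mem hx (cj x hx)) (f _ (mul_mem hx (cj x hx)) (fun e => ?_) h4) ?_
    · refine hc x hx (f x hx h1 h3) ?_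
      have : w * x * w = x := by
        rw [← one_mul (w * x * w), ← C.ea x hx, mul_assoc, e, mul_one]
      calc x * w = w * x * w * w := by rw [this]
        _ = w * x := by rw [mul_assoc, h2, mul_one]
    · calc x * (w * x * w) * w = x * (w * x) := by
            rw [mul_assoc, mul_assoc, h2, mul_one]
        _ = w * (w * x * w * x) := by
            rw [← mul_assoc, ← mul_assoc, ← mul_assoc, ← mul_assoc, h2, one_mul]
        _ = _ := by rw [C.ea.comm hx (cj x hx)]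
  obtain ⟨x, hx, h1⟩ := hs.exists_not_mem [1, z] (by simp)
  obtain ⟨y, hy, h3⟩ := hs.exists_not_mem [1, z, x, x * z] (by simp)
  simp only [List.mem_cons, List.not_mem_nil, or_false, not_or] at h1 h3
  have k1 := key x hx h1.1 h1.2
  have k2 := key y hy h3.1 h3.2.1
  have k3 := key _ (mul_mem hx hy) (hs.mul_ne_one hy (Ne.symm h3.2.2.1)) fun e =>
    h3.2.2.2 (by rw [← e, ← mul_assoc, C.ea x hx, one_mul])
  apply C.f4.l.ne
  calc z = x * (y * (w * x * w)) * (w * y * w) := by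
        rw [← k3]
        simp only [mul_assoc, cancel_sq h2]
    _ = x * (w * x * w) * (y * (w * y * w)) := by
        rw [C.ea.comm hy (cj x hx)]; simp only [mul_assoc]
    _ = 1 := by rw [k1, k2, C.f4.l.sq]

theorem WW_z {w : G} (hw : w ∈ S) (h : F4 z w) : WW z w = WW z e := by
  obtain ⟨x, hx, h1, h2⟩ := C.exists_comm hw h.r.sq
  rw [C.sol.WW_eq h1 h h2, C.sol.WW_eq C.f4 h1 (C.ea.comm C.eE hx)]

theorem WW_S {u v : G} (hu : u ∈ S) (hv : v ∈ S) (h : F4 u v) : WW u v = WW z e := by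
  by_cases e1 : u = z
  · subst e1; exact C.WW_z hv h
  have h1 : F4 z u := ⟨C.f4.l, h.l, Ne.symm e1, C.cen u hu⟩
  rw [C.sol.WW_eq h1.symm h (C.cen v hv), ← h1.WW_symm, C.WW_z hu h1]

theorem S_le : S ≤ 𝐍(WW z e) := fun s hs => by
  have hS := C.nrm.le
  rw [mem_normalizer_iff_conj_smul_eq, ← WW_conj]
  exact C.WW_S (mul_mem (mul_mem hs (hS C.zE)) (inv_mem hs))
    (mul_mem (mul_mem hs (hS C.eE)) (inv_mem hs)) (C.f4.conj s)

theorem exists_conj {M X : Subgroup G} (hM : S ≤ M) (hX : EA2 X) (hXM : X ≤ M) :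
    ∃ m ∈ M, ∀ x ∈ X, m * x * m⁻¹ ∈ S := by
  have : Fact (Nat.Prime 2) := ⟨Nat.prime_two⟩
  obtain ⟨n, hn, h⟩ := (C.syl.of_le hM le_top).exists_le_conj hX.isPGroup hXM
  refine ⟨n⁻¹, inv_mem hn, fun x hx => ?_⟩
  rw [inv_inv]
  exact mem_conj_smul_iff.1 (h hx)

theorem exists_conj1 {M : Subgroup G} (hM : S ≤ M) {t : G} (ht : t * t = 1) (htM : t ∈ M) :
    ∃ m ∈ M, m * t * m⁻¹ ∈ S := by
  obtain ⟨m, hm, h⟩ := C.exists_conj hM (X := zpowers t) (fun x hx => by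
    rcases Sig.mem_zp ht hx with rfl | rfl
    exacts [mul_one 1, ht]) (zpowers_le.2 htM)
  exact ⟨m, hm, h t (mem_zpowers t)⟩

theorem WW_M {u v : G} (hu : u ∈ 𝐍(WW z e)) (hv : v ∈ 𝐍(WW z e)) (h : F4 u v) :
    WW u v = WW z e := by
  obtain ⟨m, hm, h1⟩ := C.exists_conj C.S_le (ea2_pair h.l.sq h.r.sq h.cm)
    ((closure_le _).2 (by rintro _ (rfl | rfl) <;> assumption))
  have h2 := C.WW_S (h1 u (subset_closure (by simp))) (h1 v (subset_closure (by simp))) (h.conj m)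
  rw [WW_conj, ← mem_normalizer_iff_conj_smul_eq.1 hm] at h2
  exact smul_left_cancel _ h2

theorem star : Star 𝐍(WW z e) := fun g u v h hu hv hu' hv' => by
  have h1 := C.WW_M hu' hv' (h.conj g)
  rwa [WW_conj, C.WW_M hu hv h, ← mem_normalizer_iff_conj_smul_eq] at h1

theorem odd_W : Odd (Nat.card (WW z e)) := by
  obtain ⟨W, h1, h2⟩ := C.sol.exW C.ea C.c8
  rwa [h2 z C.zE e C.eE C.f4]

theorem cent_le_S {t : G} (ht : Iv t) (hS : t ∈ S) :
    𝐂[t] ≤ 𝐍(WW z e) ∧ ∃ u ∈ 𝐂[t], ∃ v ∈ 𝐂[t], F4 u v := by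
  obtain ⟨x, hx, h1, h2⟩ := C.exists_comm hS ht.sq
  refine ⟨?_, z, mem_cent1.2 (C.cen t hS).symm, x, mem_cent1.2 h2.symm, h1⟩
  by_cases hE : t ∈ E
  · exact C.star.le (C.sol t ht) C.ea C.c8 (fun y hy => mem_cent1.2 (C.ea.comm hE hy))
      (C.nrm.le.trans C.S_le)
  obtain ⟨hB, h8⟩ := tri h1 ht (C.cen t hS) h2 (fun e => hE (e ▸ C.zE)) (fun e => hE (e ▸ hx))
    (fun e => hE (e ▸ mul_mem C.zE hx))
  refine C.star.le (C.sol t ht) hB h8 (fun y hy => mem_cent1.2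
    (hB.comm (subset_closure (by simp)) hy)) ((closure_le _).2 ?_)
  rintro _ (rfl | rfl | rfl)
  exacts [C.S_le (C.nrm.le C.zE), C.S_le (C.nrm.le hx), C.S_le hS]

theorem cent_le {t : G} (ht : Iv t) (hM : t ∈ 𝐍(WW z e)) :
    𝐂[t] ≤ 𝐍(WW z e) ∧ ∃ u ∈ 𝐂[t], ∃ v ∈ 𝐂[t], F4 u v := by
  obtain ⟨m, hm, h1⟩ := C.exists_conj1 C.S_le ht.sq hM
  obtain ⟨h2, u, hu, v, hv, h3⟩ := C.cent_le_S (ht.conj m) h1
  rw [cent1_conj_smul] at h2 hu hv
  refine ⟨fun x hx => ?_, _, mem_conj_smul_iff.1 hu, _, mem_conj_smul_iff.1 hv, ?_⟩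
  · have := mul_mem (mul_mem (inv_mem hm) (h2 (conj_mem_conj_smul m hx))) hm
    simpa [mul_assoc] using this
  · simpa using h3.conj m⁻¹

theorem se : SE G (G ⧸ 𝐍(WW z e)) := by
  have fx : ∀ u g : G, u • (g : G ⧸ 𝐍(WW z e)) = g ↔ g⁻¹ * u * g ∈ 𝐍(WW z e) := fun u g => by
    rw [MulAction.Quotient.smul_coe, eq_comm, QuotientGroup.eq, smul_eq_mul, mul_assoc]
  refine ⟨fun t ht a b ha hb => ?_, fun t ht => ?_, fun a b => exists_smul_eq G a b,
    z, C.f4.l⟩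
  · obtain ⟨g, rfl⟩ := QuotientGroup.mk_surjective a
    obtain ⟨h, rfl⟩ := QuotientGroup.mk_surjective b
    rw [fx] at ha hb
    have i1 : Iv (g⁻¹ * t * g) := by simpa using ht.conj g⁻¹
    have i2 : Iv (h⁻¹ * t * h) := by simpa using ht.conj h⁻¹
    obtain ⟨h1, u, hu, v, hv, h3⟩ := C.cent_le i1 ha
    have h2 := (C.cent_le i2 hb).1
    have m : ∀ x ∈ 𝐂[g⁻¹ * t * g], h⁻¹ * g * x * (h⁻¹ * g)⁻¹ ∈ 𝐍(WW z e) := fun x hx =>
      h2 (by
        have := conj_mem_conj_smul (h⁻¹ * g) hx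
        rw [← cent1_conj_smul] at this
        simpa [mul_assoc] using this)
    exact (QuotientGroup.eq.2 (C.star _ u v h3 (h1 hu) (h1 hv) (m u hu) (m v hv))).symm
  · obtain ⟨m, -, h1⟩ := C.exists_conj1 le_top ht.sq (mem_top t)
    exact ⟨(m⁻¹ : G), (fx _ _).2 (by simpa using C.S_le h1)⟩

end Cf

theorem eq_bot_of_MS {G Ω : Type u} [Group G] [Finite G] [MulAction G Ω] [FaithfulSMul G Ω]
    (M : MS G Ω) {a : Ω} {u v : G} (h4 : F4 u v) (hu : u • a = a) (hv : v • a = a)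
    {W : Subgroup G} (hW : W ⊴ stabilizer G a) (ho : Odd (Nat.card W)) : W = ⊥ := by
  have : Fact (Nat.Prime 2) := ⟨Nat.prime_two⟩
  obtain ⟨b, hb⟩ := M.exists_ne' a
  obtain ⟨t, ht, htb⟩ := M.exists_swapper hb.symm
  obtain ⟨F, rfl, rfl, rfl⟩ := M.exists_fr ht (htb ▸ hb)
  have h2 : 2 < Nat.card F.Q0 := by
    classical
    have hs : (({1, u, v} : Finset G) : Set G) ⊆ F.Q0 := by
      intro x hx
      simp only [Finset.coe_insert, Finset.coe_singleton, Set.mem_insert_iff,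
        Set.mem_singleton_iff] at hx
      rcases hx with rfl | rfl | rfl
      exacts [one_mem _, ⟨F.mem_Q_of_invol h4.l.sq hu, h4.l.sq⟩,
        ⟨F.mem_Q_of_invol h4.r.sq hv, h4.r.sq⟩]
    have h5 := Set.ncard_le_ncard hs
    rw [Set.ncard_coe_finset, Finset.card_insert_of_notMem (by simp [h4.l.ne.symm, h4.r.ne.symm]),
      Finset.card_pair h4.ne] at h5
    exact h5
  have hc := all_IH FT.oddOrder (Nat.card G + 1) G Ω F (Nat.lt_succ_self _) h2
  have hU : IsPGroup 2 F.U := fun x => ⟨2, Subtype.ext (by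
    have := (hc.sq x x.2).2
    simpa [pow_succ, mul_assoc] using this)⟩
  have hWU : W ≤ 𝐂(F.U) := le_cent_of_coprime (fun w hw => F.mem_normalizer (hW.le hw))
    (fun x hx => hW.norm (F.fix _ x hx)) ((odd_iff_piGrp.1 ho).coprime_of_isPGroup hU).symm
  rw [eq_bot_iff]
  intro w hw
  have hwb : w • F.b = F.b := by
    obtain ⟨x, hx, e⟩ := Fr.exists_U (F := F) (y := w • F.b) fun e => F.ba
      (smul_left_cancel w (e.trans (hW.le hw).symm))
    have c : ∀ y : Ω, w • x • y = x • w • y := fun y => by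
      rw [← mul_smul, ← hWU hw x hx, mul_smul]
    have ow := odd_mem ho hw
    refine fix_of_odd ow ?_
    rw [← mul_smul]
    refine fix_of_odd (odd_mem ho (mul_mem hw hw)) ?_
    simp only [mul_smul]
    rw [← e, c, c, c, ← e, c, c, ← e, c, ← e, ← mul_smul, ← mul_smul, ← mul_smul, mul_assoc,
      (hc.sq x hx).2, one_smul]
  refine mem_bot.2 (eq_of_smul_eq_smul (α := Ω) fun y => ?_)
  rw [one_smul]
  by_cases hy : y = F.a
  · rw [hy]; exact hW.le hw
  obtain ⟨x, hx, rfl⟩ := Fr.exists_U (F := F) hy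
  rw [← mul_smul, ← hWU hw x hx, mul_smul, hwb]

theorem Cf.W_bot (H : GenHyp.{u}) {G : Type u} [Group G] [Finite G] {S E : Subgroup G} {z e : G}
    (C : Cf S E z e) (hO : ∀ N : Subgroup G, N.Normal → Odd (Nat.card N) → N = ⊥) :
    WW z e = ⊥ := by
  by_cases hM : 𝐍(WW z e) = ⊤
  · exact hO _ (normalizer_eq_top_iff.1 hM) C.odd_W
  have hne : ∃ a b : G ⧸ 𝐍(WW z e), a ≠ b := by
    obtain ⟨g, hg⟩ : ∃ g, g ∉ 𝐍(WW z e) := by
      by_contra hc
      push Not at hc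
      exact hM (eq_top_iff.2 fun g _ => hc g)
    exact ⟨((1 : G) : G ⧸ 𝐍(WW z e)), g, fun e => hg (by simpa using QuotientGroup.eq.1 e)⟩
  have S := C.se
  have hk : (toPermHom G (G ⧸ 𝐍(WW z e))).ker = ⊥ := hO _ inferInstance
    (odd_of_no_iv fun t ht hi => by
      obtain ⟨a, b, hab⟩ := hne
      have : ∀ y : G ⧸ 𝐍(WW z e), t • y = y := fun y => congrArg (fun f : Equiv.Perm _ => f y) ht
      exact hab (S.un t hi a b (this a) (this b)))
  have : FaithfulSMul G (G ⧸ 𝐍(WW z e)) := ⟨fun h =>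
    (MonoidHom.ker_eq_bot_iff _).1 hk (Equiv.ext h)⟩
  obtain ⟨M⟩ := H G _ S ⟨z, e, C.f4.l, C.f4.r, C.f4.ne, C.f4.cm⟩ hne
  have hst := stabilizer_quotient 𝐍(WW z e)
  have hW : WW z e ⊴ 𝐍(WW z e) := ⟨le_normalizer, le_rfl⟩
  refine eq_bot_of_MS M (a := ((1 : G) : G ⧸ 𝐍(WW z e))) C.f4 ?_ ?_ (hst.symm ▸ hW) C.odd_W
  · exact mem_stabilizer_iff.1 (hst.symm ▸ C.S_le (C.nrm.le C.zE))
  · exact mem_stabilizer_iff.1 (hst.symm ▸ C.S_le (C.nrm.le C.eE))

end Red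

open Red in
theorem s3332_of_general (H : GenHyp.{u}) {G : Type u} [Group G] [Finite G]
    (hO : Cfsg.oddCore G = ⊥) (S : Sylow 2 G)
    (A : Subgroup G) (hAS : A ≤ S) (hAn : (A.subgroupOf S).Normal) (hAc : IsMulCommutative A)
    (hA3 : ¬ Cfsg.PRankLE 2 2 A)
    (hsol : ∀ t : G, orderOf t = 2 → Group.IsSolvable (centralizer ({t} : Set G))) :
    ∀ t : G, orderOf t = 2 → Cfsg.oddCore (centralizer ({t} : Set G)) = ⊥ := by
  have : Fact (Nat.Prime 2) := ⟨Nat.prime_two⟩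
  have hc := FT.isMulCommutative_iff.1 hAc
  have hA : A ⊴ (S : Subgroup G) := (nrm_iff_normal_subgroupOf hAS).2 hAn
  let E : Subgroup G :=
    { carrier := {a | a ∈ A ∧ a * a = 1}
      one_mem' := ⟨A.one_mem, mul_one 1⟩
      mul_mem' := fun {a b} ha hb => ⟨A.mul_mem ha.1 hb.1, by
        rw [mul_assoc, ← mul_assoc b, ← hc a ha.1 b hb.1, mul_assoc, hb.2, mul_one, ha.2]⟩
      inv_mem' := fun {a} ha => by rw [inv_of_sq ha.2]; exact ha }
  have hE : EA2 E := fun a ha => ha.2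
  have hn : E ⊴ (S : Subgroup G) := ⟨fun a ha => hAS ha.1, fun s hs =>
    mem_normalizer_of_conj_mem fun a ha => ⟨conj_mem_of_mem_normalizer (hA.norm hs) ha.1, by
      rw [conj_mul, ha.2, mul_one, mul_inv_cancel]⟩⟩
  have h8 : 8 ≤ Nat.card E := by
    refine card8 hE ?_
    unfold Cfsg.PRankLE at hA3
    push Not at hA3
    obtain ⟨B, -, h1, h2⟩ := hA3
    have h3 : B.map A.subtype ≤ E := by
      rintro _ ⟨b, hb, rfl⟩
      exact ⟨b.2, by simpa [pow_two] using congrArg Subtype.val (h1 b hb)⟩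
    have h4 := card_le_of_le h3
    rw [card_map_of_injective A.subtype_injective] at h4
    omega
  obtain ⟨z, hz, hz1⟩ := (bot_or_exists_ne_one _).resolve_left
    (PG.inf_cen_ne_bot S.2 hn (fun e => by rw [e, card_bot] at h8; omega))
  obtain ⟨e, he, he1, he2⟩ := Sig.hyp_self.exists_ne (sf_bot hE h8) hz.1
  have C : Cf S E z e := ⟨fun t ht => hsol t ht.orderOf, isSylowIn_top S, hn, hE, h8, hz.1, he,
    ⟨⟨hE z hz.1, hz1⟩, ⟨hE e he, he1⟩, he2.symm, hE.comm hz.1 he⟩, fun s hs => (hz.2 s hs).symm⟩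
  have hW := C.W_bot H fun N hN ho => le_bot_iff.1
    (hO ▸ le_pPrimeCore hN (Nat.coprime_two_right.2 ho))
  intro t ht
  have hi := iv_of_orderOf ht
  obtain ⟨m, -, hm⟩ := C.exists_conj1 le_top hi.sq (mem_top t)
  have h1 : th (m * t * m⁻¹) = ⊥ := by
    rw [eq_bot_iff, ← hW]
    by_cases e1 : m * t * m⁻¹ = z
    · rw [e1]; exact le_sup_left.trans le_sup_left
    · rw [← C.WW_z hm ⟨C.f4.l, hi.conj m, Ne.symm e1, C.cen _ hm⟩]
      exact le_sup_right.trans le_sup_left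
  rw [th_conj, conj_smul_eq_bot_iff] at h1
  have h2 : (pPrimeCore 2 𝐂[t]).map (𝐂[t]).subtype ≤ core {2}ᶜ 𝐂[t] := by
    refine le_core ((nrm_iff_normal_subgroupOf (map_subtype_le _)).2 ?_) ?_
    · rw [subgroupOf, comap_map_eq_self_of_injective (𝐂[t]).subtype_injective]
      infer_instance
    · rw [← odd_iff_piGrp, card_map_of_injective (𝐂[t]).subtype_injective]
      exact Nat.coprime_two_right.1 (coprime_card_pPrimeCore 2)
  exact (map_eq_bot_iff_of_injective _ (𝐂[t]).subtype_injective).1 (le_bot_iff.1 (h1 ▸ h2))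

end Cfsg.Agent.Bender
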