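import Cfsg.Agent.Bender.G11
import Cfsg.Agent.Bender.Red

/-! The general theorem on strongly embedded subgroups, modulo the character computation. -/

set_option autoImplicit false

namespace Cfsg.Agent.Bender

open Subgroup MulAction Cfsg.Agent.Local Cfsg.Agent.FT Cfsg.Agent.Suz2T
open scoped Pointwise commutatorElement

universe u

/-- the outcome of the character computation in the rank one configuration -/
def Step9 : Prop :=
  ∀ (G Ω : Type u) [Group G] [Finite G] [MulAction G Ω] (a b : Ω) (K : Subgroup G) (s : ℕ),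
    RO a b K s → ∀ z : G, Iv z → z • a = a → ∀ c ∈ 𝐂[z], ∀ w : G, Iv w → w • a = a →
      ∃ d ∈ Dd G a b ⊓ 𝐂[z], d * w * d⁻¹ = c * w * c⁻¹

theorem mul_pred_lt (s : ℕ) : s * (s - 1) + 1 < 2 ^ s ∨ s = 0 := by
  have : ∀ n : ℕ, (n + 1) * n + 1 < 2 ^ (n + 1) ∧ n + 1 ≤ 2 ^ n := fun n => by
    induction n with
    | zero => simp
    | succ n ih => constructor <;> rw [pow_succ] <;> nlinarith [ih.1, ih.2, pow_succ 2 n]
  cases s with
  | zero => exact Or.inr rfl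
  | succ n => exact Or.inl (this n).1

variable {G Ω : Type u} [Group G] [Finite G] [MulAction G Ω]

section

variable {a b : Ω} {K : Subgroup G} {s : ℕ} (R : RO a b K s)
  (H : ∀ z : G, Iv z → z • a = a → ∀ c ∈ 𝐂[z], ∀ w : G, Iv w → w • a = a →
      ∃ d ∈ Dd G a b ⊓ 𝐂[z], d * w * d⁻¹ = c * w * c⁻¹)
include R H

theorem RO.card_fix {c : G} (hc : c • a = a) (h0 : c ∉ 𝐂(Aa G a)) :
    {z | z ∈ Ts G a a ∧ c ∈ 𝐂[z]}.ncard + 1 ≤ s := by
  obtain ⟨w, hw, hwa, h1⟩ : ∃ w, Iv w ∧ w • a = a ∧ w * c ≠ c * w := by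
    by_contra! e
    exact h0 (mem_cent_Aa.2 e)
  have h2 : ∀ d : G, d * w * d⁻¹ = c * w * c⁻¹ → d ≠ 1 := by
    rintro d e rfl
    exact h1 (by rw [one_mul, inv_one, mul_one] at e; rw [eq_mul_inv_iff_mul_eq] at e; exact e)
  obtain ⟨k, hk, e⟩ := R.ktr w _ hw (hw.conj c) hwa (by simpa [hc] using conj_fix hwa c)
  have := fun z : {z | z ∈ Ts G a a ∧ c ∈ 𝐂[z]} => H z z.2.1.1 z.2.1.2 c z.2.2 w hw hwa
  choose d hd hd' using this
  have h3 : ∀ x ∈ Dd G a b, x * w * x⁻¹ = c * w * c⁻¹ → k⁻¹ * x ∈ Dd G a b ⊓ 𝐂[w] :=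
    fun x hx e' => mem_inf.2 ⟨mul_mem (inv_mem (R.le hk)) hx, mem_cent1.2 (by
      calc w * (k⁻¹ * x) = k⁻¹ * (k * w * k⁻¹) * x := by group
        _ = k⁻¹ * x * w := by rw [e, ← e']; group)⟩
  rw [← R.cardC w hw hwa, ← Nat.card_coe_set_eq, ← Finite.card_option]
  refine Nat.card_le_card_of_injective (fun x => x.elim ⟨_, h3 k (R.le hk) e⟩
    fun z => ⟨_, h3 _ (hd z).1 (hd' z)⟩) ?_
  have h4 : ∀ z, k ≠ d z := fun z e' => z.2.1.1.not_mem (R.toSE.odd_Dd R.ne)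
    (R.le (R.cent k hk (h2 k e) (mem_cent1.2 (mem_cent1.1 (e' ▸ (hd z).2)).symm)))
  rintro (_ | x) (_ | y) e'
  · rfl
  · exact absurd (mul_left_cancel (congrArg Subtype.val e')) (h4 y)
  · exact absurd (mul_left_cancel (congrArg Subtype.val e')).symm (h4 x)
  · have e'' : d x = d y := mul_left_cancel (congrArg Subtype.val e')
    exact congrArg some (Subtype.ext (R.uniq _ (hd x).1 (h2 _ (hd' x)) _ _ x.2.1.1 y.2.1.1
      x.2.1.2 y.2.1.2 (hd x).2 (e'' ▸ (hd y).2)))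

theorem RO.exists_d {z c : G} (hz : Iv z) (hza : z • a = a) (hc : c ∈ 𝐂[z]) :
    ∃ d ∈ Dd G a b, d⁻¹ * c ∈ 𝐂(Aa G a) := by
  classical
  by_contra! h0
  have := Fintype.ofFinite G
  have := fun w : Ts G a a => H z hz hza c hc w w.2.1 w.2.2
  choose d hd hd' using this
  have h1 := Finset.card_le_mul_card_image_of_maps_to (s := Finset.univ) (t := Finset.univ)
    (f := fun w : Ts G a a => (⟨d w, hd w⟩ : ↥(Dd G a b ⊓ 𝐂[z]))) (fun _ _ => Finset.mem_univ _)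
    (s - 1) fun x _ => by
      have h2 := R.card_fix H (c := x.1⁻¹ * c) (by
        rw [mul_smul, R.toSE.cent_le hz hza hc, inv_smul_eq_iff]; exact x.2.1.1.symm) (h0 _ x.2.1)
      refine (Nat.le_sub_one_of_lt h2).trans' ?_
      rw [← Set.ncard_coe_finset, ← Set.ncard_image_of_injective _ Subtype.val_injective]
      refine Set.ncard_le_ncard ?_
      rintro _ ⟨w, hw, rfl⟩
      have e : d w = x := congrArg Subtype.val (Finset.mem_filter.1 hw).2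
      refine ⟨w.2, mem_cent1.2 ?_⟩
      calc w * (x.1⁻¹ * c) = x.1⁻¹ * (d w * w * (d w)⁻¹) * c := by rw [e]; group
        _ = x.1⁻¹ * c * w := by rw [hd']; group
  rw [Finset.card_univ, Finset.card_univ, ← Nat.card_eq_fintype_card, ← Nat.card_eq_fintype_card,
    R.cardC z hz hza, Nat.card_coe_set_eq, mul_comm] at h1
  have := R.cardI
  have := (mul_pred_lt s).resolve_right R.prime.ne_zero
  omega

theorem RO.cent_tr (c : Ω) (hc : a ≠ c) : ∃ q ∈ 𝐂(Aa G a), q • b = c := by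
  obtain ⟨g, hg, rfl⟩ := R.two c hc
  obtain ⟨z, hz, hza⟩ := R.toSE.exists_iv_fix a
  obtain ⟨d, hd, e⟩ := R.toSE.exists_conj_D hz (hz.conj g) hza
    (by simpa [hg] using conj_fix hza g) R.ne
  obtain ⟨d', hd', e'⟩ := R.exists_d H hz hza (c := d⁻¹ * g) (mem_cent1.2 (by
    calc z * (d⁻¹ * g) = d⁻¹ * (d * z * d⁻¹) * g := by group
      _ = d⁻¹ * g * z := by rw [e]; group))
  have h1 := mul_mem hd hd'
  refine ⟨_, (R.toSE.C_nrm a).conj_mem h1.1 e', ?_⟩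
  rw [show d * d' * (d'⁻¹ * (d⁻¹ * g)) * (d * d')⁻¹ = g * (d * d')⁻¹ by group, mul_smul]
  exact congrArg _ (inv_mem h1).2

end

theorem GH.ms (H : Step9.{u}) (h : GH G Ω) : Nonempty (MS G Ω) := by
  obtain ⟨a, b, hab⟩ := h.ne
  by_cases hW : 𝐂(Aa G a) ⊓ Dd G a b = ⊥
  swap
  · exact h.caseW hab hW
  by_contra h0
  refine h0 (h.peel hab _ (Nrm.refl _) (fun c hc => ?_) fun y hy hp c hc h1 h2 => ?_)
  · obtain ⟨n, h1, h2⟩ := h.two_trans hab hc
    exact ⟨n, h1, h2⟩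
  by_contra! hr
  obtain ⟨K, R⟩ := h.exists_ro hab hW hy.2 hp hc h1 h2 fun u hu v hv h3 h4 h5 =>
    by_contra fun e => hr u hu v hv h3 h4 e h5
  exact h0 (h.ms_of_reg hab (h.toSE.C_nrm a) (R.cent_tr (H G Ω a b K _ R)) hW)

theorem ms_of_normal [FaithfulSMul G Ω] (S : SE G Ω) {N : Subgroup G} [hN : N.Normal]
    (S' : SE N Ω) (h4 : Four N) (M : MS N Ω) : Nonempty (MS G Ω) := by
  refine ⟨⟨fun y => (M.Q y).map N.subtype, ?_, ?_, fun y z w hz hw => ?_, ?_, M.odd, M.three,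
    fun g y z hyz => S.odd_fix hyz⟩⟩
  · rintro g y _ ⟨x, hx, rfl⟩
    refine ⟨⟨_, hN.conj_mem _ x.2 g⟩, M.mem_Q_of_two_pow (conj_fix (u := (x : G)) (M.fix y x hx) g) 2 ?_, rfl⟩
    have : (x : G) ^ 4 = 1 := congrArg Subtype.val (pow_four S' h4 M hx)
    convert (M.Q _).one_mem
    exact Subtype.ext (by simp [conj_pow, this])
  · rintro y _ ⟨x, hx, rfl⟩
    exact M.fix y x hx
  · obtain ⟨x, hx, e⟩ := M.tr y z w hz hw
    exact ⟨x, ⟨x, hx, rfl⟩, e⟩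
  · rintro y z hz _ ⟨x, hx, rfl⟩ e
    exact congrArg Subtype.val (M.free y z hz x hx e)

theorem ihb_of_step9 (H : Step9.{u}) (n : ℕ) : IHB.{u} n := by
  induction n with
  | zero => exact fun _ _ _ _ _ _ h => absurd h (Nat.not_lt_zero _)
  | succ n ih =>
  intro G Ω _ _ _ _ hn S h4 hne
  have ih' : IHB.{u} (Nat.card G) := fun X Y _ _ _ _ h => ih X Y (by omega)
  by_cases hs : IsSimpleGroup G
  · exact GH.ms H ⟨S, hs, h4, hne, ih'⟩
  obtain ⟨N, hN, h1, h2⟩ : ∃ N : Subgroup G, N.Normal ∧ N ≠ ⊥ ∧ N ≠ ⊤ := by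
    by_contra! e
    obtain ⟨u, hu⟩ := S.iv
    have : Nontrivial G := ⟨⟨u, 1, hu.ne⟩⟩
    exact hs ⟨fun N hN => or_iff_not_imp_left.2 (e N hN)⟩
  obtain ⟨u, huN, hu⟩ := exists_iv (X := N) fun ho => h1 (eq_bot_iff.2 fun g hg => by
    refine mem_bot.2 (eq_of_smul_eq_smul (α := Ω) fun a => ?_)
    obtain ⟨u, v, hu, hv, huv, hc, hua, -⟩ := S.pair h4 a
    rw [one_smul]
    exact S.le_of_four hu hv huv hc hua ho (normalizer_eq_top N ▸ mem_top _)
      (normalizer_eq_top N ▸ mem_top _) hg)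
  have h3 : ∀ v, Iv v → v ∈ N := fun v hv => by
    obtain ⟨a, ha⟩ := S.ex u hu
    obtain ⟨b, hb⟩ : ∃ b, b ≠ a := by
      obtain ⟨x, y, h⟩ := hne
      by_contra! e
      exact h ((e x).trans (e y).symm)
    obtain ⟨x, rfl⟩ := S.tr a b
    obtain ⟨g, -, rfl⟩ := S.conj_in (X := ⊤) hu hv trivial trivial ha trivial hb
    exact hN.conj_mem _ huN g
  have S' : SE N Ω := ⟨fun w hw => S.un w hw.coe, fun w hw => S.ex w hw.coe, fun a b => by
    by_cases e : a = b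
    · exact ⟨1, by rw [one_smul, e]⟩
    · obtain ⟨t, ht, e⟩ := S.exists_swap e
      exact ⟨⟨t, h3 t ht⟩, e⟩, ⟨_, hu.sub huN⟩⟩
  obtain ⟨v, w, hv, hw, e1, e2⟩ := h4
  have h4' := four_sub (h3 v hv) (h3 w hw) hv hw e1 e2
  obtain ⟨M⟩ := ih' N Ω (card_lt_of_ne_top h2) S' h4' hne
  exact ms_of_normal S S' h4' M

theorem genHyp_of_step9 (H : Step9.{u}) : GenHyp.{u} := fun G Ω _ _ _ _ =>
  ihb_of_step9 H _ G Ω (Nat.lt_succ_self _)

end Cfsg.Agent.Bender
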