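import Cfsg.Agent.Bender.G1
import Cfsg.Agent.Bender.Line

/-! The inductive setting of the theorem of Bender. -/

set_option autoImplicit false
set_option linter.unusedSectionVars false

namespace Cfsg.Agent.Bender

open Subgroup MulAction Cfsg.Agent.Local Cfsg.Agent.FT Cfsg.Agent.Suz2T
open scoped Pointwise commutatorElement

universe u

/-- existence of a four-subgroup -/
def Four (G : Type*) [Group G] : Prop := ∃ u v : G, Iv u ∧ Iv v ∧ u ≠ v ∧ u * v = v * u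

/-- the inductive hypothesis -/
def IHB (n : ℕ) : Prop :=
  ∀ (G Ω : Type u) [Group G] [Finite G] [MulAction G Ω] [FaithfulSMul G Ω], Nat.card G < n →
    SE G Ω → Four G → (∃ a b : Ω, a ≠ b) → Nonempty (MS G Ω)

section
variable {G : Type*} [Group G] [Finite G] {Ω : Type*} [MulAction G Ω]

theorem SE.lift_iv (S : SE G Ω) (hne : ∃ a b : Ω, a ≠ b) {w : Img G Ω} (hw : Iv w) :
    ∃ x : G, Iv x ∧ img G Ω x = w := by
  obtain ⟨g, rfl⟩ := img_surj w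
  obtain ⟨a, b, hab⟩ := hne
  have h1 : img G Ω (g * g) = 1 := by rw [map_mul, hw.sq]
  obtain ⟨k, hk⟩ := S.odd_fix hab (img_eq_one.1 h1 a) (img_eq_one.1 h1 b)
  have h2 : img G Ω (g ^ (2 * k + 1)) = img G Ω g := by
    rw [pow_succ, pow_mul, sq, map_mul, map_pow, h1, one_pow, one_mul]
  refine ⟨_, ⟨?_, fun e => hw.ne (by rw [← h2, e, map_one])⟩, h2⟩
  rw [← pow_add, ← two_mul, pow_mul, sq, ← hk, pow_orderOf_eq_one]

theorem SE.iv_img (S : SE G Ω) (hne : ∃ a b : Ω, a ≠ b) {w : G} (hw : Iv w) : Iv (img G Ω w) := by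
  obtain ⟨a, b, hab⟩ := hne
  exact ⟨by rw [← map_mul, hw.sq, map_one], fun e =>
    hab (S.un w hw a b (img_eq_one.1 e a) (img_eq_one.1 e b))⟩

theorem SE.img (S : SE G Ω) (hne : ∃ a b : Ω, a ≠ b) : SE (Img G Ω) Ω where
  un u hu a b ha hb := by
    obtain ⟨x, hx, rfl⟩ := S.lift_iv hne hu
    exact S.un x hx a b ha hb
  ex u hu := by
    obtain ⟨x, hx, rfl⟩ := S.lift_iv hne hu
    exact S.ex x hx
  tr a b := let ⟨g, hg⟩ := S.tr a b; ⟨Suz2T.img G Ω g, hg⟩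
  iv := let ⟨_, hu⟩ := S.iv; ⟨_, S.iv_img hne hu⟩

theorem SE.four_img (S : SE G Ω) (hne : ∃ a b : Ω, a ≠ b) (h : Four G) : Four (Img G Ω) := by
  obtain ⟨u, v, hu, hv, h1, h2⟩ := h
  refine ⟨_, _, S.iv_img hne hu, S.iv_img hne hv, fun e => ?_, by rw [← map_mul, h2, map_mul]⟩
  refine (S.iv_img hne (w := u * v) ⟨?_, fun e => h1 ?_⟩).ne ?_
  · rw [mul_assoc, ← mul_assoc v, ← h2, mul_assoc, hv.sq, mul_one, hu.sq]
  · rw [← hu.inv, inv_eq_of_mul_eq_one_right e]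
  · rw [map_mul, e, ← map_mul, hv.sq, map_one]

theorem SE.pair (S : SE G Ω) (h : Four G) (a : Ω) :
    ∃ u v : G, Iv u ∧ Iv v ∧ u ≠ v ∧ u * v = v * u ∧ u • a = a ∧ v • a = a := by
  obtain ⟨u, v, hu, hv, h1, h2⟩ := h
  obtain ⟨b, hb⟩ := S.ex u hu
  obtain ⟨g, rfl⟩ := S.tr b a
  exact ⟨_, _, hu.conj g, hv.conj g, by simpa using h1, by rw [conj_mul, conj_mul, h2],
    conj_fix hb g, conj_fix (S.fix_of_comm hu hb h2.symm) g⟩

theorem SE.orbit (S : SE G Ω) {X : Subgroup G} {u : G} (huX : u ∈ X) (hu : Iv u) {a : Ω}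
    (ha : u • a = a) (h : ¬ X ≤ stabilizer G a) : SE X (orbit X a) := by
  obtain ⟨x, hx, hxa⟩ := SetLike.not_le_iff_exists.1 h
  have key : ∀ w : X, Iv w → Iv (w : G) := fun w hw =>
    ⟨congrArg Subtype.val hw.sq, fun e => hw.ne (Subtype.ext e)⟩
  refine ⟨fun w hw b c hb hc => Subtype.ext (S.un w (key w hw) _ _ (congrArg Subtype.val hb)
    (congrArg Subtype.val hc)), fun w hw => ?_, exists_smul_eq X,
    ⟨⟨u, huX⟩, Subtype.ext hu.sq, fun e => hu.ne (congrArg Subtype.val e)⟩⟩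
  obtain ⟨g, hg, e⟩ := S.conj_in hu (key w hw) huX w.2 ha hx hxa
  exact ⟨⟨g • a, ⟨g, hg⟩, rfl⟩, Subtype.ext (by
    change (w : G) • g • a = g • a
    rw [← e]; exact conj_fix ha g)⟩

omit [Finite G] in
theorem se_quot {M : Subgroup G} (h1 : ∀ w g : G, Iv w → w ∈ M → g * w * g⁻¹ ∈ M → g ∈ M)
    (h2 : ∀ w : G, Iv w → ∃ g, g⁻¹ * w * g⁻¹⁻¹ ∈ M) (h3 : ∃ w : G, Iv w) : SE G (G ⧸ M) := by
  have key : ∀ u g : G, u • (g : G ⧸ M) = g ↔ g⁻¹ * u * g⁻¹⁻¹ ∈ M := fun u g => by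
    rw [MulAction.Quotient.smul_coe, eq_comm, QuotientGroup.eq, smul_eq_mul, inv_inv, mul_assoc]
  refine ⟨fun u hu b c hb hc => ?_, fun u hu => ?_, exists_smul_eq G, h3⟩
  · obtain ⟨g, rfl⟩ := QuotientGroup.mk_surjective b
    obtain ⟨g', rfl⟩ := QuotientGroup.mk_surjective c
    refine (QuotientGroup.eq.2 (h1 _ (g'⁻¹ * g) (hu.conj _) ((key u g).1 hb) ?_)).symm
    convert (key u g').1 hc using 1
    group
  · obtain ⟨g, hg⟩ := h2 u hu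
    exact ⟨g, (key u g).2 hg⟩

omit [Finite G] in
theorem four_sub {X : Subgroup G} {u v : G} (huX : u ∈ X) (hvX : v ∈ X) (hu : Iv u) (hv : Iv v)
    (h1 : u ≠ v) (h2 : u * v = v * u) : Four X :=
  ⟨⟨u, huX⟩, ⟨v, hvX⟩, ⟨Subtype.ext hu.sq, fun e => hu.ne (congrArg Subtype.val e)⟩,
    ⟨Subtype.ext hv.sq, fun e => hv.ne (congrArg Subtype.val e)⟩,
    fun e => h1 (congrArg Subtype.val e), Subtype.ext h2⟩

omit [Finite G] in
theorem Iv.sub {X : Subgroup G} {u : G} (hu : Iv u) (h : u ∈ X) : Iv (⟨u, h⟩ : X) :=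
  ⟨Subtype.ext hu.sq, fun e => hu.ne (congrArg Subtype.val e)⟩

omit [Finite G] in
theorem Iv.coe {X : Subgroup G} {u : X} (hu : Iv u) : Iv (u : G) :=
  ⟨congrArg Subtype.val hu.sq, fun e => hu.ne (Subtype.ext e)⟩

theorem card_lt_of_ne_top {X : Subgroup G} (h : X ≠ ⊤) : Nat.card X < Nat.card G := by
  have := card_lt_of_lt' (lt_top_iff_ne_top.2 h)
  rwa [card_top] at this

/-- the conclusion of the theorem for a subgroup `X` acting on the orbit of `a` -/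
structure BT (X : Subgroup G) (a : Ω) (N : Subgroup G) : Prop where
  ker : ∀ g ∈ X, g ∈ core {2}ᶜ X ↔ ∀ x ∈ X, g • x • a = x • a
  le : core {2}ᶜ X ≤ N
  nrm : N ⊴ X ⊓ stabilizer G a
  two : ∀ n ∈ N, n ^ 4 ∈ core {2}ᶜ X
  tr : ∀ x ∈ X, ∀ y ∈ X, x • a ≠ a → y • a ≠ a → ∃ n ∈ N, n • x • a = y • a
  iv : ∀ w ∈ X, Iv w → w • a = a → w ∈ N
  cen : ∀ w ∈ X, Iv w → w • a = a → ∀ n ∈ N, n * w * n⁻¹ * w ∈ core {2}ᶜ X
  ktwo : ∀ t ∈ X, Iv t → t • a ≠ a → ∀ k ∈ X, k • a = a → t * k * t = k⁻¹ → ∀ x ∈ X,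
    k • x • a = x • a → x • a ≠ a → x • a ≠ t • a → k ∈ core {2}ᶜ X
  gen : ∀ C : Subgroup G, C ⊴ X → (∃ u ∈ C, Iv u) → N ≤ C ⊔ core {2}ᶜ X

end

variable {G Ω : Type u} [Group G] [Finite G] [MulAction G Ω]

theorem exists_fr' (S : SE G Ω) (h4 : Four G) (M : MS G Ω) (a : Ω) :
    ∃ F : Fr G Ω, F.toMS = M ∧ F.a = a ∧ 2 < Nat.card F.Q0 := by
  obtain ⟨b, hb⟩ := M.exists_ne' a
  obtain ⟨t, ht, htb⟩ := M.exists_swapper hb.symm
  obtain ⟨F, h1, h2, -⟩ := M.exists_fr (a := a) ht (htb ▸ hb)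
  refine ⟨F, h1, h2, ?_⟩
  obtain ⟨u, v, hu, hv, huv, -, hua, hva⟩ := S.pair h4 a
  subst h1 h2
  have := Fintype.ofFinite F.Q0
  rw [Nat.card_eq_fintype_card, Fintype.two_lt_card_iff]
  exact ⟨1, ⟨u, F.mem_Q_of_invol hu.sq hua, hu.sq⟩, ⟨v, F.mem_Q_of_invol hv.sq hva, hv.sq⟩,
    fun e => hu.ne (congrArg Subtype.val e).symm, fun e => hv.ne (congrArg Subtype.val e).symm,
    fun e => huv (congrArg Subtype.val e)⟩

theorem pow_four [FaithfulSMul G Ω] (S : SE G Ω) (h4 : Four G) (M : MS G Ω) {a : Ω} {x : G}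
    (hx : x ∈ M.Q a) : x ^ 4 = 1 := by
  obtain ⟨F, rfl, rfl, h⟩ := exists_fr' S h4 M a
  have := ((all_IH FT.oddOrder (Nat.card G + 1) G Ω F (by omega) h).sq x hx).2
  rw [← this, show 4 = 1 + 1 + (1 + 1) by rfl, pow_add, pow_add, pow_one]

theorem IHB.img {n : ℕ} (ih : IHB.{u} n) (hn : Nat.card G < n) (S : SE G Ω) (h4 : Four G)
    (hne : ∃ a b : Ω, a ≠ b) : Nonempty (MS (Img G Ω) Ω) :=
  ih _ _ ((Nat.card_le_card_of_surjective _ img_surj).trans_lt hn) (S.img hne) (S.four_img hne h4)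
    hne

theorem conn_aux [FaithfulSMul G Ω] (S : SE G Ω) (h4 : Four G) (M : MS G Ω) {D : Subgroup G}
    (hD : Odd (Nat.card D)) (ht : ∀ u v : G, Iv u → Iv v → ∃ d ∈ D, d * u * d⁻¹ = v) : False := by
  have : Fact (Nat.Prime 2) := ⟨Nat.prime_two⟩
  obtain ⟨u, hu⟩ := S.iv
  obtain ⟨x, hx⟩ := S.ex u hu
  obtain ⟨y0, hy0⟩ := M.exists_ne' x
  have hQ : IsPGroup 2 (M.Q x) := fun g => ⟨2, Subtype.ext (pow_four S h4 M g.2)⟩
  obtain ⟨n, hn, h1⟩ := exists_fixed_of_coprime (A := D ⊓ stabilizer G x) (N := M.Q x)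
    (fun g hg => M.mem_normalizer hg.2)
    ((odd_iff_piGrp.1 (odd_of_le hD inf_le_left)).coprime_of_isPGroup hQ).symm
    (Or.inl (sol_of_odd (odd_of_le hD inf_le_left))) y0 fun g hg =>
      M.tr x _ _ hy0 fun e => hy0 (smul_left_cancel g (e.trans (Eq.symm hg.2)))
  have hy := M.smul_ne hn hy0
  set y := n • y0
  obtain ⟨v, hv, hvy⟩ := S.exists_iv_fix y
  obtain ⟨d, hd, e⟩ := ht u v hu hv
  have hdx := S.smul_eq_of_conj hv hx hvy e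
  have h2 : D ⊓ stabilizer G y = MulAut.conj d • (D ⊓ stabilizer G x) := by
    rw [smul_inf, FT.conj_smul_eq_self_of_mem hd, ← stab_conj, hdx]
  have h3 : D ⊓ stabilizer G x = D ⊓ stabilizer G y :=
    eq_of_le_of_card_ge (fun g hg => ⟨hg.1, h1 g hg⟩) (by rw [h2, card_conj_smul])
  have h5 : ∀ g ∈ D ⊓ stabilizer G x, g • d⁻¹ • x = d⁻¹ • x := fun g hg => by
    have h6 := conj_mem_conj_smul d hg
    rw [← h2, ← h3] at h6
    have h7 : (d * g * d⁻¹) • x = x := h6.2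
    rw [mul_smul, mul_smul] at h7
    exact eq_inv_smul_iff.2 h7
  have hdx' : d • x ≠ x := hdx ▸ hy
  obtain ⟨w, hwQ, hw, hw2, hw1⟩ := M.cent_invol (S := (D ⊓ stabilizer G x : Subgroup G)) (y₁ := x)
    (y₂ := y) (y₃ := d⁻¹ • x) (fun g hg => hg.2) h1 h5 hy.symm
    (fun e => hdx' (eq_inv_smul_iff.1 e)) (fun e => hdx' (fix_of_odd (odd_mem hD hd) (by
      rw [hdx, e, smul_inv_smul]))) (y := x) fun g hg => hg.2
  have h8 : ∀ z, Iv z → z • x = x → z = w := fun z hz hzx => by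
    obtain ⟨g, hg, rfl⟩ := ht w z ⟨hw2, hw1⟩ hz
    rw [hw g ⟨hg, S.smul_eq_of_conj hz (M.fix x w hwQ) hzx rfl⟩, mul_inv_cancel_right]
  obtain ⟨z, z', hz, hz', h9, -, h10, h11⟩ := S.pair h4 x
  exact h9 ((h8 z hz h10).trans (h8 z' hz' h11).symm)

theorem IHB.conn {n : ℕ} (ih : IHB.{u} n) (hn : Nat.card G < n) (S : SE G Ω) (h4 : Four G)
    (hne : ∃ a b : Ω, a ≠ b) {D : Subgroup G} (hD : Odd (Nat.card D))
    (ht : ∀ u v : G, Iv u → Iv v → ∃ d ∈ D, d * u * d⁻¹ = v) : False := by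
  obtain ⟨M⟩ := ih.img hn S h4 hne
  refine conn_aux (S.img hne) (S.four_img hne h4) M (D := D.map (Suz2T.img G Ω))
    (hD.of_dvd_nat (card_map_dvd _ _)) fun u v hu hv => ?_
  obtain ⟨u, hu', rfl⟩ := S.lift_iv hne hu
  obtain ⟨v, hv', rfl⟩ := S.lift_iv hne hv
  obtain ⟨d, hd, rfl⟩ := ht u v hu' hv'
  exact ⟨_, mem_map_of_mem _ hd, by simp⟩

theorem IHB.bt {n : ℕ} (ih : IHB.{u} n) (S : SE G Ω) {X : Subgroup G} (hn : Nat.card X < n)
    {u v : G} (huX : u ∈ X) (hvX : v ∈ X) (hu : Iv u) (hv : Iv v) (huv : u ≠ v)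
    (hc : u * v = v * u) {a : Ω} (ha : u • a = a) (h : ¬ X ≤ stabilizer G a) : ∃ N, BT X a N := by
  have S' := S.orbit huX hu ha h
  have h4 := four_sub huX hvX hu hv huv hc
  obtain ⟨x0, hx0, hxa⟩ := SetLike.not_le_iff_exists.1 h
  let pt : ∀ x ∈ X, orbit X a := fun x hx => ⟨x • a, ⟨x, hx⟩, rfl⟩
  let α : orbit X a := ⟨a, mem_orbit_self a⟩
  have hne : ∃ b c : orbit X a, b ≠ c := ⟨pt x0 hx0, α, fun e => hxa (congrArg Subtype.val e)⟩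
  obtain ⟨M⟩ := ih.img hn S' h4 hne
  have S'' := S'.img hne
  have h4' := S'.four_img hne h4
  set φ := Suz2T.img X (orbit X a) with hφ
  have hO : Odd (Nat.card (core {2}ᶜ X)) := odd_iff_piGrp.2 (piGrp_core _ _)
  have hk : ∀ g (hg : g ∈ X), φ ⟨g, hg⟩ = 1 ↔ ∀ x ∈ X, g • x • a = x • a := fun g hg => by
    rw [img_eq_one]
    refine ⟨fun e x hx => congrArg Subtype.val (e (pt x hx)), ?_⟩
    rintro e ⟨_, ⟨x, hx⟩, rfl⟩
    exact Subtype.ext (e x hx)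
  have hker : ∀ g ∈ X, g ∈ core {2}ᶜ X ↔ ∀ x ∈ X, g • x • a = x • a := fun g hg => by
    refine ⟨fun h1 x hx => ?_, fun h1 => ?_⟩
    · have := S.le_of_four hu hv huv hc ha hO ((core_nrm _ _).norm huX) ((core_nrm _ _).norm hvX)
        ((core_nrm _ _).inv_conj_mem hx h1)
      rwa [mem_stabilizer_iff, mul_smul, mul_smul, inv_smul_eq_iff] at this
    · refine le_core (K := φ.ker.map X.subtype) ((nrm_iff_normal_subgroupOf (map_subtype_le _)).2 ?_)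
        (odd_iff_piGrp.1 (odd_of_le (S.odd_Dd (Ne.symm hxa)) ?_)) ⟨⟨g, hg⟩, (hk g hg).2 h1, rfl⟩
      · rw [subgroupOf, comap_map_eq_self_of_injective X.subtype_injective]
        infer_instance
      · rintro _ ⟨⟨y, hy⟩, h2, rfl⟩
        exact ⟨by simpa using (hk y hy).1 h2 1 (one_mem _), (hk y hy).1 h2 x0 hx0⟩
  have hk' : ∀ g (hg : g ∈ X), φ ⟨g, hg⟩ = 1 → g ∈ core {2}ᶜ X := fun g hg e =>
    (hker g hg).2 ((hk g hg).1 e)
  have hm : ∀ g, g ∈ ((M.Q α).comap φ).map X.subtype ↔ ∃ hg : g ∈ X, φ ⟨g, hg⟩ ∈ M.Q α :=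
    fun g => ⟨by rintro ⟨⟨y, hy⟩, h2, rfl⟩; exact ⟨hy, h2⟩, fun ⟨hg, h2⟩ => ⟨⟨g, hg⟩, h2, rfl⟩⟩
  have hfix : ∀ g (hg : g ∈ X), g • a = a → φ ⟨g, hg⟩ • α = α := fun g hg e => Subtype.ext e
  have hiv : ∀ w (hw : w ∈ X), Iv w → w • a = a → φ ⟨w, hw⟩ ∈ M.Q α := fun w hw h1 h2 =>
    M.mem_Q_of_invol (S'.iv_img hne (h1.sub hw)).sq (hfix w hw h2)
  refine ⟨((M.Q α).comap φ).map X.subtype, hker, fun g hg => ?_, nrm_of_conj_mem (fun g hg => ?_)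
    fun g hg y hy => ?_, fun g hg => ?_, fun x hx y hy h1 h2 => ?_,
    fun w hw h1 h2 => (hm w).2 ⟨hw, hiv w hw h1 h2⟩, fun w hw h1 h2 g hg => ?_,
    fun t ht h1 h2 k hk1 h3 h5 x hx h6 h7 h8 => ?_, fun C hC ⟨w, hwC, hw⟩ g hg => ?_⟩
  · have h1 := core_le _ _ hg
    exact (hm g).2 ⟨h1, by rw [(hk g h1).2 ((hker g h1).1 hg)]; exact one_mem _⟩
  · obtain ⟨h1, h2⟩ := (hm g).1 hg
    exact ⟨h1, congrArg Subtype.val (M.fix α _ h2)⟩
  · obtain ⟨h1, h2⟩ := (hm y).1 hy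
    refine (hm _).2 ⟨mul_mem (mul_mem hg.1 h1) (inv_mem hg.1), ?_⟩
    have := M.conj' (hfix g hg.1 hg.2) h2
    rwa [← map_inv, ← map_mul, ← map_mul] at this
  · obtain ⟨h1, h2⟩ := (hm g).1 hg
    refine hk' _ (pow_mem h1 4) ?_
    have := pow_four S'' h4' M h2
    rwa [← map_pow] at this
  · obtain ⟨q, hq, e⟩ := M.tr α (pt x hx) (pt y hy) (fun e => h1 (congrArg Subtype.val e))
      (fun e => h2 (congrArg Subtype.val e))
    obtain ⟨q, rfl⟩ := img_surj q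
    exact ⟨q, (hm q).2 ⟨q.2, hq⟩, congrArg Subtype.val e⟩
  · obtain ⟨h3, h5⟩ := (hm g).1 hg
    refine hk' _ (mul_mem (mul_mem (mul_mem h3 hw) (inv_mem h3)) hw) ?_
    have h6 := (S'.iv_img hne (h1.sub hw)).sq
    have := M.invol_central (hiv w hw h1 h2) h6 h5
    change φ (⟨g, h3⟩ * ⟨w, hw⟩ * ⟨g, h3⟩⁻¹ * ⟨w, hw⟩) = 1
    rw [map_mul, map_mul, map_mul, map_inv, this, mul_inv_cancel_right, h6]
  · refine hk' k hk1 (M.eq_one_of_inverted (t := φ ⟨t, ht⟩) (y := α) (z := pt x hx)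
      (S'.iv_img hne (h1.sub ht)).sq (fun e => h2 (congrArg Subtype.val e)) (hfix k hk1 h3) ?_
      (Subtype.ext h6) (fun e => h7 (congrArg Subtype.val e)) fun e => h8 (congrArg Subtype.val e))
    rw [← map_mul, ← map_mul, ← map_inv]
    exact congrArg φ (Subtype.ext h5)
  · obtain ⟨h1, h2⟩ := (hm g).1 hg
    obtain ⟨F, rfl, -, h3⟩ := exists_fr' S'' h4' M α
    have := hC.normal_subgroupOf
    have h5 : ((C.subgroupOf X).map φ).Normal := Normal.map this _ img_surj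
    have h6 := S'.iv_img hne (hw.sub (hC.le hwC))
    obtain ⟨c, hc1, e⟩ := (Fr.le_of_normal h3 h6.sq h6.ne (mem_map_of_mem φ
      (show (⟨w, hC.le hwC⟩ : X) ∈ C.subgroupOf X from hwC))).1 α h2
    have h7 := hk' _ (c⁻¹ * ⟨g, h1⟩).2 (by
      change φ (c⁻¹ * ⟨g, h1⟩) = 1
      rw [map_mul, map_inv, e, inv_mul_cancel])
    have := mul_mem (mem_sup_left (T := core {2}ᶜ X) hc1) (mem_sup_right h7)
    simpa using this

/-- a minimal counterexample -/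
structure GH (G Ω : Type u) [Group G] [MulAction G Ω] : Prop extends SE G Ω where
  simple : IsSimpleGroup G
  four : Four G
  ne : ∃ a b : Ω, a ≠ b
  ih : IHB.{u} (Nat.card G)

namespace GH

variable (h : GH G Ω)
include h

theorem bt {X : Subgroup G} (hX : X ≠ ⊤) {u v : G} (huX : u ∈ X) (hvX : v ∈ X) (hu : Iv u)
    (hv : Iv v) (huv : u ≠ v) (hc : u * v = v * u) {a : Ω} (ha : u • a = a)
    (h1 : ¬ X ≤ stabilizer G a) : ∃ N, BT X a N :=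
  h.ih.bt h.toSE (card_lt_of_ne_top hX) huX hvX hu hv huv hc ha h1

theorem exists_ne (a : Ω) : ∃ b, a ≠ b := by
  obtain ⟨b, c, hbc⟩ := h.ne
  by_cases e : a = b
  · exact ⟨c, e ▸ hbc⟩
  · exact ⟨b, e⟩

theorem stab_ne_top (a : Ω) : stabilizer G a ≠ ⊤ := fun e => by
  obtain ⟨b, hb⟩ := h.exists_ne a
  obtain ⟨g, rfl⟩ := h.tr a b
  exact hb (Eq.symm (e ▸ mem_top g : g ∈ stabilizer G a))

theorem ne_top {X : Subgroup G} {a : Ω} (hX : X ≤ stabilizer G a) : X ≠ ⊤ := fun e =>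
  h.stab_ne_top a (top_le_iff.1 (e ▸ hX))

theorem norm_ne_top {X : Subgroup G} (h1 : X ≠ ⊥) (h2 : X ≠ ⊤) : 𝐍(X) ≠ ⊤ := fun e => by
  have := h.simple
  exact (IsSimpleGroup.eq_bot_or_eq_top_of_normal X (normalizer_eq_top_iff.1 e)).elim h1 h2

theorem pair (a : Ω) : ∃ u v : G, Iv u ∧ Iv v ∧ u ≠ v ∧ u * v = v * u ∧ u • a = a ∧ v • a = a :=
  h.toSE.pair h.four a

theorem conj_top {u v : G} (hu : Iv u) (hv : Iv v) : ∃ g : G, g * u * g⁻¹ = v := by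
  obtain ⟨a, ha⟩ := h.ex u hu
  obtain ⟨x, -, hx⟩ := SetLike.not_le_iff_exists.1 (mt top_le_iff.1 (h.stab_ne_top a))
  obtain ⟨g, -, e⟩ := h.toSE.conj_in hu hv (mem_top u) (mem_top v) ha (mem_top x) hx
  exact ⟨g, e⟩

/-- every involution lies in a four-group -/
theorem exists_comm {u : G} (hu : Iv u) : ∃ v, Iv v ∧ u ≠ v ∧ u * v = v * u := by
  obtain ⟨x, y, hx, hy, h1, h2⟩ := h.four
  obtain ⟨g, rfl⟩ := h.conj_top hx hu
  exact ⟨_, hy.conj g, by simpa using h1, by rw [conj_mul, conj_mul, h2]⟩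

theorem bt' {X : Subgroup G} (hX : X ≠ ⊤) {a : Ω} (hI : ∀ v, Iv v → v • a = a → v ∈ X)
    (h1 : ¬ X ≤ stabilizer G a) : ∃ N, BT X a N := by
  obtain ⟨u, v, hu, hv, h2, h3, h4, h5⟩ := h.pair a
  exact h.bt hX (hI u hu h4) (hI v hv h5) hu hv h2 h3 h4 h1

theorem coat (a : Ω) : IsCoatom (stabilizer G a) := by
  refine ⟨h.stab_ne_top a, fun Y hY => by_contra fun hY' => ?_⟩
  obtain ⟨u, v, hu, hv, h2, h3, h4, h5⟩ := h.pair a
  have S' := h.toSE.orbit (hY.le h4) hu h4 hY.not_ge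
  obtain ⟨x, hx, hxa⟩ := SetLike.not_le_iff_exists.1 hY.not_ge
  have hfix : ∀ t ∈ Y, Iv t → ∃ y ∈ Y, t • y • a = y • a := fun t ht h1 => by
    obtain ⟨⟨_, ⟨y, hy⟩, rfl⟩, e⟩ := S'.ex _ (h1.sub ht)
    exact ⟨y, hy, congrArg Subtype.val e⟩
  have S2 := h.toSE.quot hY.le hfix
  obtain ⟨g, -, hg⟩ := SetLike.not_le_iff_exists.1 (mt top_le_iff.1 hY')
  have hst : ∀ y : G, y • ((1 : G) : G ⧸ Y) = (1 : G) ↔ y ∈ Y := fun y => by
    rw [MulAction.Quotient.smul_coe, eq_comm, QuotientGroup.eq]; simp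
  have hne : ((1 : G) : G ⧸ Y) ≠ g := fun e => hg (by simpa using QuotientGroup.eq.1 e)
  refine h.ih.conn (card_lt_of_ne_top hY') S' (four_sub (hY.le h4) (hY.le h5) hu hv h2 h3)
    ⟨⟨_, ⟨x, hx⟩, rfl⟩, ⟨a, mem_orbit_self a⟩, fun e => hxa (congrArg Subtype.val e)⟩
    (D := (Dd G ((1 : G) : G ⧸ Y) g).subgroupOf Y) ?_ fun w w' hw hw' => ?_
  · rw [Nat.card_congr (subgroupOfEquivOfLe fun y hy => (hst y).1 (mem_Dd.1 hy).1).toEquiv]
    exact S2.odd_Dd hne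
  · obtain ⟨d, hd, e⟩ := S2.exists_conj_D hw.coe hw'.coe ((hst _).2 w.2) ((hst _).2 w'.2) hne
    exact ⟨⟨d, (hst d).1 hd.1⟩, hd, Subtype.ext e⟩

theorem norm_eq {X : Subgroup G} {a : Ω} (h1 : X ≠ ⊥) (h2 : X ⊴ stabilizer G a) :
    𝐍(X) = stabilizer G a :=
  (((h.coat a).le_iff.1 h2.norm).resolve_left (h.norm_ne_top h1 (h.ne_top h2.le)))

/-- the commuting graph of the involutions with a given centre is connected -/
theorem conn {a : Ω} {Γ : Set G} (h1 : Γ.Nonempty) (h2 : Γ ⊆ Ts G a a)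
    (h3 : ∀ u ∈ Γ, ∀ v, Iv v → u * v = v * u → v ∈ Γ) : Γ = Ts G a a := by
  obtain ⟨Γ0, h0, hmin⟩ := exists_minimal_le_of_wellFoundedLT
    (fun Γ : Set G => Γ.Nonempty ∧ ∀ u ∈ Γ, ∀ v, Iv v → u * v = v * u → v ∈ Γ) Γ ⟨h1, h3⟩
  obtain ⟨⟨u, hu⟩, h4⟩ := hmin.prop
  have h5 := h0.trans h2
  obtain ⟨b, hb⟩ := h.exists_ne a
  have key : ∀ g w, w ∈ Γ0 → g * w * g⁻¹ ∈ Γ0 → g ∈ normalizer Γ0 := fun g w e1 e2 =>
    mem_normalizer_set_of_finite fun x hx => (hmin.le_of_le (y := {x | x ∈ Γ0 ∧ g * x * g⁻¹ ∈ Γ0})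
      ⟨⟨w, e1, e2⟩, fun y hy v hv e => ⟨h4 y hy.1 v hv e, h4 _ hy.2 _ (hv.conj g) (by
        rw [conj_mul, conj_mul, e])⟩⟩ (fun _ hy => hy.1) hx).2
  have hodd : Odd Γ0.ncard := by
    have : Γ0 = {v | ConjIn (normalizer Γ0 ⊓ Dd G a b) u v} := by
      ext v
      refine ⟨fun hv => ?_, ?_⟩
      · obtain ⟨d, hd, rfl⟩ := h.toSE.exists_conj_D (h5 hu).1 (h5 hv).1 (h5 hu).2 (h5 hv).2 hb
        exact ⟨d, ⟨key d u hu hv, hd⟩, rfl⟩
      · rintro ⟨d, hd, rfl⟩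
        exact conj_mem_of_mem_normalizer_set hd.1 hu
    rw [this, ncard_conjIn]
    exact (odd_of_le (h.toSE.odd_Dd hb) inf_le_right).of_dvd_nat (relIndex_dvd_card' _ _)
  have hmem : ∀ w, Iv w → w ∈ normalizer Γ0 → w ∈ Γ0 := fun w hw e => by
    have : Finite (ConjAct G) := ‹Finite G›
    obtain ⟨y, hy, e1⟩ := fixed_of_invol (G := ConjAct G) (Y := G) (g := ConjAct.toConjAct w)
      (by rw [← map_mul, hw.sq, map_one]) Γ0
      (fun y hy => by rw [ConjAct.toConjAct_smul]; exact conj_mem_of_mem_normalizer_set e hy) hodd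
    rw [ConjAct.toConjAct_smul, mul_inv_eq_iff_eq_mul] at e1
    exact h4 y hy w hw e1.symm
  refine h2.antisymm fun v hv => h0 (by_contra fun hv' => ?_)
  obtain ⟨x, y, hx, hy, e1, e2, e3, e4⟩ := h.pair a
  obtain ⟨d, hd, rfl⟩ := h.toSE.exists_conj_D (h5 hu).1 hv.1 (h5 hu).2 hv.2 hb
  refine h.ih.conn (G := stabilizer G a)
    (Ω := stabilizer G a ⧸ (normalizer Γ0).subgroupOf (stabilizer G a))
    (card_lt_of_ne_top (h.stab_ne_top a)) (se_quot (fun w g hw e5 e6 =>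
      key g w (hmem _ hw.coe e5) (hmem _ (hw.conj g).coe e6)) (fun w hw => ?_) ⟨_, hx.sub e3⟩)
    (four_sub e3 e4 hx hy e1 e2) ⟨(1 : stabilizer G a), (⟨d, hd.1⟩ : stabilizer G a), fun e => hv' ?_⟩
    (D := (Dd G a b).subgroupOf _) ?_ fun w w' hw hw' => ?_
  · obtain ⟨d, hd, e⟩ := h.toSE.exists_conj_D hw.coe (h5 hu).1 w.2 (h5 hu).2 hb
    refine ⟨(⟨d, hd.1⟩ : stabilizer G a)⁻¹, ?_⟩
    rw [inv_inv]
    change d * w * d⁻¹ ∈ normalizer Γ0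
    rw [e]
    exact key u u hu (by simpa using hu)
  · have := QuotientGroup.eq.1 e
    rw [inv_one, one_mul] at this
    exact conj_mem_of_mem_normalizer_set (g := d) this hu
  · rw [Nat.card_congr (subgroupOfEquivOfLe inf_le_left).toEquiv]
    exact h.toSE.odd_Dd hb
  · obtain ⟨d, hd, e⟩ := h.toSE.exists_conj_D hw.coe hw'.coe w.2 w'.2 hb
    exact ⟨⟨d, hd.1⟩, hd, Subtype.ext e⟩

end GH

end Cfsg.Agent.Bender
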