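import Cfsg.Agent.Bender.G2
import Cfsg.Agent.LinP.NormalRank

/-! `p`-stability for groups whose involutions lie in a normal four-group modulo the odd core. -/

set_option autoImplicit false
set_option linter.unusedSectionVars false

namespace Cfsg.Agent.Bender

open Subgroup MulAction Cfsg.Agent.Local Cfsg.Agent.FT Cfsg.Agent.Suz2T
open scoped Pointwise commutatorElement

section Ring

variable {Γ R : Type*} [Group Γ] [Finite Γ] [Ring R]

theorem trace_comm (ψ : Γ →* R) {x y g : Γ} (hx : (ψ x - 1) ^ 2 = 0) (hy : (ψ y - 1) ^ 2 = 0)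
    (hg : g ∈ zpowers x ⊔ zpowers y) :
    Commute (ψ g + ψ g⁻¹) (ψ x) ∧ Commute (ψ g + ψ g⁻¹) (ψ y) := by
  obtain ⟨u, hu⟩ : ∃ u, ψ x = 1 + u := ⟨ψ x - 1, by simp⟩
  obtain ⟨v, hv⟩ : ∃ v, ψ y = 1 + v := ⟨ψ y - 1, by simp⟩
  rw [hu, add_sub_cancel_left, sq] at hx
  rw [hv, add_sub_cancel_left, sq] at hy
  have inv : ∀ {a : Γ} {w : R}, ψ a = 1 + w → w * w = 0 → ψ a⁻¹ = 1 - w := fun {a w} h1 h2 => by
    have : ψ a⁻¹ * ((1 + w) * (1 - w)) = 1 - w := by
      rw [← mul_assoc, ← h1, ← map_mul, inv_mul_cancel, map_one, one_mul]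
    rwa [show (1 + w) * (1 - w) = 1 - w * w by noncomm_ring, h2, sub_zero, mul_one] at this
  have hcu : Commute (u * v + v * u) u := by
    rw [Commute, SemiconjBy, add_mul, mul_add, mul_assoc v, hx, ← mul_assoc u u, hx]; simp [mul_assoc]
  have hcv : Commute (u * v + v * u) v := by
    rw [Commute, SemiconjBy, add_mul, mul_add, mul_assoc u, hy, ← mul_assoc v v, hy]; simp [mul_assoc]
  have key : ∃ α β γ δ : R, (Commute α u ∧ Commute α v) ∧ (Commute β u ∧ Commute β v) ∧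
      (Commute γ u ∧ Commute γ v) ∧ (Commute δ u ∧ Commute δ v) ∧
      ψ g = α + β * u + γ * v + δ * (u * v) ∧ ψ g⁻¹ = α - β * u - γ * v + δ * (v * u) := by
    rw [zpowers_eq_closure, zpowers_eq_closure, ← Subgroup.closure_union, ← mem_toSubmonoid,
      closure_toSubmonoid_of_finite] at hg
    induction hg using Submonoid.closure_induction_left with
    | one => exact ⟨1, 0, 0, 0, by simp, by simp, by simp, by simp, by simp, by simp⟩
    | mul_left a ha g _ ih =>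
      obtain ⟨α, β, γ, δ, ⟨a1, a2⟩, ⟨b1, b2⟩, ⟨c1, c2⟩, ⟨d1, d2⟩, h1, h2⟩ := ih
      rcases ha with rfl | rfl
      · refine ⟨α, α + β, γ, γ + δ, ⟨a1, a2⟩, ⟨a1.add_left b1, a2.add_left b2⟩, ⟨c1, c2⟩,
          ⟨c1.add_left d1, c2.add_left d2⟩, ?_, ?_⟩
        · have e1 : u * (β * u) = 0 := by rw [← mul_assoc, ← b1.eq, mul_assoc, hx, mul_zero]
          have e2 : u * (γ * v) = γ * (u * v) := by rw [← mul_assoc, ← c1.eq, mul_assoc]
          have e3 : u * (δ * (u * v)) = 0 := by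
            rw [← mul_assoc, ← d1.eq, mul_assoc, ← mul_assoc u, hx, zero_mul, mul_zero]
          rw [map_mul, hu, h1]
          simp only [add_mul, mul_add, one_mul, e1, e2, e3, ← a1.eq]
          abel
        · rw [mul_inv_rev, map_mul, inv hu hx, h2]
          simp only [add_mul, mul_sub, sub_mul, mul_one, mul_assoc, hx, mul_zero]
          abel
      · refine ⟨α + β * (u * v + v * u), β, γ + α + δ * (u * v + v * u), δ - β,
          ⟨a1.add_left (b1.mul_left hcu), a2.add_left (b2.mul_left hcv)⟩, ⟨b1, b2⟩,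
          ⟨(c1.add_left a1).add_left (d1.mul_left hcu), (c2.add_left a2).add_left (d2.mul_left hcv)⟩,
          ⟨d1.sub_left b1, d2.sub_left b2⟩, ?_, ?_⟩
        · have e1 : v * (γ * v) = 0 := by rw [← mul_assoc, ← c2.eq, mul_assoc, hy, mul_zero]
          have e2 : v * (β * u) = β * (v * u) := by rw [← mul_assoc, ← b2.eq, mul_assoc]
          have e3 : v * (δ * (u * v)) = δ * (v * (u * v)) := by
            rw [← mul_assoc, ← d2.eq, mul_assoc]
          rw [map_mul, hv, h1]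
          simp only [add_mul, mul_add, sub_mul, one_mul, e1, e2, e3, ← a2.eq, mul_assoc, hy,
            mul_zero]
          abel
        · rw [mul_inv_rev, map_mul, inv hv hy, h2]
          simp only [add_mul, mul_add, mul_sub, sub_mul, mul_one, mul_assoc, hy, mul_zero]
          abel
  obtain ⟨α, β, γ, δ, ⟨a1, a2⟩, -, -, ⟨d1, d2⟩, h1, h2⟩ := key
  have e : ψ g + ψ g⁻¹ = α + α + δ * (u * v + v * u) := by rw [h1, h2, mul_add]; abel
  rw [e, hu, hv]
  exact ⟨(Commute.one_right _).add_right ((a1.add_left a1).add_left (d1.mul_left hcu)),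
    (Commute.one_right _).add_right ((a2.add_left a2).add_left (d2.mul_left hcv))⟩

/-- the elements fixing `e` -/
def fixR (ψ : Γ →* R) (e : R) : Subgroup Γ where
  carrier := {g | ψ g * e = e}
  one_mem' := by simp
  mul_mem' := fun {a b} ha hb => by
    simp only [Set.mem_ofPred_eq] at *
    rw [map_mul, mul_assoc, hb, ha]
  inv_mem' := fun {a} ha => by
    simp only [Set.mem_ofPred_eq] at *
    nth_rw 1 [← ha]
    rw [← mul_assoc, ← map_mul, inv_mul_cancel, map_one, one_mul]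

theorem mem_fixR {ψ : Γ →* R} {e : R} {g : Γ} : g ∈ fixR ψ e ↔ ψ g * e = e := Iff.rfl

theorem conj_mem_fixR {ψ : Γ →* R} {e : R} {g : Γ} (hg : g ∈ fixR ψ e) (h : Γ) :
    h * g * h⁻¹ ∈ fixR ψ (ψ h * e * ψ h⁻¹) := by
  rw [mem_fixR] at *
  rw [map_mul, map_mul, mul_assoc, ← mul_assoc (ψ h⁻¹), ← mul_assoc (ψ h⁻¹), ← map_mul ψ h⁻¹,
    inv_mul_cancel, map_one, one_mul, ← mul_assoc, mul_assoc (ψ h), hg]

theorem conj_mem_fixR1 {ψ : Γ →* R} {z g : Γ} (hg : g ∈ fixR ψ (1 + ψ z)) (h : Γ) :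
    h * g * h⁻¹ ∈ fixR ψ (1 + ψ (h * z * h⁻¹)) := by
  have := conj_mem_fixR hg h
  rwa [mul_add, add_mul, mul_one, ← map_mul, mul_inv_cancel, map_one, ← map_mul, ← map_mul] at this

theorem norm_fixR {ψ : Γ →* R} {e : R} {h : Γ} (hc : Commute (ψ h) e) : h ∈ 𝐍(fixR ψ e) := by
  refine zpowers_le.1 (le_normalizer_of_conj_mem ?_)
  rintro _ ⟨k, rfl⟩ g hg
  have h1 : Commute (ψ (h ^ k)) e := by
    obtain ⟨n, hn⟩ := mem_powers_iff_mem_zpowers.2 (zpow_mem (mem_zpowers h) k)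
    rw [← hn]
    simpa using hc.pow_left n
  have := conj_mem_fixR hg (h ^ k)
  rwa [h1.eq, mul_assoc e, ← map_mul, mul_inv_cancel, map_one, mul_one] at this

theorem fixR_unique (h2 : ∀ r : R, r + r = 0 → r = 0) {ψ : Γ →* R} (hψ : Function.Injective ψ)
    {z h : Γ} (hz : z * z = 1) (hc : h * z * h⁻¹ * z = z * (h * z * h⁻¹))
    (hw : h * z * h⁻¹ ∈ fixR ψ (1 + ψ z)) : h * z * h⁻¹ = z := by
  have tr : ∀ a b c : Γ, b ∈ fixR ψ (1 + ψ a) → c ∈ fixR ψ (1 + ψ b) → c ∈ fixR ψ (1 + ψ a) := by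
    intro a b c h1 h3
    rw [mem_fixR] at *
    have e : (1 + ψ b) * (1 + ψ a) = (1 + ψ a) + (1 + ψ a) := by rw [add_mul, one_mul, h1]
    rw [← sub_eq_zero]
    apply h2
    have := congrArg (· * (1 + ψ a)) h3
    simp only [mul_assoc, e, mul_add (ψ c) (1 + ψ a)] at this
    rw [← sub_eq_zero] at this
    rw [← this]; abel
  have key : ∀ n : ℕ, h ^ (n + 1) * z * (h ^ (n + 1))⁻¹ ∈ fixR ψ (1 + ψ (h * z * h⁻¹)) := by
    intro n
    induction n with
    | zero =>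
      rw [mem_fixR, zero_add, pow_one, mul_add, ← map_mul, conj_mul, hz]
      simp [add_comm]
    | succ n ih =>
      refine tr _ _ _ ih ?_
      have := conj_mem_fixR1 hw (h ^ (n + 1))
      convert this using 1
      group
  have h3 := key (orderOf h - 1)
  rw [Nat.sub_add_cancel (orderOf_pos h), pow_orderOf_eq_one, one_mul, inv_one, mul_one,
    mem_fixR, mul_add, ← map_mul, ← hc] at h3
  rw [mem_fixR, mul_add, ← map_mul] at hw
  apply hψ
  rw [← sub_eq_zero]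
  apply h2
  rw [mul_one] at h3 hw
  have e1 : ψ (h * z * h⁻¹ * z) = 1 + ψ z - ψ (h * z * h⁻¹) := by rw [← hw]; abel
  rw [e1, ← sub_eq_zero] at h3
  rw [← neg_eq_zero, ← h3]; abel

end Ring

variable {G : Type*} [Group G] [Finite G]

omit [Finite G] in
theorem pow_four' (x : G) : x ^ 4 = x * x * (x * x) := by
  rw [show 4 = 2 + 2 from rfl, pow_add, sq]

theorem eq_one_of_pow_two {x : G} {k n : ℕ} (hn : Odd n) (h1 : x ^ n = 1) (h2 : x ^ 2 ^ k = 1) :
    x = 1 := by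
  have := pow_gcd_eq_one.2 ⟨h1, h2⟩
  rwa [Nat.Coprime.gcd_eq_one ((Nat.coprime_two_right.2 hn).pow_right k), pow_one] at this

theorem isCyclic_of_cent {S : Subgroup G} (hS : IsPGroup 2 S) {z : G}
    (h1 : ∀ w ∈ S, w * w = 1 → w = 1 ∨ w = z)
    (h2 : ∀ i ∈ S, i ^ 4 = 1 → ∀ g ∈ S, i * g = g * i) : IsCyclic S := by
  have : Fact (Nat.Prime 2) := ⟨Nat.prime_two⟩
  rcases LinP.cyclic_or_quaternion hS (fun w c hw hc => by
    have h3 := iv_of_orderOf hw
    have h4 := (h1 w w.2 (congrArg Subtype.val h3.sq)).resolve_left h3.coe.ne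
    rcases h1 c c.2 (by rw [← sq]; exact congrArg Subtype.val hc) with e | e
    · rw [show c = 1 from Subtype.ext e]; exact one_mem _
    · rw [show c = w from Subtype.ext (e.trans h4.symm)]; exact mem_zpowers _) with h | ⟨-, n, ⟨e⟩⟩
  · exact h
  · exfalso
    have h3 := h2 _ (e.symm (QuaternionGroup.xa 0)).2 (by
      rw [← coe_pow, ← map_pow, QuaternionGroup.xa_pow_four]; simp) _ (e.symm (QuaternionGroup.a 1)).2
    rw [← coe_mul, ← coe_mul, Subtype.val_inj, ← map_mul, ← map_mul, e.symm.injective.eq_iff,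
      QuaternionGroup.xa_mul_a, QuaternionGroup.a_mul_xa, QuaternionGroup.xa.injEq, zero_add,
      zero_sub, eq_neg_iff_add_eq_zero, one_add_one_eq_two] at h3
    have h4 := (ZMod.natCast_eq_zero_iff 2 _).1 (by exact_mod_cast h3)
    have := Nat.le_of_dvd two_pos h4
    have := Nat.one_lt_two_pow (show n + 1 ≠ 0 by omega)
    omega

/-- the involutions lie in a normal elementary abelian subgroup modulo the odd core -/
structure NA (H A : Subgroup G) : Prop where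
  ea : EA2 A
  two : ∃ u ∈ A, ∃ v ∈ A, u ≠ 1 ∧ v ≠ 1 ∧ u ≠ v
  nrm : core {2}ᶜ H ⊔ A ⊴ H
  cj : ∀ u ∈ H, ∀ v ∈ H, Iv u → Iv v → ∃ g ∈ H, g * u * g⁻¹ = v

theorem NA.le {H A : Subgroup G} (h : NA H A) : A ≤ H := le_sup_right.trans h.nrm.le

theorem NA.mem_nrm {H A N : Subgroup G} (h : NA H A) (hN : N ⊴ H) (he : ¬ Odd (Nat.card N)) {w : G}
    (hw : Iv w) (hH : w ∈ H) : w ∈ N := by
  obtain ⟨u, hu, h1⟩ := exists_iv he
  obtain ⟨g, hg, rfl⟩ := h.cj u (hN.le hu) w hH h1 hw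
  exact hN.conj_mem hg hu

theorem NA.mem {H A : Subgroup G} (h : NA H A) {w : G} (hw : Iv w) (hH : w ∈ H) :
    w ∈ core {2}ᶜ H ⊔ A := by
  obtain ⟨u, hu, -, -, h1, -⟩ := h.two
  exact h.mem_nrm h.nrm (fun e => Iv.not_mem ⟨h.ea u hu, h1⟩ e (mem_sup_right hu)) hw hH

theorem odd_core (H : Subgroup G) : Odd (Nat.card (core {2}ᶜ H)) := odd_iff_piGrp.2 (piGrp_core _ _)

theorem le_odd_core {N H : Subgroup G} (h : N ⊴ H) (ho : Odd (Nat.card N)) : N ≤ core {2}ᶜ H :=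
  le_core h (odd_iff_piGrp.1 ho)

theorem lift_iv {G' : Type*} [Group G'] {D H : Subgroup G} (f : Mor D G') (hH : H ≤ D)
    (ho : Odd (Nat.card ↥(f.ker ⊓ H))) {w : G'} (hw : Iv w) (hwH : w ∈ f.im H) :
    ∃ x ∈ H, Iv x ∧ f x = w := by
  obtain ⟨g, hg, rfl⟩ := (f.mem_im_of_le hH).1 hwH
  have h1 : f (g * g) = 1 := by rw [f.map_mul (hH hg) (hH hg), hw.sq]
  obtain ⟨k, hk⟩ := odd_mem ho (x := g * g) ⟨f.mem_ker.2 ⟨hH (mul_mem hg hg), h1⟩, mul_mem hg hg⟩
  have h2 : f (g ^ (2 * k + 1)) = f g := by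
    rw [f.map_pow (hH hg), pow_succ, pow_mul, sq, hw.sq, one_pow, one_mul]
  refine ⟨_, pow_mem hg _, ⟨?_, fun e => hw.ne (by rw [← h2, e, f.map_one])⟩, h2⟩
  rw [← pow_add, ← two_mul, pow_mul, sq, ← hk, pow_orderOf_eq_one]

theorem iv_im {G' : Type*} [Group G'] {D H : Subgroup G} (f : Mor D G') (hH : H ≤ D)
    (ho : Odd (Nat.card ↥(f.ker ⊓ H))) {w : G} (hw : Iv w) (hwH : w ∈ H) : Iv (f w) :=
  ⟨by rw [← f.map_mul (hH hwH) (hH hwH), hw.sq, f.map_one],
    fun e => hw.not_mem ho ⟨f.mem_ker.2 ⟨hH hwH, e⟩, hwH⟩⟩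

theorem NA.im {G' : Type*} [Group G'] [Finite G'] {D H A : Subgroup G} (h : NA H A) (f : Mor D G')
    (hH : H ≤ D) (ho : Odd (Nat.card ↥(f.ker ⊓ H))) : NA (f.im H) (f.im A) := by
  have hA := h.le.trans hH
  refine ⟨fun a ha => ?_, ?_, ?_, fun u hu v hv h1 h2 => ?_⟩
  · obtain ⟨x, hx, rfl⟩ := (f.mem_im_of_le hA).1 ha
    rw [← f.map_mul (hA hx) (hA hx), h.ea x hx, f.map_one]
  · obtain ⟨u, hu, v, hv, h1, h2, h3⟩ := h.two
    refine ⟨_, f.mem_im_of_mem (hA hu) hu, _, f.mem_im_of_mem (hA hv) hv,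
      (iv_im f hH ho ⟨h.ea u hu, h1⟩ (h.le hu)).ne, (iv_im f hH ho ⟨h.ea v hv, h2⟩ (h.le hv)).ne,
      fun e => (iv_im f hH ho ⟨h.ea _ (mul_mem hu hv), fun e => h3 ?_⟩ (h.le (mul_mem hu hv))).ne ?_⟩
    · rw [← inv_of_sq (h.ea u hu), inv_eq_of_mul_eq_one_right e]
    · rw [f.map_mul (hA hu) (hA hv), e, ← f.map_mul (hA hv) (hA hv), h.ea v hv, f.map_one]
  · rw [← f.im_core_of_piGrp_ker hH (odd_iff_piGrp.1 ho), ← f.im_sup ((core_le _ _).trans hH) hA]
    exact f.im_nrm h.nrm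
  · obtain ⟨x, hx, h3, rfl⟩ := lift_iv f hH ho h1 hu
    obtain ⟨y, hy, h4, rfl⟩ := lift_iv f hH ho h2 hv
    obtain ⟨g, hg, rfl⟩ := h.cj x hx y hy h3 h4
    exact ⟨_, f.mem_im_of_mem (hH hg) hg, (f.map_conj (hH hg) (hH hx)).symm⟩

section Core

variable {R : Type*} [Ring R] {p : ℕ} [hp : Fact p.Prime]

theorem mem_zp_iff {x : G} : IsPGroup p (zpowers x) ↔ ∃ k : ℕ, x ^ p ^ k = 1 := by
  refine ⟨fun h => PG.exists_pow_pow_eq_one h (mem_zpowers x), fun ⟨k, hk⟩ => PG.isPGroup_of_mem ?_⟩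
  rintro _ ⟨n, rfl⟩
  exact ⟨k, by rw [← zpow_natCast, ← zpow_mul, mul_comm, zpow_mul, zpow_natCast, hk, one_zpow]⟩

theorem pow_of_comm {x e : G} {k : ℕ} (hc : x * e = e * x) (h1 : x ^ k = 1) {i : G}
    (h : i * x * i⁻¹ = x * e) : e ^ k = 1 := by
  have := congrArg (· ^ k) h
  simp only [conj_pow, h1, mul_one, mul_inv_cancel, (show Commute x e from hc).mul_pow, one_mul] at this
  exact this.symm

/-- the elements acting trivially on the fixed space of `z` are centralised by odd elements -/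
theorem fix_cent (h2 : ∀ r : R, r + r = 0 → r = 0) {ψ : G →* R} (hψ : Function.Injective ψ)
    {H C A : Subgroup G} (h : NA H A) (hC : C ⊴ H) (hA : A ≤ C) (hCA : C ≤ 𝐂(A))
    (hI : ∀ w ∈ C, Iv w → w ∈ A) (hO : C ≤ 𝐂(core {2}ᶜ C)) {z : G} (hz : z ∈ A) (hz1 : z ≠ 1)
    {x : G} (hx : x ∈ C) (ho : Odd (orderOf x)) : C ⊓ fixR ψ (1 + ψ z) ≤ 𝐂[x] := by
  have : Fact (Nat.Prime 2) := ⟨Nat.prime_two⟩
  have hn : ∀ w ∈ A, C ⊓ fixR ψ (1 + ψ w) ⊴ C := fun w hw => nrm_inf_of_le_normalizer fun g hg =>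
    norm_fixR ((Commute.one_right _).add_right (by
      rw [Commute, SemiconjBy, ← map_mul, ← map_mul, hCA hg w hw]))
  have hu : ∀ w ∈ A, w ≠ 1 → ∀ v ∈ C ⊓ fixR ψ (1 + ψ w), v * v = 1 → v = 1 ∨ v = w := by
    intro w hw hw1 v hv hv2
    by_cases hv1 : v = 1
    · exact Or.inl hv1
    obtain ⟨g, -, rfl⟩ := h.cj w (h.le hw) v (hC.le hv.1) ⟨h.ea w hw, hw1⟩ ⟨hv2, hv1⟩
    exact Or.inr (fixR_unique h2 hψ (h.ea w hw) (h.ea.comm (hI _ hv.1 ⟨hv2, hv1⟩) hw) hv.2)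
  have hcm : ∀ w ∈ A, w ≠ 1 → w ≠ z → ∀ a ∈ C ⊓ fixR ψ (1 + ψ w), a ^ 4 = 1 →
      ∀ g ∈ C ⊓ fixR ψ (1 + ψ z), a * g = g * a := by
    intro w hw hw1 hwz a ha ha4 g hg
    have h3 := (hn w hw).inf (hn z hz)
    have h4 : Odd (Nat.card ↥(C ⊓ fixR ψ (1 + ψ w) ⊓ (C ⊓ fixR ψ (1 + ψ z)))) :=
      odd_of_no_iv fun v hv h5 => hwz (((hu w hw hw1 v hv.1 h5.sq).resolve_left h5.ne).symm.trans
        ((hu z hz hz1 v hv.2 h5.sq).resolve_left h5.ne))
    have h5 : a⁻¹ * (g * a * g⁻¹) ∈ C ⊓ fixR ψ (1 + ψ w) ⊓ (C ⊓ fixR ψ (1 + ψ z)) :=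
      mem_inf.2 ⟨mul_mem (inv_mem ha) ((hn w hw).conj_mem hg.1 ha), by
        rw [show a⁻¹ * (g * a * g⁻¹) = a⁻¹ * g * a * g⁻¹ by group]
        exact mul_mem ((hn z hz).inv_conj_mem ha.1 hg) (inv_mem hg)⟩
    have h6 := pow_of_comm (hO ha.1 _ (le_odd_core h3 h4 h5)).symm ha4 (i := g) (by group)
    have h7 := eq_one_of_pow_two (k := 2) (odd_mem h4 h5) (pow_orderOf_eq_one _) h6
    rw [inv_mul_eq_one, eq_mul_inv_iff_mul_eq] at h7
    exact h7
  set Z := C ⊓ fixR ψ (1 + ψ z) with hZ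
  have hzZ : z ∈ Z := mem_inf.2 ⟨hA hz, by
    rw [mem_fixR, mul_add, ← map_mul, h.ea z hz]; simp [add_comm]⟩
  have hc4 : ∀ i ∈ Z, i ^ 4 = 1 → ∀ g ∈ Z, i * g = g * i := by
    intro i hi hi4 g hg
    have hcen : ∀ v ∈ C, v * v = 1 → v * g = g * v := fun v hv hv2 => by
      by_cases hv1 : v = 1
      · simp [hv1]
      · exact hCA hg.1 v (hI v hv ⟨hv2, hv1⟩)
    rcases hu z hz hz1 (i * i) (mul_mem hi hi) (by rw [← hi4, pow_four']) with e | e
    · exact hcen i hi.1 e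
    obtain ⟨w, hw, hw1, hwz⟩ : ∃ w ∈ A, w ≠ 1 ∧ w ≠ z := by
      obtain ⟨u, hu, v, hv, h1, h3, h4⟩ := h.two
      by_cases e : u = z
      · exact ⟨v, hv, h3, fun e' => h4 (e.trans e'.symm)⟩
      · exact ⟨u, hu, h1, e⟩
    have hzw1 : z * w ≠ 1 := fun e => hwz (by
      rw [← inv_of_sq (h.ea z hz), inv_eq_of_mul_eq_one_right e])
    have hex : ∀ w ∈ A, w ≠ 1 → ∃ j ∈ C ⊓ fixR ψ (1 + ψ w), j * j = w := fun w hw hw1 => by
      obtain ⟨g, hg, rfl⟩ := h.cj z (h.le hz) w (h.le hw) ⟨h.ea z hz, hz1⟩ ⟨h.ea w hw, hw1⟩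
      exact ⟨_, ⟨hC.conj_mem hg hi.1, conj_mem_fixR1 hi.2 g⟩, by rw [conj_mul, e]⟩
    obtain ⟨j, hj, ej⟩ := hex w hw hw1
    obtain ⟨k, hk, ek⟩ := hex _ (mul_mem hz hw) hzw1
    have p4 : ∀ {j w : G}, j * j = w → w ∈ A → j ^ 4 = 1 := fun {j w} e hw => by
      rw [← h.ea w hw, ← e, pow_four']
    have c1 := hcm w hw hw1 hwz j hj (p4 ej hw)
    have c2 := hcm _ (mul_mem hz hw) hzw1 (by simpa using hw1) k hk (p4 ek (mul_mem hz hw))
    have c3 : j * k = k * j := by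
      have h3 := (hn w hw).inf (hn _ (mul_mem hz hw))
      have h4 : Odd (Nat.card ↥(C ⊓ fixR ψ (1 + ψ w) ⊓ (C ⊓ fixR ψ (1 + ψ (z * w))))) :=
        odd_of_no_iv fun v hv h5 => hz1 (by
          simpa using ((hu w hw hw1 v hv.1 h5.sq).resolve_left h5.ne).symm.trans
            ((hu _ (mul_mem hz hw) hzw1 v hv.2 h5.sq).resolve_left h5.ne))
      have h5 : j⁻¹ * (k * j * k⁻¹) ∈ C ⊓ fixR ψ (1 + ψ w) ⊓ (C ⊓ fixR ψ (1 + ψ (z * w))) :=
        mem_inf.2 ⟨mul_mem (inv_mem hj) ((hn w hw).conj_mem hk.1 hj), by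
          rw [show j⁻¹ * (k * j * k⁻¹) = j⁻¹ * k * j * k⁻¹ by group]
          exact mul_mem ((hn _ (mul_mem hz hw)).inv_conj_mem hj.1 hk) (inv_mem hk)⟩
      have h6 := pow_of_comm (hO hj.1 _ (le_odd_core h3 h4 h5)).symm (p4 ej hw) (i := k) (by group)
      have h7 := eq_one_of_pow_two (k := 2) (odd_mem h4 h5) (pow_orderOf_eq_one _) h6
      rw [inv_mul_eq_one, eq_mul_inv_iff_mul_eq] at h7
      exact h7
    have c4 : Commute i (j * k) := Commute.mul_right (c1 i hi).symm (c2 i hi).symm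
    have h3 := hcen (i * (j * k)) (mul_mem hi.1 (mul_mem hj.1 hk.1)) (by
      rw [← sq, c4.mul_pow, (show Commute j k from c3).mul_pow, sq, sq, sq, e, ej, ek,
        h.ea.comm hz hw, ← mul_assoc w, h.ea w hw, one_mul, h.ea z hz])
    have c5 : Commute (j * k) g := Commute.mul_left (c1 g hg) (c2 g hg)
    rw [mul_assoc, c5.eq, ← mul_assoc, ← mul_assoc g, mul_left_inj] at h3
    exact h3
  obtain ⟨S, hS⟩ := exists_isSylowIn 2 Z
  have hcyc := isCyclic_of_cent hS.isPGroup (fun w hw => hu z hz hz1 w (hS.le hw))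
    fun i hi h4 g hg => hc4 i (hS.le hi) h4 g (hS.le hg)
  have h2d : 2 ∣ Nat.card Z := Iv.orderOf ⟨h.ea z hz, hz1⟩ ▸ orderOf_dvd_card_of_mem hzZ
  obtain ⟨K, hK⟩ := cyclic_pdiv_normal_complement (S := S) (H := Z)
    (by rwa [(Nat.minFac_eq_two_iff _).2 h2d]) hcyc
  have hKo : Odd (Nat.card K) :=
    odd_iff_piGrp.2 (hK.isHall_compl_iff.2 (by rw [compl_compl]; exact isHall_singleton_iff.2 hS)).pi
  have hKc : C ≤ 𝐂(K) := hO.trans (cent_anti ((le_odd_core hK.nrm hKo).trans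
    (core_le_core_of_nrm _ (hn z hz))))
  have hSn : Z ≤ 𝐍(S) := by
    rw [← hK.mulEq.sup_eq]
    exact sup_le ((le_centralizer_comm.1 ((hS.le.trans inf_le_left).trans hKc)).trans
      (centralizer_le_normalizer' _)) le_normalizer
  have hxS : zpowers x ≤ 𝐂(S) := le_cent_of_isCyclic_of_forall_le hcyc hS.isPGroup
    (by rw [← core_eq_of_isSylowIn hS hSn]
        exact (zpowers_le.2 hx).trans (core_nrm_of_nrm _ (hn z hz)).norm)
    (odd_iff_piGrp.1 (by rwa [Nat.card_zpowers])) fun q hq _ => hq.two_le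
  rw [← hK.mulEq.sup_eq, ← cent_zpowers]
  exact sup_le (le_centralizer_comm.1 ((zpowers_le.2 hx).trans hKc)) (le_centralizer_comm.1 hxS)

theorem no_four (hp2 : p ≠ 2) (h2 : ∀ r : R, r + r = 0 → r = 0) {ψ : G →* R}
    (hψ : Function.Injective ψ)
    {H C A : Subgroup G} (h : NA H A) (hC : C ⊴ H) (hA : A ≤ C) (hCA : C ≤ 𝐂(A))
    (hI : ∀ w ∈ C, Iv w → w ∈ A) (hO : C ≤ 𝐂(core {2}ᶜ C)) {x y : G} (hx : x ∈ C) (hy : y ∈ C)
    (px : IsPGroup p (zpowers x)) (py : IsPGroup p (zpowers y))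
    (qx : (ψ x - 1) ^ 2 = 0) (qy : (ψ y - 1) ^ 2 = 0) {i : G} (hi : i ∈ zpowers x ⊔ zpowers y)
    (h4 : i ^ 4 = 1) : i * i = 1 := by
  by_contra hz1
  set L := zpowers x ⊔ zpowers y with hL
  have hLC : L ≤ C := sup_le (zpowers_le.2 hx) (zpowers_le.2 hy)
  set z := i * i with hz
  have hz2 : z * z = 1 := by rw [← h4, hz, pow_four']
  have hzA : z ∈ A := hI z (hLC (mul_mem hi hi)) ⟨hz2, hz1⟩
  have ho : ∀ {a : G}, IsPGroup p (zpowers a) → Odd (orderOf a) := fun ha => by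
    rw [← Nat.card_zpowers]; exact odd_of_isPGroup hp2 ha
  have hZ : C ⊓ fixR ψ (1 + ψ z) ≤ 𝐂(L) := by
    rw [hL, cent_sup, cent_zpowers, cent_zpowers]
    exact le_inf (fix_cent h2 hψ h hC hA hCA hI hO hzA hz1 hx (ho px))
      (fix_cent h2 hψ h hC hA hCA hI hO hzA hz1 hy (ho py))
  have hii : i⁻¹ = i * z := inv_eq_of_mul_eq_one_right (by rw [← h4, hz, pow_four', mul_assoc])
  have hzc : ∀ a ∈ C, Commute (ψ z) (ψ a) := fun a ha => by
    rw [Commute, SemiconjBy, ← map_mul, ← map_mul, hCA ha z hzA]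
  have hT : ψ i + ψ i⁻¹ = ψ i * (1 + ψ z) := by rw [hii, map_mul, mul_add, mul_one]
  have key : ∀ a ∈ L, IsPGroup p (zpowers a) → Commute (ψ i + ψ i⁻¹) (ψ a) → a * i = i * a := by
    intro a ha pa hc
    have he : (i * a)⁻¹ * (a * i) ∈ 𝐂(L) := hZ <| mem_inf.2 ⟨hLC (mul_mem (inv_mem (mul_mem hi ha))
      (mul_mem ha hi)), by
        rw [mem_fixR, map_mul, map_mul, mul_assoc, mul_assoc, ← hT, ← hc.eq, hT,
          mul_assoc, ((Commute.one_left _).add_left (hzc a (hLC ha))).eq, ← mul_assoc (ψ i),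
          ← map_mul, ← mul_assoc, ← map_mul, inv_mul_cancel, map_one, one_mul]⟩
    obtain ⟨k, hk⟩ := mem_zp_iff.1 pa
    have e1 := pow_of_comm (he a ha) hk (i := i⁻¹) (by group)
    have e2 := pow_of_comm (he i hi) h4 (i := a) (by
      rw [mul_inv_eq_iff_eq_mul, mul_assoc, ← he a ha]; group)
    have := eq_one_of_pow_two (k := 2) (hp.out.odd_of_ne_two hp2).pow e1 e2
    exact (inv_mul_eq_one.1 this).symm
  have hxL : x ∈ L := mem_sup_left (mem_zpowers x)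
  have hyL : y ∈ L := mem_sup_right (mem_zpowers y)
  have c1 := key x hxL px (trace_comm ψ qx qy hi).1
  have c2 := key y hyL py (trace_comm ψ qx qy hi).2
  have c3 := (trace_comm ψ qx qy (mul_mem hi hxL)).2
  have hX : ψ x⁻¹ = 2 - ψ x := by
    have : ψ x⁻¹ * (ψ x * (2 - ψ x)) = 2 - ψ x := by
      rw [← mul_assoc, ← map_mul, inv_mul_cancel, map_one, one_mul]
    rwa [show ψ x * (2 - ψ x) = 1 - (ψ x - 1) ^ 2 by noncomm_ring, qx, sub_zero, mul_one] at this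
  have c4 : Commute (ψ i) (ψ y) := by rw [Commute, SemiconjBy, ← map_mul, ← map_mul, c2]
  have c5 : (1 - ψ z) * (ψ x * ψ y) = (1 - ψ z) * (ψ y * ψ x) := by
    have e : ψ (i * x) + ψ (i * x)⁻¹ = ψ i * ((1 - ψ z) * ψ x) + 2 * (ψ i * ψ z) := by
      rw [← c1, mul_inv_rev, c1, hii, map_mul, map_mul, map_mul, hX]; noncomm_ring
    rw [e] at c3
    have c6 : Commute (ψ i * ((1 - ψ z) * ψ x)) (ψ y) := by
      have := c3.sub_left ((Commute.ofNat_left 2 _).mul_left (c4.mul_left (hzc y hy)))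
      rwa [add_sub_cancel_right] at this
    have c7 := congrArg (ψ i⁻¹ * ·) c6.eq
    simp only [← mul_assoc, ← c4.eq, ← map_mul, inv_mul_cancel, map_one, one_mul] at c7
    rw [← mul_assoc, c7, ← ((Commute.one_left _).sub_left (hzc y hy)).eq, mul_assoc]
  set N := fixR ψ (1 - ψ z) with hN
  have hn : C ≤ 𝐍(N) := fun a ha =>
    norm_fixR ((Commute.one_right _).sub_right (hzc a ha).symm)
  have hcm : cos N x * cos N y = cos N y * cos N x := by
    rw [← Mor.map_mul _ (hn hx) (hn hy), ← Mor.map_mul _ (hn hy) (hn hx),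
      cos_eq_iff' (hn (mul_mem hx hy)) (hn (mul_mem hy hx)), mem_fixR, map_mul, mul_assoc,
      ← ((Commute.one_left _).sub_left (hzc _ (mul_mem hy hx))).eq, map_mul ψ y x, ← c5, ← map_mul,
      ((Commute.one_left _).sub_left (hzc _ (mul_mem hx hy))).eq, ← mul_assoc, ← map_mul,
      inv_mul_cancel, map_one, one_mul]
  have hq : IsPGroup p (quo N L) := by
    rw [hL, quo_sup ((zpowers_le.2 hx).trans hn) ((zpowers_le.2 hy).trans hn)]
    refine isPGroup_sup (isPGroup_quo px N) (isPGroup_quo py N) ?_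
    rw [quo_zpowers (hn hx), quo_zpowers (hn hy)]
    exact zpowers_le.2 (centralizer_le_normalizer' _ (by rw [cent_zpowers, mem_cent1, hcm]))
  have hzN := hn (hA hzA)
  obtain ⟨k, hk⟩ := PG.exists_pow_pow_eq_one hq (cos_mem_quo hzN (mul_mem hi hi))
  have h5 := eq_one_of_pow_two (k := 1) (hp.out.odd_of_ne_two hp2).pow hk (by
    rw [pow_one, sq, ← Mor.map_mul _ hzN hzN, hz2, Mor.map_one])
  rw [cos_eq_one_iff hzN, mem_fixR, mul_sub, ← map_mul, hz2, map_one, mul_one] at h5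
  refine hz1 (hψ ?_)
  rw [map_one, ← sub_eq_zero]
  apply h2
  nth_rw 1 [h5]
  abel

theorem pg_of_comm {x y : G} (px : IsPGroup p (zpowers x)) (py : IsPGroup p (zpowers y))
    (h : x * y = y * x) : IsPGroup p (zpowers (x * y⁻¹)) :=
  isPGroup_of_le (isPGroup_sup px py (zpowers_le.2 (centralizer_le_normalizer' _
    (by rw [cent_zpowers, mem_cent1, h])))) (zpowers_le.2 (mul_mem (mem_sup_left (mem_zpowers x))
      (inv_mem (mem_sup_right (mem_zpowers y)))))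

theorem pg_conj {x : G} (px : IsPGroup p (zpowers x)) (g : G) :
    IsPGroup p (zpowers (g * x * g⁻¹)) := by
  obtain ⟨k, hk⟩ := mem_zp_iff.1 px
  exact mem_zp_iff.2 ⟨k, by rw [conj_pow, hk]; simp⟩

theorem ps_core (hp2 : p ≠ 2) (h2 : ∀ r : R, r + r = 0 → r = 0) {ψ : G →* R}
    (hψ : Function.Injective ψ) {H A : Subgroup G} (h : NA H A) (hb : core {p} H = ⊥)
    (hodd : ∀ x ∈ H, IsPGroup p (zpowers x) → (ψ x - 1) ^ 2 = 0 → ∀ L, L ≤ H → Odd (Nat.card L) →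
      x ∈ L → x ∈ core {p} L) {x : G} (hx : x ∈ H) (px : IsPGroup p (zpowers x))
    (qx : (ψ x - 1) ^ 2 = 0) : x = 1 := by
  have : Fact (Nat.Prime 2) := ⟨Nat.prime_two⟩
  set O := core {2}ᶜ H with hO
  have hOn : O ⊴ H := core_nrm _ _
  have qc : ∀ {a : G}, (ψ a - 1) ^ 2 = 0 → ∀ g, (ψ (g * a * g⁻¹) - 1) ^ 2 = 0 := fun {a} ha g => by
    have e : ψ (g * a * g⁻¹) - 1 = ψ g * (ψ a - 1) * ψ g⁻¹ := by
      rw [mul_sub, sub_mul, mul_one, ← map_mul, ← map_mul, ← map_mul, mul_inv_cancel, map_one]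
    rw [e, sq, mul_assoc, ← mul_assoc (ψ g⁻¹), ← mul_assoc (ψ g⁻¹), ← map_mul, inv_mul_cancel,
      map_one, one_mul, ← mul_assoc, mul_assoc (ψ g), ← sq, ha, mul_zero, zero_mul]
  have ho : ∀ {a : G}, IsPGroup p (zpowers a) → Odd (orderOf a) := fun ha => by
    rw [← Nat.card_zpowers]; exact odd_of_isPGroup hp2 ha
  have ha : ∀ x ∈ H, IsPGroup p (zpowers x) → (ψ x - 1) ^ 2 = 0 → x ∈ 𝐂(O) := by
    intro x hx px qx
    have h1 : zpowers x ≤ 𝐍(O) := zpowers_le.2 (hOn.norm hx)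
    have h3 := hodd x hx px qx (O ⊔ zpowers x) (sup_le hOn.le (zpowers_le.2 hx))
      (odd_sup (odd_core H) (odd_of_isPGroup hp2 px) h1) (mem_sup_right (mem_zpowers x))
    refine le_cent_of_inf_eq_bot (core_le _ _ |>.trans (nrm_sup_left h1).norm)
      (le_sup_left.trans (core_nrm _ _).norm) ?_ h3
    rw [core_inf_of_nrm _ (nrm_sup_left h1), ← le_bot_iff, ← hb]
    exact core_le_core_of_nrm _ hOn
  have hxA : x ∈ 𝐂(A) := by
    intro a haA
    have ha2 := h.ea a haA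
    have hy := hOn.norm (h.le haA)
    have hδ : x * (a * x * a⁻¹)⁻¹ ∈ (O ⊔ A) ⊓ 𝐂(O) := mem_inf.2 ⟨by
      rw [show x * (a * x * a⁻¹)⁻¹ = x * a * x⁻¹ * a⁻¹ by group]
      exact mul_mem (h.nrm.conj_mem hx (mem_sup_right haA)) (inv_mem (mem_sup_right haA)),
      mul_mem (ha x hx px qx) (inv_mem (ha _ (mul_mem (mul_mem (h.le haA) hx) (inv_mem (h.le haA)))
        (pg_conj px a) (qc qx a)))⟩
    have hC0 : (O ⊔ A) ⊓ 𝐂(O) ⊴ H := ⟨inf_le_left.trans h.nrm.le,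
      le_normalizer_inf h.nrm.norm (hOn.norm.trans (normalizer_le_normalizer_centralizer _))⟩
    suffices x * (a * x * a⁻¹)⁻¹ = 1 by
      rw [mul_inv_eq_one, eq_mul_inv_iff_mul_eq] at this
      exact this.symm
    have key : x * (x * (a * x * a⁻¹)⁻¹) = x * (a * x * a⁻¹)⁻¹ * x →
        IsPGroup p (zpowers (x * (a * x * a⁻¹)⁻¹)) := fun e => pg_of_comm px (pg_conj px a) (by
      rw [mul_assoc x _ x, mul_right_inj] at e
      exact (Commute.inv_right_iff.1 (show Commute x _ from e) : Commute x _))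
    by_cases hc : Odd (Nat.card ↥((O ⊔ A) ⊓ 𝐂(O)))
    · have h1 := le_odd_core hC0 hc
      have h3 := key (ha x hx px qx _ (h1 hδ)).symm
      have h4 : IsMulCommutative ↥((O ⊔ A) ⊓ 𝐂(O)) :=
        isMulCommutative_iff_le_cent.2 (inf_le_right.trans (cent_anti h1))
      have h5 := le_core_of_isPGroup ⟨zpowers_le.2 hδ,
        ((isMulCommutative_iff_le_cent.1 h4).trans (cent_anti (zpowers_le.2 hδ))).trans
          (centralizer_le_normalizer' _)⟩ h3 (mem_zpowers _)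
      have h6 := core_le_core_of_nrm _ hC0 h5
      rwa [hb, mem_bot] at h6
    · by_cases ha1 : a = 1
      · simp [ha1]
      have hAO : A ≤ 𝐂(O) := fun b hb => by
        by_cases hb1 : b = 1
        · rw [hb1]; exact one_mem _
        · exact (h.mem_nrm hC0 hc ⟨h.ea b hb, hb1⟩ (h.le hb)).2
      have h1 : x * a * x⁻¹ ∈ A := by
        obtain ⟨o, ho', b, hb, e⟩ := (mem_sup_of_right_le_normalizer (h.le.trans hOn.norm)).1
          (h.nrm.conj_mem hx (mem_sup_right haA))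
        have h3 := (Iv.conj ⟨ha2, ha1⟩ x).sq
        rw [← e, mul_assoc, ← mul_assoc b, ← hAO hb o ho', mul_assoc, h.ea b hb, mul_one] at h3
        rw [← e, eq_one_of_odd (odd_mem (odd_core H) ho') h3, one_mul]
        exact hb
      have h3 : x * (a * x * a⁻¹)⁻¹ * (x * (a * x * a⁻¹)⁻¹) = 1 := h.ea _ (by
        rw [show x * (a * x * a⁻¹)⁻¹ = x * a * x⁻¹ * a⁻¹ by group]
        exact mul_mem h1 (inv_mem haA))
      have h4 := (trace_comm ψ qx (qc qx a) (mul_mem (mem_sup_left (mem_zpowers x))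
        (inv_mem (mem_sup_right (mem_zpowers _))))).1
      rw [inv_of_sq h3] at h4
      refine eq_one_of_odd (ho (key (hψ ?_))) h3
      rw [map_mul, map_mul ψ _ x, ← sub_eq_zero]
      apply h2
      have := h4.eq
      rw [add_mul, mul_add, ← sub_eq_zero] at this
      rw [← neg_eq_zero, ← this]; abel
  set C := H ⊓ 𝐂(O ⊔ A) with hC
  have hCn : C ⊴ H := Nrm.cent h.nrm.norm
  have hxC : x ∈ C := ⟨hx, by rw [cent_sup]; exact ⟨ha x hx px qx, hxA⟩⟩
  suffices x ∈ core {p} C by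
    have h6 := core_le_core_of_nrm _ hCn this
    rwa [hb, mem_bot] at h6
  by_cases hc : Odd (Nat.card C)
  · exact hodd x hx px qx C hCn.le hc hxC
  have hCA : C ≤ 𝐂(A) := inf_le_right.trans (cent_anti le_sup_right)
  have hCO : C ≤ 𝐂(O) := inf_le_right.trans (cent_anti le_sup_left)
  have hA : A ≤ C := fun b hb => by
    by_cases hb1 : b = 1
    · rw [hb1]; exact one_mem _
    · exact h.mem_nrm hCn hc ⟨h.ea b hb, hb1⟩ (h.le hb)
  have hI : ∀ w ∈ C, Iv w → w ∈ A := fun w hw h1 => by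
    obtain ⟨o, ho', b, hb, e⟩ := (mem_sup_of_right_le_normalizer (h.le.trans hOn.norm)).1
      (h.mem h1 hw.1)
    have h3 := h1.sq
    rw [← e, mul_assoc, ← mul_assoc b, ← hCO (hA hb) o ho', mul_assoc, h.ea b hb, mul_one] at h3
    rw [← e, eq_one_of_odd (odd_mem (odd_core H) ho') h3, one_mul]
    exact hb
  refine Baer_Suzuki hxC fun g hg => ?_
  set y := g * x * g⁻¹ with hy
  have hyC : y ∈ C := mul_mem (mul_mem hg hxC) (inv_mem hg)
  set L := zpowers x ⊔ zpowers y with hL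
  have hLC : L ≤ C := sup_le (zpowers_le.2 hxC) (zpowers_le.2 hyC)
  have h4 : ∀ i ∈ L, i ^ 4 = 1 → i * i = 1 := fun i hi => no_four hp2 h2 hψ h hCn hA hCA hI
    (hCO.trans (cent_anti (core_le_core_of_nrm _ hCn))) hxC hyC px (pg_conj px g) qx (qc qx g) hi
  obtain ⟨S, hS⟩ := exists_isSylowIn 2 L
  have hSA : S ≤ A := fun s hs => by
    obtain ⟨k, hk⟩ := PG.exists_pow_pow_eq_one hS.isPGroup hs
    have h5 : ∀ k : ℕ, s ^ 2 ^ (k + 1) = 1 → s * s = 1 := by
      intro k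
      induction k with
      | zero => intro e; rwa [zero_add, pow_one, sq] at e
      | succ k ih =>
        intro e
        apply ih
        rw [pow_succ, pow_mul, sq]
        apply h4 _ (pow_mem (hS.le hs) _)
        rw [← pow_mul, ← e, pow_succ 2, pow_succ 2, mul_assoc (2 ^ k), show 2 * 2 = 4 from rfl]
    have h6 := h5 k (by rw [pow_succ, pow_mul, hk, one_pow])
    by_cases h1 : s = 1
    · rw [h1]; exact one_mem _
    · exact hI s (hLC (hS.le hs)) ⟨h6, h1⟩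
  have hB := Burnside_normal_complement hS ((inf_le_left.trans hLC).trans (hCA.trans (cent_anti hSA)))
  have hH : IsHall {2}ᶜ (core {2}ᶜ L) L :=
    hB.isHall_compl_iff.2 (by rw [compl_compl]; exact isHall_singleton_iff.2 hS)
  have hLo : Odd (Nat.card L) := odd_of_le (odd_core L) (sup_le
    (hH.le_of_nrm hB.nrm le_sup_left (odd_iff_piGrp.1 (odd_of_isPGroup hp2 px)))
    (hH.le_of_nrm hB.nrm le_sup_right (odd_iff_piGrp.1 (odd_of_isPGroup hp2 (pg_conj px g)))))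
  exact isPGroup_of_le (isPGroup_core p L) (sup_le
    (zpowers_le.2 (hodd x hx px qx L (hLC.trans hCn.le) hLo (mem_sup_left (mem_zpowers x))))
    (zpowers_le.2 (hodd y hyC.1 (pg_conj px g) (qc qx g) L (hLC.trans hCn.le) hLo
      (mem_sup_right (mem_zpowers y)))))

theorem core_im_eq_bot {G' : Type*} [Group G'] [Finite G'] {H E : Subgroup G} (hm : MinNormal E H)
    (hE : IsPGroup p E) (f : Mor H G') (hf : f.ker = H ⊓ 𝐂(E)) : core {p} (f.im H) = ⊥ := by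
  set R := f.pre (core {p} (f.im H)) with hR
  have hRn : R ⊴ H := f.pre_nrm_of_nrm_im le_rfl f.ker_le (core_nrm _ _)
  obtain ⟨S, hS⟩ := exists_isSylowIn p R
  have h1 := f.isSylowIn_im hRn.le hS
  rw [f.im_pre_of_le (core_le _ _)] at h1
  have h2 : R ≤ f.ker ⊔ S := (f.im_le_im_iff hRn.le (hS.le.trans hRn.le)).1 (by
    rw [f.im_pre_of_le (core_le _ _)]
    exact (core_eq_self (piGrp_core _ _)).ge.trans (core_le_of_isSylowIn h1))
  obtain ⟨y, hy, hy1, hyc⟩ := exists_ne_one_mem_centralizer_of_isPGroup hS.isPGroup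
    ((hS.le.trans hRn.le).trans hm.norm) (dvd_card_of_isPGroup hE hm.ne_bot)
  have h3 := hm.eq_of_le (K := E ⊓ 𝐂(R)) inf_le_left (fun e => hy1 (by
    rw [← mem_bot, ← e]
    refine ⟨hy, cent_anti h2 ?_⟩
    rw [cent_sup, hf]
    exact ⟨le_centralizer_comm.1 inf_le_right hy, hyc⟩))
    (le_normalizer_inf hm.norm (hRn.norm.trans (normalizer_le_normalizer_centralizer _)))
  rw [← f.im_pre_of_le (core_le {p} (f.im H)), f.im_eq_bot_iff hRn.le, hf]
  exact le_inf hRn.le (le_centralizer_comm.1 (h3 ▸ inf_le_right))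

theorem comm_zpowers_eq_bot {E : Subgroup G} {x : G} (hE : IsMulCommutative E) (hn : x ∈ 𝐍(E))
    (h : ∀ u ∈ E, ⁅x, ⁅x, u⁆⁆ = 1) : ⁅⁅E, zpowers x⁆, zpowers x⁆ = ⊥ := by
  rw [FT.commutator_eq_bot_iff, le_centralizer_comm, cent_zpowers, Subgroup.commutator_comm,
    Subgroup.commutator_le]
  rintro _ ⟨k, rfl⟩ u hu
  obtain ⟨n, hn'⟩ := mem_powers_iff_mem_zpowers.2 (zpow_mem (mem_zpowers x) k)
  change x ^ n = x ^ k at hn'
  change ⁅x ^ k, u⁆ ∈ _
  rw [← hn']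
  have h1 : ⁅x, u⁆ ∈ 𝐂[x] := mem_cent1.2 (commutatorElement_eq_one_iff_mul_comm.1 (h u hu))
  clear hn'
  induction n with
  | zero => simp
  | succ n ih =>
    rw [show ⁅x ^ (n + 1), u⁆ = x * ⁅x ^ n, u⁆ * x⁻¹ * ⁅x, u⁆ by
      simp only [commutatorElement_def]; group]
    exact mul_mem (mul_mem (mul_mem (mem_cent1.2 rfl) ih) (inv_mem (mem_cent1.2 rfl))) h1

theorem ps_chief (hp2 : p ≠ 2) {H A E : Subgroup G} (h : NA H A) (hm : MinNormal E H) (hEH : E ≤ H)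
    (hE : IsEA p E) (ho : Odd (Nat.card ↥(H ⊓ 𝐂(E)))) {x : G} (hx : x ∈ H)
    (px : IsPGroup p (zpowers x)) (qx : ∀ u ∈ E, ⁅x, ⁅x, u⁆⁆ = 1) : x ∈ 𝐂(E) := by
  obtain ⟨n, hc⟩ := exists_card_eq_pow hE.isPGroup
  obtain ⟨e, ρ, hρ, hk⟩ := exists_rep_of_isEA hE hc hm.norm
  have h1 : ∀ (a : H) (v : Fin n → ZMod p), (e (Multiplicative.ofAdd ((ρ a - 1).mulVec v)) : G) =
      ⁅(a : G), (e (Multiplicative.ofAdd v) : G)⁆ := by
    intro a v
    rw [Matrix.sub_mulVec, Matrix.one_mulVec, ofAdd_sub, map_div, div_eq_mul_inv, coe_mul, hρ,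
      commutatorElement_def, coe_inv]
  have hq : ∀ a : H, (∀ u ∈ E, ⁅(a : G), ⁅(a : G), u⁆⁆ = 1) ↔ (ρ a - 1) ^ 2 = 0 := by
    intro a
    refine ⟨fun ha => ?_, fun ha u hu => ?_⟩
    · apply Matrix.toLin'.injective
      refine LinearMap.ext fun v => ?_
      have h2 := ha _ (e (Multiplicative.ofAdd v)).2
      rw [← h1, ← h1, Matrix.mulVec_mulVec, OneMemClass.coe_eq_one, map_eq_one_iff _ e.injective,
        ofAdd_eq_one, ← sq] at h2
      rw [Matrix.toLin'_apply, h2, map_zero, LinearMap.zero_apply]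
    · have e1 : u = e (Multiplicative.ofAdd (e.symm ⟨u, hu⟩).toAdd) := by simp
      rw [e1, ← h1, ← h1, Matrix.mulVec_mulVec, ← sq, ha]
      simp
  let f : Mor H (Matrix (Fin n) (Fin n) (ZMod p))ˣ := Mor.ofSub ρ.toHomUnits
  have hf : ∀ a (ha : a ∈ H), (f a : Matrix (Fin n) (Fin n) (ZMod p)) = ρ ⟨a, ha⟩ := fun a ha => by
    rw [Mor.ofSub_apply _ ha]; rfl
  have hker : f.ker = H ⊓ 𝐂(E) := by
    ext a
    rw [f.mem_ker, mem_inf, and_congr_right_iff]
    intro ha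
    rw [← Units.val_eq_one, hf a ha, ← MonoidHom.mem_ker, hk, mem_subgroupOf]
  have hko : Odd (Nat.card ↥(f.ker ⊓ H)) := odd_of_le ho (hker ▸ inf_le_left)
  have h20 : (2 : ZMod p) ≠ 0 := fun e => hp2 ((Nat.prime_dvd_prime_iff_eq hp.out Nat.prime_two).1
    ((ZMod.natCast_eq_zero_iff 2 p).1 (by exact_mod_cast e)))
  have h3 := ps_core (ψ := Units.coeHom _) hp2 (fun r hr => by
    rw [← two_smul (ZMod p)] at hr
    exact (smul_eq_zero.1 hr).resolve_left h20) Units.val_injective (h.im f le_rfl hko)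
    (core_im_eq_bot hm hE.isPGroup f hker) (fun y hy py qy L hL hLo hyL => by
      obtain ⟨z0, hz0, rfl⟩ := (f.mem_im_of_le le_rfl).1 hy
      have hz := constt_mem {p} hz0
      have e1 : f (constt {p} z0) = f z0 := by
        rw [f.map_constt _ hz0, PiElt.constt_eq (piGrp_zpowers_iff.1 (piGrp_singleton_iff.2 py))]
      set z := constt {p} z0
      have hL' : Odd (Nat.card (f.pre L)) := by
        rw [f.card_pre hL, hker]; exact ho.mul hLo
      have hEL : E ≤ f.pre L := le_trans (by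
        rw [hker]; exact le_inf hEH (isMulCommutative_iff_le_cent.1 (isEA_iff.1 hE).1)) (f.ker_le_pre L)
      have hzL : z ∈ f.pre L := f.mem_pre.2 ⟨hz, e1 ▸ hyL⟩
      have h4 := odd_p_stable hL' (sol_of_odd hL') hE.isPGroup hEL
        (piGrp_singleton_iff.1 (piGrp_zpowers_iff.2 (piElt_constt {p} z0)))
        (zpowers_le.2 ⟨hzL, hm.norm hz⟩) (comm_zpowers_eq_bot (isEA_iff.1 hE).1 (hm.norm hz)
          ((hq ⟨z, hz⟩).2 (by rw [← hf z hz, e1]; exact qy))) (mem_zpowers z)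
      rw [inf_eq_left.2 ((f.pre_le L).trans hm.norm), show f.pre L ⊓ 𝐂(E) = f.pre L ⊓ f.ker by
        rw [hker, ← inf_assoc, inf_eq_left.2 (f.pre_le L)]] at h4
      have h5 := f.mem_im_of_mem hz h4
      rwa [f.im_coreMod (f.pre_le L), f.im_pre_of_le hL, e1] at h5)
    (f.mem_im_of_mem hx hx) (by
      rw [← f.im_zpowers hx]; exact f.isPGroup_im px) (by
      change ((f x : Matrix (Fin n) (Fin n) (ZMod p)) - 1) ^ 2 = 0
      rw [hf x hx]; exact (hq ⟨x, hx⟩).1 qx)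
  exact (hker ▸ f.mem_ker.2 ⟨hx, h3⟩ : x ∈ H ⊓ 𝐂(E)).2

/-- `p`-stability -/
theorem ps (hp2 : p ≠ 2) {H A P B : Subgroup G} (h : NA H A) (hP : IsPGroup p P) (hPH : P ⊴ H)
    (ho : Odd (Nat.card ↥(H ⊓ 𝐂(P)))) (hB : IsPGroup p B) (hBH : B ≤ H) (hq : ⁅⁅P, B⁆, B⁆ = ⊥) :
    B ≤ coreMod (H ⊓ 𝐂(P)) {p} H := by
  have : Fact (Nat.Prime 2) := ⟨Nat.prime_two⟩
  let K : Subgroup G → Subgroup G → Subgroup G := fun V U => H ⊓ coquo V 𝐂(quo V U)
  have hKn : ∀ V U, ChiefFactor H V U → K V U ⊴ H := fun V U hc =>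
    nrm_inf_of_le_normalizer (le_normalizer_coquo hc.nrm_left.norm
      (hc.minNormal.norm.trans (normalizer_le_normalizer_centralizer _)))
  have hK : ∀ V U, ChiefFactor H V U → U ≤ P → ∀ X, X ≤ H → (X ≤ K V U ↔ ⁅U, X⁆ ≤ V) :=
    fun V U hc hU X hX => by
      rw [le_inf_iff, and_iff_right hX, ← quo_le_iff (hX.trans hc.nrm_left.norm),
        quo_le_centralizer_iff hc.nrm_nrm.norm (hX.trans hc.nrm_left.norm)]
  set C := H ⊓ ⨅ (V : Subgroup G) (U : Subgroup G) (_ : ChiefFactor H V U) (_ : U ≤ P)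
    (_ : Odd (Nat.card (K V U))), K V U with hC
  have hCn : C ⊴ H := nrm_of_conj_mem inf_le_left fun g hg x hx => by
    simp only [hC, mem_inf, mem_iInf] at hx ⊢
    exact ⟨mul_mem (mul_mem hg hx.1) (inv_mem hg), fun V U h1 h2 h3 =>
      (hKn V U h1).conj_mem hg (hx.2 V U h1 h2 h3)⟩
  have hle : ∀ X, X ≤ H → (∀ V U, ChiefFactor H V U → U ≤ P → Odd (Nat.card (K V U)) →
      X ≤ K V U) → X ≤ C := fun X h1 h2 => le_inf h1 (by simpa only [le_iInf_iff] using h2)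
  have hCo : Odd (Nat.card C) := odd_of_no_iv fun w hw h1 => by
    refine h1.not_mem ho ⟨hw.1, coprime_cent_of_chief hPH (zpowers_le.2 hw.1)
      (coprime_iv h1 (odd_of_isPGroup hp2 hP)) (fun V U hc _ hU => ?_) (mem_zpowers w)⟩
    rw [← hK V U hc hU _ (zpowers_le.2 hw.1), zpowers_le]
    by_cases h2 : Odd (Nat.card (K V U))
    · simp only [hC, mem_inf, mem_iInf] at hw
      exact hw.2 V U hc hU h2
    · exact h.mem_nrm (hKn V U hc) h2 h1 hw.1
  have hPC : P ≤ C := hle P hPH.le fun V U hc hU _ => by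
    refine le_inf hPH.le ((quo_le_iff (hPH.le.trans hc.nrm_left.norm)).1 ?_)
    exact hc.minNormal.le_cent_of_nil (quo_nrm V hPH) (quo_mono V (hU.trans hPH.le))
      (isNilpotent_of_isPGroup (isPGroup_quo hP V))
  have hBC : B ≤ C := hle B hBH fun V U hc hU h2 x hx => by
    have hV := hc.nrm_left.norm
    have hxH := hBH hx
    refine ⟨hxH, mem_coquo.2 ⟨hV hxH, ps_chief hp2 (h.im (cos V) hV (odd_of_le
      (odd_of_isPGroup hp2 hP) (inf_le_left.trans ((ker_cos V).le.trans (hc.lt.le.trans hU)))))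
      hc.minNormal (quo_mono V (hU.trans hPH.le))
      (hc.minNormal.isEA_of_isPGroup (isPGroup_quo (isPGroup_of_le hP hU) V)) ?_
      (cos_mem_quo (hV hxH) hxH) ?_ fun u' hu' => ?_⟩⟩
    · rw [← quo_def, ← quo_inf_coquo]; exact h2.of_dvd_nat (card_quo_dvd _ _)
    · rw [← quo_zpowers (hV hxH)]; exact isPGroup_quo (isPGroup_of_le hB (zpowers_le.2 hx)) V
    · obtain ⟨u, hu, rfl⟩ := (mem_quo_of_le hc.nrm_nrm.norm).1 hu'
      have h1 := hc.nrm_nrm.norm hu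
      have h3 : ⁅x, ⁅x, u⁆⁆ ∈ ⁅⁅P, B⁆, B⁆ := by
        rw [Subgroup.commutator_comm]
        refine commutator_mem_commutator hx ?_
        rw [Subgroup.commutator_comm]
        exact commutator_mem_commutator hx (hU hu)
      rw [hq, mem_bot] at h3
      rw [← Mor.map_commutator _ (hV hxH) h1, ← Mor.map_commutator _ (hV hxH)
        (commutator_le_of_le le_rfl le_rfl (commutator_mem_commutator (hV hxH) h1)), h3,
        Mor.map_one]
  have h1 := odd_p_stable hCo (sol_of_odd hCo) hP hPC hB (le_inf hBC (hBH.trans hPH.norm)) hq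
  rw [inf_eq_left.2 (hCn.le.trans hPH.norm)] at h1
  have h2 : C ⊓ 𝐂(P) ⊴ C := Nrm.cent (hCn.le.trans hPH.norm)
  refine h1.trans (le_coreMod (Nrm.cent hPH.norm) ⟨(coreMod_le _ _ _).trans hCn.le,
    le_norm_coreMod _ hCn.norm (le_normalizer_inf hCn.norm
      (hPH.norm.trans (normalizer_le_normalizer_centralizer _)))⟩ ?_)
  exact (piNat_relIndex_coreMod h2 _).of_dvd
    (relIndex_dvd_of_le_left _ (inf_le_inf_right _ hCn.le))

/-- normality of the centre of the Puig subgroup -/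
theorem gen_Puig (hp2 : p ≠ 2) {H A S B : Subgroup G} (h : NA H A) (hS : IsSylowIn p S H)
    (hR : S ⊓ coreMod (H ⊓ 𝐂(core {p} H)) {p} H ≤ core {p} H) (hB : IsPGroup p B) (hBH : B ⊴ H)
    (hBa : IsMulCommutative B) (ho : Odd (Nat.card ↥(H ⊓ 𝐂(B)))) : cen (puig S) ⊴ H := by
  have hTS := core_le_of_isSylowIn hS
  have hT := isPGroup_core p H
  set T := core {p} H with hTd
  have hTn : T ⊴ H := core_nrm _ _
  have hBT : B ⊴ T := hBH.of_le (le_core_of_isPGroup hBH hB) hTn.le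
  have h1 : puigInf S ≤ puigInf T := by
    refine iSup_mono fun n => ?_
    induction n with
    | zero => exact bot_le
    | succ n ih =>
      refine puigSucc_le_iff.2 fun X h1 h2 h3 => ?_
      have h4 : puigAt T (2 * n + 1) ≤ 𝐍(X) := (puigSucc_mono hTS ih).trans h3
      refine le_puigSucc (le_trans (le_inf h1 ?_) hR) h2 h4
      set P := puigAt T (2 * n + 1) with hP
      have hPn : P ⊴ H := (puigAt_chr _ _).nrm_trans hTn
      have hPT : P ≤ T := puigAt_le _ _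
      have hab : ∀ B : Subgroup G, IsMulCommutative B → B ⊴ T → B ≤ P := fun B hb hB =>
        abelian_norm_sub_puigSucc hb hB (puigAt_le _ (2 * n))
      have h5 := ps hp2 h (isPGroup_of_le hT hPT) hPn
        (odd_of_le ho (inf_le_inf_left _ (cent_anti (hab B hBa hBT))))
        (isPGroup_of_le hS.isPGroup h1) (h1.trans hS.le) (by
          rw [FT.commutator_eq_bot_iff, le_centralizer_comm]
          exact (commutator_le_right_iff.2 h4).trans (isMulCommutative_iff_le_cent.1 h2))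
      have hC : H ⊓ 𝐂(P) ⊴ H := Nrm.cent hPn.norm
      have hC' : H ⊓ 𝐂(T) ⊴ H := Nrm.cent hTn.norm
      refine h5.trans (le_coreMod hC' (coreMod_nrm _ _ _) ?_)
      rw [← relIndex_mul_relIndex _ _ _ (inf_le_inf_left H (cent_anti hPT)) (le_coreMod_self hC _)]
      refine PiNat.mul ?_ (piNat_relIndex_coreMod hC _)
      rw [← compl_compl ({p} : Set ℕ), ← eltGen_le_iff (inf_le_left.trans hC'.norm), eltGen,
        closure_le]
      rintro u ⟨hu, hu'⟩
      refine ⟨hu.1, coprime_nil_faithful_cent_stab ((zpowers_le.2 hu.1).trans hTn.norm)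
        ((piGrp_zpowers_iff.2 hu').coprime_of_isPGroup hT) (isNilpotent_of_isPGroup hT) ?_
        (mem_zpowers u)⟩
      have h6 : P ≤ 𝐂(zpowers u) := le_centralizer_comm.1 (zpowers_le.2 hu.2)
      exact ((inf_le_inf_left _ (cent_anti (le_inf hPT h6))).trans (AppAB.cent_le hT hab)).trans h6
  have h2 : puig T ≤ puig S := puigSucc_mono hTS h1
  have hZY : cen (puig S) ≤ cen (puig T) := by
    refine le_inf ?_ ((cen_le_cent _).trans (cent_anti h2))
    refine le_trans ?_ (h1.trans (puigInf_le_puig T))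
    refine le_trans ?_ (AppAB.cent_le hS.isPGroup fun _ => abelian_norm_sub_puigInf)
    exact inf_le_inf (Puig_sub S) (cent_anti (puigInf_le_puig S))
  set Y := cen (puig T) ⊔ B with hY
  have hYH : Y ⊴ H := ((center_Puig_char T).nrm_trans hTn).sup hBH
  have hYT : Y ≤ T := sup_le (center_Puig_char T).le hBT.le
  have hYa : IsMulCommutative Y := by
    have h3 : cen (puig T) ≤ 𝐂(B) := (cen_le_cent _).trans (cent_anti (abelian_norm_sub_Puig hBa hBT))
    rw [isMulCommutative_iff_le_cent, hY, cent_sup]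
    exact sup_le (le_inf (isMulCommutative_iff_le_cent.1 (isMulCommutative_cen _)) h3)
      (le_inf (le_centralizer_comm.1 h3) (isMulCommutative_iff_le_cent.1 hBa))
  have hC0 : H ⊓ 𝐂(Y) ⊴ H := Nrm.cent hYH.norm
  set C := coreMod (H ⊓ 𝐂(Y)) {p} H with hC
  have hCH : C ⊴ H := coreMod_nrm _ _ _
  have hYS : Y ≤ puigInf S := abelian_norm_sub_puigInf hYa (hYH.of_le (hYT.trans hTS) hS.le)
  have hLC : puig S ≤ S ⊓ C := by
    refine le_inf (Puig_sub S) (puigSucc_le_iff.2 fun X h3 h4 h5 => ?_)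
    exact ps hp2 h (isPGroup_of_le hT hYT) hYH
      (odd_of_le ho (inf_le_inf_left _ (cent_anti le_sup_right)))
      (isPGroup_of_le hS.isPGroup h3) (h3.trans hS.le) (by
        rw [FT.commutator_eq_bot_iff, le_centralizer_comm]
        exact (commutator_le_right_iff.2 (hYS.trans h5)).trans (isMulCommutative_iff_le_cent.1 h4))
  have hSC : IsSylowIn p (S ⊓ C) C := isSylowIn_inf_nrm hS hCH
  have h3 : H ⊓ 𝐂(Y) ⊔ S ⊓ C = C := (isHall_singleton_iff.2 hSC).sup_eq_of_relIndex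
    (le_coreMod_self hC0 _) (piNat_relIndex_coreMod hC0 _)
  have h4 : 𝐍(S ⊓ C) ≤ 𝐍(cen (puig S)) := by
    rw [← sub_Puig_eq inf_le_left hLC]
    exact (center_Puig_char _).norm_le
  refine ⟨(center_Puig_char S).le.trans hS.le, ?_⟩
  rw [← Frattini_arg hCH hSC]
  refine sup_le (h3.ge.trans (sup_le ?_ ?_)) (inf_le_right.trans h4)
  · exact (inf_le_right.trans (cent_anti (hZY.trans le_sup_left))).trans
      (centralizer_le_normalizer' _)
  · exact le_normalizer.trans h4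

end Core

end Cfsg.Agent.Bender
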