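import Cfsg.Agent.Bender.G3

/-! Tools for the first stage of the proof of the theorem of Bender. -/

set_option autoImplicit false
set_option linter.unusedSectionVars false

namespace Cfsg.Agent.Bender

open Subgroup MulAction Cfsg.Agent.Local Cfsg.Agent.FT Cfsg.Agent.Suz2T
open scoped Pointwise commutatorElement

universe u

section
variable {G : Type*} [Group G] [Finite G] {Ω : Type*} [MulAction G Ω]

theorem exists_half {z y : G} (hz : z * z = 1) (ho : Odd (orderOf y)) (h : z * y * z = y⁻¹) :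
    ∃ j ∈ zpowers y, j * z * j⁻¹ * z = y := by
  obtain ⟨j, hj, e⟩ := conjIn_of_inv hz ho h (mem_zpowers y)
  exact ⟨j, hj, by rw [← e, cancel_sq' hz]⟩

theorem mem_of_pow_four {O : Subgroup G} {x : G} (ho : Odd (orderOf x)) (h : x ^ 4 ∈ O) : x ∈ O :=
  pow_mem_iff_of_coprime' ((Nat.coprime_two_left.2 ho).pow_left 2) h
    (by rw [pow_orderOf_eq_one]; exact one_mem _)

theorem na_of {H : Subgroup G} (h1 : ∀ u ∈ H, ∀ v ∈ H, Iv u → Iv v → u * v * (u * v) ∈ core {2}ᶜ H)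
    (cj : ∀ u ∈ H, ∀ v ∈ H, Iv u → Iv v → ∃ g ∈ H, g * u * g⁻¹ = v) {u v : G} (huH : u ∈ H)
    (hvH : v ∈ H) (hu : Iv u) (hv : Iv v) (huv : u ≠ v) (hc : u * v = v * u) : ∃ A, NA H A := by
  have : Fact (Nat.Prime 2) := ⟨Nat.prime_two⟩
  set O := core {2}ᶜ H with hO
  have hOn : O ⊴ H := core_nrm _ _
  set I : Set G := {w | w ∈ H ∧ Iv w} with hI
  have hL : closure I ⊴ H := ⟨(closure_le _).2 fun _ hw => hw.1,
    le_trans (le_normalizer_set_of_conj_mem fun g hg w hw =>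
      (⟨mul_mem (mul_mem hg hw.1) (inv_mem hg), hw.2.conj g⟩ : _ ∈ I)) (FT.normalizer_le_normalizer_closure _)⟩
  have hM := hOn.sup hL
  have hq : EA2 (quo O (O ⊔ closure I)) := by
    rw [quo_sup_left (hL.le.trans hOn.norm), quo_def,
      Mor.im_closure _ (fun w hw => hOn.norm hw.1)]
    have hsq : ∀ w ∈ I, cos O w * cos O w = 1 := fun w hw => by
      rw [← Mor.map_mul _ (hOn.norm hw.1) (hOn.norm hw.1), hw.2.sq, Mor.map_one]
    have hcm : IsMulCommutative (closure (cos O '' I)) := by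
      rw [isMulCommutative_iff_le_cent, closure_le, centralizer_closure]
      rintro _ ⟨a, ha, rfl⟩ _ ⟨b, hb, rfl⟩
      have h2 := cos_eq_one (h1 b hb.1 a ha.1 hb.2 ha.2)
      have h3 := hOn.norm (mul_mem hb.1 ha.1)
      rw [Mor.map_mul _ h3 h3, Mor.map_mul _ (hOn.norm hb.1) (hOn.norm ha.1)] at h2
      rw [← inv_of_sq h2, mul_inv_rev, inv_of_sq (hsq a ha), inv_of_sq (hsq b hb)]
    intro x hx
    induction hx using closure_induction with
    | mem x hx => obtain ⟨w, hw, rfl⟩ := hx; exact hsq w hw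
    | one => simp
    | mul x y hx hy h3 h4 =>
      rw [mul_assoc, ← mul_assoc y, isMulCommutative_iff.1 hcm y hy x hx, mul_assoc, h4, mul_one, h3]
    | inv x _ h3 => rw [← mul_inv_rev, h3, inv_one]
  obtain ⟨A, hA, h2⟩ := exists_isSylowIn_ge (ea2_pair hu.sq hv.sq hc).isPGroup
    (show closure {u, v} ≤ O ⊔ closure I from le_sup_of_le_right (closure_mono (by
      rintro _ (rfl | rfl)
      exacts [⟨huH, hu⟩, ⟨hvH, hv⟩])))
  have hAO := (hA.le.trans hM.le).trans hOn.norm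
  refine ⟨A, fun a ha => ?_, ⟨u, h2 (subset_closure (by simp)), v, h2 (subset_closure (by simp)),
    hu.ne, hv.ne, huv⟩, ?_, cj⟩
  · refine eq_one_of_mem_of_coprime ((piGrp_core {2}ᶜ H).coprime_of_isPGroup hA.isPGroup)
      (mul_mem ha ha) ?_
    rw [← cos_eq_one_iff (hAO (mul_mem ha ha)), Mor.map_mul _ (hAO ha) (hAO ha)]
    exact hq _ (cos_mem_quo (hAO ha) (hA.le ha))
  · rw [(isHall_singleton_iff.2 hA).sup_eq_of_relIndex le_sup_left (by
      rw [← piGrp_quo_iff (hM.le.trans hOn.norm), piGrp_singleton_iff]; exact hq.isPGroup)]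
    exact hM

variable {p : ℕ} [hp : Fact p.Prime]

theorem puig_le (hp2 : p ≠ 2) {H A S : Subgroup G} (h : NA H A) (hS : IsSylowIn p S H)
    (hR : S ⊓ coreMod (H ⊓ 𝐂(core {p} H)) {p} H ≤ core {p} H)
    (ho : Odd (Nat.card ↥(H ⊓ 𝐂(core {p} H)))) : cen (puig S) ≤ cen (puig (core {p} H)) := by
  have hTS := core_le_of_isSylowIn hS
  have hT := isPGroup_core p H
  set T := core {p} H with hTd
  have hTn : T ⊴ H := core_nrm _ _
  have h1 : puigInf S ≤ puigInf T := by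
    refine iSup_mono fun n => ?_
    induction n with
    | zero => exact bot_le
    | succ n ih =>
      refine puigSucc_le_iff.2 fun X h1 h2 h3 => ?_
      have h4 : puigAt T (2 * n + 1) ≤ 𝐍(X) := (puigSucc_mono hTS ih).trans h3
      refine le_puigSucc (le_trans (le_inf h1 ?_) hR) h2 h4
      set P := puigAt T (2 * n + 1) with hP
      have hPn : P ⊴ H := (puigAt_chr _ _).nrm_trans hTn
      have hPT : P ≤ T := puigAt_le _ _
      have hab : ∀ B : Subgroup G, IsMulCommutative B → B ⊴ T → B ≤ P := fun B hb hB =>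
        abelian_norm_sub_puigSucc hb hB (puigAt_le _ (2 * n))
      have key : ∀ u ∈ H ⊓ 𝐂(P), PiElt {p}ᶜ u → u ∈ H ⊓ 𝐂(T) := fun u hu hu' => by
        refine ⟨hu.1, coprime_nil_faithful_cent_stab ((zpowers_le.2 hu.1).trans hTn.norm)
          ((piGrp_zpowers_iff.2 hu').coprime_of_isPGroup hT) (isNilpotent_of_isPGroup hT) ?_
          (mem_zpowers u)⟩
        have h6 : P ≤ 𝐂(zpowers u) := le_centralizer_comm.1 (zpowers_le.2 hu.2)
        exact ((inf_le_inf_left _ (cent_anti (le_inf hPT h6))).trans (AppAB.cent_le hT hab)).trans h6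
      have h5 := ps hp2 h (isPGroup_of_le hT hPT) hPn
        (odd_of_no_iv fun w hw hi => hi.not_mem ho (key w hw (by
          rw [← piGrp_zpowers_iff, piGrp_compl_singleton_iff hp.out, card_zpowers_iv hi]
          exact fun e => hp2 ((Nat.prime_dvd_prime_iff_eq hp.out Nat.prime_two).1 e))))
        (isPGroup_of_le hS.isPGroup h1) (h1.trans hS.le) (by
          rw [FT.commutator_eq_bot_iff, le_centralizer_comm]
          exact (commutator_le_right_iff.2 h4).trans (isMulCommutative_iff_le_cent.1 h2))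
      have hC : H ⊓ 𝐂(P) ⊴ H := Nrm.cent hPn.norm
      have hC' : H ⊓ 𝐂(T) ⊴ H := Nrm.cent hTn.norm
      refine h5.trans (le_coreMod hC' (coreMod_nrm _ _ _) ?_)
      rw [← relIndex_mul_relIndex _ _ _ (inf_le_inf_left H (cent_anti hPT)) (le_coreMod_self hC _)]
      refine PiNat.mul ?_ (piNat_relIndex_coreMod hC _)
      rw [← compl_compl ({p} : Set ℕ), ← eltGen_le_iff (inf_le_left.trans hC'.norm), eltGen,
        closure_le]
      rintro u ⟨hu, hu'⟩
      exact key u hu hu'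
  have h2 : puig T ≤ puig S := puigSucc_mono hTS h1
  refine le_inf ?_ ((cen_le_cent _).trans (cent_anti h2))
  refine le_trans ?_ (h1.trans (puigInf_le_puig T))
  refine le_trans ?_ (AppAB.cent_le hS.isPGroup fun _ => abelian_norm_sub_puigInf)
  exact inf_le_inf (Puig_sub S) (cent_anti (puigInf_le_puig S))

theorem sylow_of_two (hp2 : p ≠ 2) {P X : Subgroup G} {a b : Ω} (hb : ∃ g ∈ X, g • a = b)
    (h : ∀ g ∈ X, P ≤ stabilizer G (g • a) → g • a = a ∨ g • a = b)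
    (hP : IsSylowIn p P (X ⊓ Dd G a b)) : IsSylowIn p P X := by
  rw [← isSylowIn_iff_normalizer]
  refine isSylowIn_of_maximal (le_inf (hP.le.trans inf_le_left) le_normalizer) hP.isPGroup
    fun Q hQ h1 h2 => hP.eq_of_le hQ h1 (le_inf (h2.trans inf_le_left) fun g hg => ?_)
  have ho := odd_mem (odd_of_isPGroup hp2 hQ) hg
  have hle := hP.le.trans inf_le_right
  have h3 := h _ (h2 hg).1 (le_stab_of_norm (hle.trans inf_le_left) (h2 hg).2)
  obtain ⟨x, hx, rfl⟩ := hb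
  have h4 := h _ (mul_mem (h2 hg).1 hx) (by
    rw [mul_smul]; exact le_stab_of_norm (hle.trans inf_le_right) (h2 hg).2)
  rw [mul_smul] at h4
  refine ⟨?_, ?_⟩
  · rcases h3 with e | e
    · exact e
    rcases h4 with e' | e'
    · exact fix_of_odd ho (by rw [e, e'])
    · have := smul_left_cancel g (e.trans e'.symm)
      exact e.trans this.symm
  · rcases h4 with e' | e'
    · rcases h3 with e | e
      · have := smul_left_cancel g (e.trans e'.symm)
        exact e'.trans this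
      · exact fix_of_odd ho (by rw [e', e])
    · exact e'

theorem clos_nrm {D O Z : Subgroup G} (hO : O ⊴ D) (hZ : Z ≤ D) (h : O ⊔ D ⊓ 𝐍(Z) = D) :
    ⁅O, Z⁆ ⊔ Z ⊴ D := by
  refine ⟨sup_le (commutator_le_of_le hO.le hZ) hZ, h.ge.trans (sup_le ?_ (le_normalizer_sup
    (le_normalizer_commutator (inf_le_left.trans hO.norm) inf_le_right) inf_le_right))⟩
  refine le_normalizer_of_conj_mem fun g hg x hx => ?_
  obtain ⟨a, ha, z, hz, rfl⟩ := (mem_sup_of_right_le_normalizer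
    (normalizer_commutator_ge_right O Z)).1 hx
  rw [show g * (a * z) * g⁻¹ = g * a * g⁻¹ * ⁅g, z⁆ * z by rw [commutatorElement_def]; group]
  exact mul_mem_sup (mul_mem (conj_mem_of_mem_normalizer (normalizer_commutator_ge_left O Z hg) ha)
    (commutator_mem_commutator hg hz)) hz

/-- the centre of the Puig subgroup modulo a central subgroup -/
theorem quot_puig {K C Z : Subgroup G} (hK : Odd (Nat.card K)) (hC : IsSylowIn p C K) (hZ : Z < C)
    (hc : K ≤ 𝐂(Z)) : ∃ Z', Z < Z' ∧ Z' ≤ C ∧ 𝐍(Z) ⊓ 𝐍(C) ≤ 𝐍(Z') ∧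
      ∀ K : Subgroup G, Odd (Nat.card K) → IsSylowIn p C K → K ≤ 𝐂(Z) →
        K ≤ core {p}ᶜ K ⊔ K ⊓ 𝐍(Z') := by
  have hCn : C ≤ 𝐍(Z) := (hC.le.trans hc).trans (centralizer_le_normalizer' _)
  have hq := isPGroup_quo hC.isPGroup Z
  refine ⟨coquo Z (cen (puig (quo Z C))), lt_of_le_of_ne (le_coquo _) fun e => hZ.not_ge ?_,
    coquo_le_of_le_quo ⟨hZ.le, hCn⟩ (center_Puig_char _).le, ?_, fun K hK hC hc => ?_⟩
  · rw [← quo_eq_bot_iff hCn]
    apply trivg_center_Puig_pgroup hq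
    rw [← quo_coquo (cen (puig (quo Z C))), ← e, quo_self]
  · exact le_normalizer_coquo inf_le_left
      ((quo_le_normalizer Z inf_le_right).trans (center_Puig_char _).norm_le)
  · have hKn : K ≤ 𝐍(Z) := hc.trans (centralizer_le_normalizer' _)
    have hZK : Z ⊴ K := ⟨hZ.le.trans hC.le, hKn⟩
    have ho := PG.odd_quo Z hK
    have h1 := Puig_factorisation ho (sol_of_odd ho) (isSylowIn_quo hC hKn)
    set E := coquo Z (core {p}ᶜ (quo Z K)) with hE
    have hEn : E ⊴ K := coquo_nrm_of_nrm_quo hZK (core_nrm _ _)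
    have hZE : IsSylowIn p Z E := ⟨le_coquo _, isPGroup_of_le hC.isPGroup hZ.le, by
      rw [← card_quo (coquo_le _), quo_coquo, ← piGrp_compl_singleton_iff hp.out]
      exact piGrp_core _ _⟩
    have h2 := Burnside_normal_complement hZE ((inf_le_left.trans hEn.le).trans hc)
    have h3 : coquo Z (quo Z K ⊓ 𝐍(cen (puig (quo Z C)))) ≤ K ⊓ 𝐍(coquo Z (cen (puig (quo Z C)))) :=
      le_inf (coquo_le_of_le_quo hZK inf_le_left)
        (le_normalizer_coquo (coquo_le _) (by rw [quo_coquo]; exact inf_le_right))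
    refine (coquo_quo_of_nrm hZK).ge.trans ((coquo_mono h1.ge).trans ?_)
    rw [coquo_def, Mor.pre_sup _ (le_im_cos _) (le_im_cos _),
      ← coquo_def, ← coquo_def, ← hE, ← h2.mulEq.sup_eq]
    exact sup_le (sup_le (le_sup_of_le_left (core_le_core_of_nrm _ hEn))
      (le_sup_of_le_right ((le_coquo _).trans h3))) (le_sup_of_le_right h3)

end

variable {G Ω : Type u} [Group G] [Finite G] [MulAction G Ω]

variable (G Ω) in
/-- no proper subgroup containing a two-point stabiliser and an involution fixing one of the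
points moves that point -/
def NY : Prop := ∀ (a b : Ω) (X : Subgroup G) (w : G), a ≠ b → X ≠ ⊤ → Dd G a b ≤ X → w ∈ X →
  Iv w → w • a = a → X ≤ stabilizer G a

namespace GH

variable (h : GH G Ω)
include h

theorem lemA {X : Subgroup G} (hX : X ≠ ⊤) {z y : G} (hzX : z ∈ X) (hz : Iv z) {c : Ω}
    (hc : z • c = c) (h1 : ¬ X ≤ stabilizer G c) (hy : y ∈ X) (hyc : y • c = c)
    (ho : Odd (orderOf y)) (hi : z * y * z = y⁻¹) : y ∈ core {2}ᶜ X := by
  obtain ⟨j, hj, e⟩ := exists_half hz.sq ho hi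
  have hjX := zpowers_le.2 hy hj
  by_cases h4 : ∀ v ∈ X, Iv v → z * v = v * z → v = z
  · exact e ▸ zstar_in hz hzX h4 hjX
  push Not at h4
  obtain ⟨v, hvX, hv, h2, h3⟩ := h4
  obtain ⟨N, B⟩ := h.bt hX hzX hvX hz hv h3.symm h2 hc h1
  have h5 := B.iv z hzX hz hc
  refine mem_of_pow_four ho (B.two _ ?_)
  rw [← e]
  exact mul_mem (B.nrm.conj_mem ⟨hjX, zpowers_le.2 (show y ∈ stabilizer G c from hyc) hj⟩ h5) h5

theorem lemA' {X : Subgroup G} (hX : X ≠ ⊤) {z y : G} (hzX : z ∈ X) (hz : Iv z) {c : Ω}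
    (hc : z • c = c) (h1 : ¬ X ≤ stabilizer G c) (hy : y ∈ X) (hyc : y • c = c)
    (ho : Odd (orderOf y)) (hi : z * y * z = y⁻¹) : ∃ b, b ≠ c ∧ y • b = b := by
  have hOn : core {2}ᶜ X ⊴ X := core_nrm _ _
  by_cases h2 : core {2}ᶜ X ≤ stabilizer G c
  · obtain ⟨g, hg, h3⟩ := SetLike.not_le_iff_exists.1 h1
    exact ⟨_, h3, le_stab_of_norm h2 (hOn.norm hg) (h.lemA hX hzX hz hc h1 hy hyc ho hi)⟩
  · obtain ⟨g, -, h3, h4⟩ := h.toSE.lemZ (odd_core X) hz hc (hOn.norm hzX) h2 (hOn.norm hy) ho hyc hi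
    exact ⟨_, h3, h4⟩

theorem not_D_le {a b c : Ω} (hab : a ≠ b) {t : G} (ht : Iv t) (hta : t • a = b) (hc : t • c = c) :
    ¬ Dd G a b ≤ stabilizer G c := by
  intro hle
  have h1 : Ts G a b = Ts G c c := by
    refine Set.eq_of_subset_of_ncard_le ?_ ?_ (Set.toFinite _)
    · rintro s ⟨hs, hsa⟩
      obtain ⟨d, hd, rfl⟩ := h.toSE.swap_conj ht hs hab hta hsa
      refine ⟨hs, ?_⟩
      have := conj_fix hc d
      rwa [show d • c = c from hle hd] at this
    · rw [h.toSE.ncard_T hab, h.toSE.ncard_I c b]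
  obtain ⟨u, v, hu, hv, huv, h2, h3, h4⟩ := h.pair c
  have h5 : u ∈ Ts G a b := h1 ▸ ⟨hu, h3⟩
  have h6 : v ∈ Ts G a b := h1 ▸ ⟨hv, h4⟩
  refine Iv.not_mem (u := u * v) ⟨?_, fun e => huv ?_⟩ (h.toSE.odd_Dd hab) ⟨?_, ?_⟩
  · rw [mul_assoc, ← mul_assoc v, ← h2, mul_assoc, hv.sq, mul_one, hu.sq]
  · rw [← hu.inv, inv_eq_of_mul_eq_one_right e]
  · change (u * v) • a = a
    rw [mul_smul, h6.2, smul_back hu.sq h5.2]
  · change (u * v) • b = b
    rw [mul_smul, smul_back hv.sq h6.2, h5.2]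

/-- a subgroup normalised by `D(a,b)`, `D(a,c)` and a swap with centre `c` -/
theorem ny_norm (ny : NY G Ω) {a b c : Ω} (hab : a ≠ b) {t : G} (ht : Iv t) (hta : t • a = b)
    (hc : t • c = c) {R : Subgroup G} (hR : R ≠ ⊥) (h1 : R ⊴ Dd G a b) (h2 : Dd G a c ≤ 𝐍(R))
    (h3 : t ∈ 𝐍(R)) : False := by
  have hca : c ≠ a := by
    rintro rfl
    exact hab (hc.symm.trans hta)
  exact h.not_D_le hab ht hta hc (h1.norm.trans (ny c a _ t hca
    (h.norm_ne_top hR (h.ne_top (h1.le.trans inf_le_left))) (by rwa [Dd, inf_comm]) h3 ht hc))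

/-- the cycle lemma -/
theorem cyc (ny : NY G Ω) {p : ℕ} [Fact p.Prime] {Z : Subgroup G} (hZ : IsPGroup p Z) (hZ1 : Z ≠ ⊥)
    (P : Ω → Ω → Prop) (h0 : ∃ x y, P x y)
    (hP : ∀ x y, P x y → x ≠ y ∧ Z ≤ Dd G x y ∧
      core {p}ᶜ (Dd G x y) ⊔ Dd G x y ⊓ 𝐍(Z) = Dd G x y ∧ ∃ t ∈ 𝐍(Z), ∃ c, Iv t ∧ t • x = y ∧
        t • c = c ∧ P x c ∧ ⁅core {p}ᶜ (Dd G x y), Z⁆ ≤ stabilizer G c) : False := by
  have : Finite Ω := by
    obtain ⟨x, -⟩ := h0
    exact Finite.of_surjective (fun g : G => g • x) fun y => h.tr x y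
  obtain ⟨⟨x, y⟩, hxy, hmax⟩ := Set.Finite.exists_maximalFor
    (fun q : Ω × Ω => ⁅core {p}ᶜ (Dd G q.1 q.2), Z⁆ ⊔ Z) {q | P q.1 q.2} (Set.toFinite _)
    (let ⟨x, y, e⟩ := h0; ⟨(x, y), e⟩)
  obtain ⟨h1, h2, h3, t, htZ, c, ht, htx, htc, h4, h5⟩ := hP x y hxy
  obtain ⟨-, h6, h7, -⟩ := hP x c h4
  have n1 := clos_nrm (core_nrm _ _) h2 h3
  have n2 := clos_nrm (core_nrm _ _) h6 h7
  have hle : ⁅core {p}ᶜ (Dd G x y), Z⁆ ⊔ Z ≤ ⁅core {p}ᶜ (Dd G x c), Z⁆ ⊔ Z := by
    refine sup_le ?_ le_sup_right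
    rw [← coprime_commGid (h2.trans (core_nrm _ _).norm)
      ((piGrp_core _ _).coprime_of_isPGroup hZ).symm]
    refine (commutator_mono ?_ le_sup_right).trans (commutator_le_right_iff.2 n2.norm)
    exact le_inf ((le_sup_left.trans n1.le).trans inf_le_left) h5
  have he := le_antisymm hle (hmax (j := (x, c)) h4 hle)
  have h8 := le_norm_core {p}ᶜ (zpowers_le.2 (swap_norm htx (smul_back ht.sq htx)))
  exact h.ny_norm ny h1 ht htx htc (fun e => hZ1 (le_bot_iff.1 (e ▸ le_sup_right))) n1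
    (he ▸ n2.norm) (le_normalizer_sup (le_normalizer_commutator h8 (zpowers_le.2 htZ))
      (zpowers_le.2 htZ) (mem_zpowers t))

end GH

end Cfsg.Agent.Bender
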