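import Cfsg.Agent.Bender.G4

/-! Maximal invariant `p`-subgroups fixing two points are Sylow in a two-point stabiliser. -/

set_option autoImplicit false
set_option linter.unusedSectionVars false

namespace Cfsg.Agent.Bender

open Subgroup MulAction Cfsg.Agent.Local Cfsg.Agent.FT Cfsg.Agent.Suz2T
open scoped Pointwise commutatorElement

universe u

variable {G Ω : Type u} [Group G] [Finite G] [MulAction G Ω] {p : ℕ} [hp : Fact p.Prime]

/-- `U` is maximal among the `t`-invariant `p`-groups fixing the centre of `t` and another point -/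
structure TM (p : ℕ) (U : Subgroup G) (t : G) (c : Ω) : Prop where
  pg : IsPGroup p U
  iv : Iv t
  fix : t • c = c
  le : U ≤ stabilizer G c
  nm : t ∈ 𝐍(U)
  nt : ¬ U ≤ 𝐂[t]
  ex : ∃ a, a ≠ c ∧ U ≤ stabilizer G a
  max : ∀ V : Subgroup G, IsPGroup p V → t ∈ 𝐍(V) → V ≤ stabilizer G c →
    (∃ a, a ≠ c ∧ V ≤ stabilizer G a) → U ≤ V → V = U

theorem inv_sylow {E X : Subgroup G} (hE : Odd (Nat.card E)) {t : G} (ht : Iv t) (hn : t ∈ 𝐍(E))
    (hX : IsPGroup p X) (hXE : X ≤ E) (hn' : t ∈ 𝐍(X)) : ∃ P, IsSylowIn p P E ∧ t ∈ 𝐍(P) ∧ X ≤ P := by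
  obtain ⟨P, h1, h2, h3⟩ := sol_coprime_Sylow_subset (zpowers_le.2 hn) (coprime_iv ht hE)
    (Or.inr (sol_of_odd hE)) hXE hX (zpowers_le.2 hn')
  exact ⟨P, h1, h2 (mem_zpowers t), h3⟩

omit [Finite G] in
theorem mem_norm_inf {H K : Subgroup G} {g : G} (h1 : g ∈ 𝐍(H)) (h2 : g ∈ 𝐍(K)) : g ∈ 𝐍(H ⊓ K) :=
  le_normalizer_inf (zpowers_le.2 h1) (zpowers_le.2 h2) (mem_zpowers g)

omit [Finite G] in
theorem mem_norm_sup {H K : Subgroup G} {g : G} (h1 : g ∈ 𝐍(H)) (h2 : g ∈ 𝐍(K)) : g ∈ 𝐍(H ⊔ K) :=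
  le_normalizer_sup (zpowers_le.2 h1) (zpowers_le.2 h2) (mem_zpowers g)

omit [Finite G] in
theorem mem_norm_comm {H K : Subgroup G} {g : G} (h1 : g ∈ 𝐍(H)) (h2 : g ∈ 𝐍(K)) : g ∈ 𝐍(⁅H, K⁆) :=
  le_normalizer_commutator (zpowers_le.2 h1) (zpowers_le.2 h2) (mem_zpowers g)

theorem mem_norm_core {H : Subgroup G} {g : G} (π : Set ℕ) (h : g ∈ 𝐍(H)) : g ∈ 𝐍(core π H) :=
  norm_le_norm_core π H h

theorem BT.fixO {Y N : Subgroup G} {a : Ω} (B : BT Y a N) {g x : G} (hx : x ∈ Y) (hxa : x • a ≠ a)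
    (hg : g ∈ core {2}ᶜ (Y ⊓ stabilizer G a)) (h : g • x • a = x • a) : g ∈ core {2}ᶜ Y := by
  have hOn : core {2}ᶜ (Y ⊓ stabilizer G a) ⊴ Y ⊓ stabilizer G a := core_nrm _ _
  have hgH := hOn.le hg
  refine (B.ker g hgH.1).2 fun y hy => ?_
  by_cases hya : y • a = a
  · rw [hya]; exact hgH.2
  obtain ⟨n, hn, e⟩ := B.tr x hx y hy hxa hya
  have h1 : n⁻¹ * g * n * g⁻¹ ∈ core {2}ᶜ Y := by
    refine mem_of_pow_four (odd_mem (odd_core _)
      (mul_mem (hOn.inv_conj_mem (B.nrm.le hn) hg) (inv_mem hg))) (B.two _ ?_)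
    rw [show n⁻¹ * g * n * g⁻¹ = n⁻¹ * (g * n * g⁻¹) by group]
    exact mul_mem (inv_mem hn) (B.nrm.conj_mem hgH hn)
  have h2 := (B.ker _ (core_le _ _ h1)).1 h1 x hx
  nth_rw 1 [← h] at h2
  rw [mul_smul, inv_smul_smul, mul_smul, mul_smul, inv_smul_eq_iff, e] at h2
  exact h2

theorem BT.na (S : SE G Ω) {Y N : Subgroup G} {a : Ω} (B : BT Y a N) {u v x : G} (huY : u ∈ Y)
    (hvY : v ∈ Y) (hu : Iv u) (hv : Iv v) (huv : u ≠ v) (hc : u * v = v * u) (ha : u • a = a)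
    (hx : x ∈ Y) (hxa : x • a ≠ a) : ∃ A, NA (Y ⊓ stabilizer G a) A := by
  refine na_of (fun w hw w' hw' h1 h2 => ?_) (fun w hw w' hw' h1 h2 => ?_) ⟨huY, ha⟩
    ⟨hvY, S.fix_of_comm hu ha hc.symm⟩ hu hv huv hc
  · have := B.cen w' hw'.1 h2 hw'.2 w (B.iv w hw.1 h1 hw.2)
    rw [h1.inv, mul_assoc] at this
    exact le_odd_core ((core_nrm _ _).of_le (B.le.trans B.nrm.le) inf_le_left) (odd_core _) this
  · obtain ⟨d, hd, e, h3⟩ := S.exists_conj h1 h2 (hu.conj x) hw.2 hw'.2 (conj_fix ha x) hxa.symm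
    exact ⟨d, ⟨h3 Y hw.1 hw'.1 (mul_mem (mul_mem hx huY) (inv_mem hx)), hd.1⟩, e⟩

theorem BT.le_sup {Y N : Subgroup G} {a : Ω} (B : BT Y a N) {t : G} (ht : t ∈ Y) (hta : t • a ≠ a) :
    Y ⊓ stabilizer G a ≤ N ⊔ Y ⊓ Dd G a (t • a) := fun x hx => by
  obtain ⟨n, hn, e⟩ := B.tr _ (mul_mem hx.1 ht) t ht (by
    rw [mul_smul]; exact fun e => hta (smul_left_cancel x (e.trans hx.2.symm))) hta
  rw [show x = n⁻¹ * (n * x) by group]
  refine mul_mem_sup (inv_mem hn) ⟨mul_mem (B.nrm.le hn).1 hx.1, mul_mem (B.nrm.le hn).2 hx.2, ?_⟩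
  change (n * x) • t • a = t • a
  rwa [mul_smul, ← mul_smul x]

theorem BT.le_of {Y N M : Subgroup G} {a : Ω} (B : BT Y a N) {t : G} (ht : t ∈ Y) (hta : t • a ≠ a)
    (h1 : Y ⊓ stabilizer G a ≤ M) (h2 : t ∈ M) : Y ≤ M := fun x hx => by
  by_cases hxa : x • a = a
  · exact h1 ⟨hx, hxa⟩
  obtain ⟨n, hn, e⟩ := B.tr x hx t ht hxa hta
  rw [show x = n⁻¹ * (t * (t⁻¹ * (n * x))) by group]
  refine mul_mem (inv_mem (h1 (B.nrm.le hn))) (mul_mem h2 (h1 ⟨Y.mul_mem (Y.inv_mem ht)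
    (Y.mul_mem (B.nrm.le hn).1 hx), ?_⟩))
  change (t⁻¹ * (n * x)) • a = a
  rw [mul_smul, mul_smul, e, inv_smul_smul]

theorem fact_mono {X Y : Subgroup G} (h : X ≤ Y) (p : ℕ) :
    (Nat.card X).factorization p ≤ (Nat.card Y).factorization p :=
  (Nat.factorization_le_iff_dvd Nat.card_pos.ne' Nat.card_pos.ne').2 (card_dvd_of_le h) p

namespace TM

variable {U : Subgroup G} {t : G} {c : Ω} (T : TM p U t c) (h : GH G Ω) (hp2 : p ≠ 2)
include T h hp2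

theorem exists_k {a : Ω} (hac : a ≠ c) (ha : U ≤ stabilizer G a)
    (hS : ¬ IsSylowIn p U (Dd G a (t • a))) : ∃ k ∈ 𝐍(U), IsPGroup p (zpowers k) ∧ k • c ≠ c ∧
      k ∈ Dd G a (t • a) ∧ t * k * t = k⁻¹ := by
  have hab := h.toSE.smul_ne T.iv T.fix hac.symm
  obtain ⟨P, hP, htP, hUP⟩ := inv_sylow (h.toSE.odd_Dd hab) T.iv
    (swap_norm rfl (smul_back T.iv.sq rfl)) T.pg (le_inf ha (le_stab_of_norm ha T.nm)) T.nm
  have h1 := lt_norm_of_isNilpotent (isNilpotent_of_isPGroup hP.isPGroup)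
    (lt_of_le_of_ne hUP fun e => hS (e ▸ hP))
  have h2 : t ∈ 𝐍(P ⊓ 𝐍(U)) := mem_norm_inf htP (le_normalizer T.nm)
  have h3 := isPGroup_of_le hP.isPGroup (inf_le_left (b := 𝐍(U)))
  obtain ⟨x, hx, hxc⟩ := SetLike.not_le_iff_exists.1 fun e => h1.ne' (T.max _ h3 h2 e
    ⟨a, hac, (inf_le_left.trans hP.le).trans inf_le_left⟩ h1.le)
  obtain ⟨d, -, k, hk, h4, h5, rfl⟩ := exists_cent_inv (odd_of_isPGroup hp2 h3) T.iv.sq h2 hx
  exact ⟨k, hk.2, isPGroup_of_le h3 (zpowers_le.2 hk),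
    fun e => hxc (mul_mem (h.toSE.cent_le T.iv T.fix h4) e), hP.le hk.1, h5⟩

omit hp2 in
theorem ne_top : 𝐍(U) ≠ ⊤ :=
  h.norm_ne_top (fun e => T.nt (e ▸ bot_le)) (h.ne_top T.le)

theorem rank_one (h1 : ∀ v ∈ 𝐍(U), Iv v → t * v = v * t → v = t) :
    ∃ a, a ≠ c ∧ IsSylowIn p U (Dd G a (t • a)) := by
  by_contra hn
  push Not at hn
  set O := core {2}ᶜ 𝐍(U) with hO
  have hOn : O ⊴ 𝐍(U) := core_nrm _ _
  have hUO : U ≤ O := le_odd_core (nrm_normalizer U) (odd_of_isPGroup hp2 T.pg)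
  have key : ∀ a, a ≠ c → U ≤ stabilizer G a → ∃ k ∈ O, IsPGroup p ↥(U ⊔ zpowers k) ∧ k • c ≠ c ∧
      k • a = a ∧ t * k * t = k⁻¹ := fun a hac ha => by
    obtain ⟨k, hk, h2, h3, h4, h5⟩ := T.exists_k h hp2 hac ha (hn a hac)
    obtain ⟨j, hj, e⟩ := exists_half T.iv.sq (odd_mem (odd_of_isPGroup hp2 h2) (mem_zpowers k)) h5
    exact ⟨k, e ▸ zstar_in T.iv T.nm h1 (zpowers_le.2 hk hj), isPGroup_sup T.pg h2 (zpowers_le.2 hk),
      h3, h4.1, h5⟩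
  obtain ⟨a, hac, ha⟩ := T.ex
  obtain ⟨k, hk, h2, h3, -, h5⟩ := key a hac ha
  have htO := hOn.norm T.nm
  obtain ⟨P0, hP0, ht0, hU0⟩ := inv_sylow (E := O ⊓ stabilizer G c)
    (odd_of_le (odd_core _) inf_le_left) T.iv (mem_norm_inf htO (le_normalizer T.fix)) T.pg
    (le_inf hUO T.le) T.nm
  obtain ⟨P1, hP1, ht1, hU1⟩ := inv_sylow (odd_core _) T.iv htO hP0.isPGroup
    (hP0.le.trans inf_le_left) ht0
  obtain ⟨P2, hP2, ht2, hU2⟩ := inv_sylow (odd_core _) T.iv htO h2 (sup_le hUO (zpowers_le.2 hk))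
    (mem_norm_sup T.nm (norm_zpowers_of_inv T.iv.sq h5))
  obtain ⟨g, hg, rfl⟩ := sol_coprime_Sylow_trans (zpowers_le.2 htO) (coprime_iv T.iv (odd_core _))
    (Or.inr (sol_of_odd (odd_core _))) hP2 (zpowers_le.2 ht2) hP1 (zpowers_le.2 ht1)
  have hgc : g • c = c := h.toSE.cent_le T.iv T.fix (cent_zpowers t ▸ hg.2)
  have h6 : P0 < MulAut.conj g • P2 := lt_of_le_of_ne hU1 fun e => h3 (by
    have := (hP0.le (e ▸ conj_mem_conj_smul g (hU2 (mem_sup_right (mem_zpowers k))))).2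
    change (g * k * g⁻¹) • c = c at this
    nth_rw 1 [← hgc] at this
    rw [smul_conj] at this
    exact smul_left_cancel g (this.trans hgc.symm))
  obtain ⟨x, hx, hx0⟩ := SetLike.exists_of_lt
    (lt_norm_of_isNilpotent (isNilpotent_of_isPGroup hP1.isPGroup) h6)
  have h7 : P0 = U := T.max P0 hP0.isPGroup ht0 (hP0.le.trans inf_le_right) ⟨x • c, fun e => hx0 (by
    rw [← hP0.eq_of_le (isPGroup_of_le hP1.isPGroup (inf_le_left (b := stabilizer G c)))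
      (le_inf hU1 (hP0.le.trans inf_le_right)) (inf_le_inf_right _ hP1.le)]
    exact ⟨hx.1, e⟩), le_stab_of_norm (hP0.le.trans inf_le_right) hx.2⟩ hU0
  subst h7
  have h8 := hP0.conj_smul k
  rw [smul_inf, ← stab_conj, mem_normalizer_iff_conj_smul_eq.1 (hOn.le hk),
    FT.conj_smul_eq_self_of_mem hk] at h8
  obtain ⟨k', hk', h9, h10, h11, -⟩ := key _ h3 (h8.le.trans inf_le_right)
  exact h10 (T.le (h8.eq_of_le h9 le_sup_left (sup_le h8.le (zpowers_le.2 ⟨hk', h11⟩)) ▸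
    mem_sup_right (mem_zpowers k')))

theorem rank_two (ny : NY G Ω) {v : G} (hvX : v ∈ 𝐍(U)) (hv : Iv v) (hc : t * v = v * t)
    (htv : t ≠ v) : ∃ a, a ≠ c ∧ IsSylowIn p U (Dd G a (t • a)) := by
  by_contra hn
  push Not at hn
  obtain ⟨a0, hac0, ha0⟩ := T.ex
  obtain ⟨k0, hk0, -, hac, -⟩ := T.exists_k h hp2 hac0 ha0 (hn a0 hac0)
  set a := k0 • c with ha
  have hUa : U ≤ stabilizer G a := le_stab_of_norm T.le hk0
  obtain ⟨k, hk, pk, hkc, hkD, hki⟩ := T.exists_k h hp2 hac hUa (hn a hac)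
  have hab := h.toSE.smul_ne T.iv T.fix hac.symm
  obtain ⟨y0, hy0, hy1, hyi⟩ := exists_inverted T.iv.sq T.nm T.nt
  have hUo := odd_of_isPGroup hp2 T.pg
  have hOc : ∀ Y : Subgroup G, 𝐍(U) ≤ Y → core {2}ᶜ Y ≤ stabilizer G c := fun Y hY =>
    h.toSE.le_of_four T.iv hv htv hc T.fix (odd_core Y) ((core_nrm _ _).norm (hY T.nm))
      ((core_nrm _ _).norm (hY hvX))
  have hUY : ∀ Y : Subgroup G, Y ≠ ⊤ → 𝐍(U) ≤ Y → IsSylowIn p (U ⊓ core {2}ᶜ Y) (core {2}ᶜ Y) ∧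
      y0 ∈ U ⊓ core {2}ᶜ Y ∧ 𝐍(U) ≤ 𝐍(U ⊓ core {2}ᶜ Y) := fun Y hY hle => by
    have hn := hle.trans (core_nrm {2}ᶜ Y).norm
    have h1 := le_normalizer.trans hn
    obtain ⟨P, hP, htP, hUP⟩ := inv_sylow (odd_sup (odd_core Y) hUo h1) T.iv
      (mem_norm_sup (hn T.nm) T.nm) T.pg le_sup_right T.nm
    rw [T.max P hP.isPGroup htP (hP.le.trans (sup_le (hOc Y hle) T.le)) ⟨a, hac, hP.le.trans
      (sup_le (le_stab_of_norm (hOc Y hle) (hn hk0)) hUa)⟩ hUP] at hP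
    exact ⟨isSylowIn_inf_nrm hP (nrm_sup_left h1), ⟨hy0, h.lemA hY (hle T.nm) T.iv T.fix
      (fun e => hac (e (hle hk0))) (hle (le_normalizer hy0)) (T.le hy0) (odd_mem hUo hy0) hyi⟩,
      le_normalizer_inf le_rfl hn⟩
  obtain ⟨Y1, hY1, hmax1⟩ := Set.exists_max_image {Y : Subgroup G | Y ≠ ⊤ ∧ 𝐍(U) ≤ Y}
    (fun Y => (Nat.card Y).factorization p) (Set.toFinite _) ⟨_, T.ne_top h, le_rfl⟩
  obtain ⟨Y0, ⟨hY0, e0⟩, hmax0⟩ := Set.Finite.exists_maximalFor (fun Y => U ⊓ core {2}ᶜ Y)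
    {Y : Subgroup G | (Y ≠ ⊤ ∧ 𝐍(U) ≤ Y) ∧ (Nat.card Y1).factorization p ≤
      (Nat.card Y).factorization p} (Set.toFinite _) ⟨Y1, hY1, le_rfl⟩
  obtain ⟨s0, m0, n0⟩ := hUY Y0 hY0.1 hY0.2
  set U1 := U ⊓ core {2}ᶜ Y0 with hU1
  set Y := 𝐍(U1) with hY
  have pU1 := s0.isPGroup
  have hYt : Y ≠ ⊤ := h.norm_ne_top (fun e => hy1 (by rwa [e, mem_bot] at m0))
    (h.ne_top (inf_le_left.trans T.le))
  have eY : (Nat.card Y1).factorization p ≤ (Nat.card Y).factorization p := by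
    obtain ⟨S, hS⟩ := exists_isSylowIn p (Y0 ⊓ Y)
    have h1 := isSylowIn_trans_of_not_dvd hS inf_le_left (by
      have h2 := mulEq_sup_of_norm (Or.inl (inf_le_left.trans (core_nrm {2}ᶜ Y0).norm :
        Y0 ⊓ Y ≤ _))
      rw [Frattini_arg (core_nrm _ _) s0] at h2
      rw [h2.symm.relIndex]
      exact fun e => s0.not_dvd (e.trans (relIndex_dvd_of_le_left _
        (le_inf (s0.le.trans (core_le _ _)) le_normalizer))))
    have h2 := Nat.pow_right_injective hp.out.two_le (h1.card_eq.symm.trans hS.card_eq)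
    exact e0.trans (h2.le.trans (fact_mono inf_le_right p))
  have hU1n : U1 ⊴ Y := nrm_normalizer U1
  have h1 : U1 ≤ U ⊓ core {2}ᶜ Y := le_inf inf_le_left (le_odd_core hU1n (odd_of_isPGroup hp2 pU1))
  have sY := (hUY Y hYt n0).1
  rw [← le_antisymm h1 (hmax0 ⟨⟨hYt, n0⟩, eY⟩ h1)] at sY
  have htY := n0 T.nm
  have hcj : ∀ {w : G}, w ∈ Y → k0 * w * k0⁻¹ ∈ Y := fun hw =>
    mul_mem (mul_mem (n0 hk0) hw) (inv_mem (n0 hk0))
  have hne : k0 * t * k0⁻¹ ≠ k0 * v * k0⁻¹ := by simpa using htv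
  have hcm : k0 * t * k0⁻¹ * (k0 * v * k0⁻¹) = k0 * v * k0⁻¹ * (k0 * t * k0⁻¹) := by
    rw [conj_mul, conj_mul, hc]
  obtain ⟨N, B⟩ := h.bt hYt (hcj htY) (hcj (n0 hvX)) (T.iv.conj k0) (hv.conj k0) hne hcm
    (conj_fix T.fix k0) fun e => hab (e htY).symm
  obtain ⟨A, hA⟩ := B.na h.toSE (hcj htY) (hcj (n0 hvX)) (T.iv.conj k0) (hv.conj k0) hne hcm
    (conj_fix T.fix k0) htY hab.symm
  set E := Y ⊓ Dd G a (t • a) with hE
  set H := Y ⊓ stabilizer G a with hH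
  have hEH : E ≤ H := inf_le_inf_left _ inf_le_left
  have hEo : Odd (Nat.card E) := odd_of_le (h.toSE.odd_Dd hab) inf_le_right
  have htD := swap_norm (a := a) rfl (smul_back T.iv.sq rfl)
  obtain ⟨P, hP, htP, hkP⟩ := inv_sylow hEo T.iv (mem_norm_inf (le_normalizer htY) htD) pk
    (zpowers_le.2 ⟨n0 hk, hkD⟩) (norm_zpowers_of_inv T.iv.sq hki)
  have hPY : IsSylowIn p P Y := sylow_of_two hp2 ⟨t, htY, rfl⟩ (fun g hg h2 => by
    by_contra h3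
    push Not at h3
    exact hkc (hOc Y n0 (B.ktwo t htY T.iv hab.symm k (n0 hk) hkD.1 hki g hg
      (h2 (hkP (mem_zpowers k))) h3.1 h3.2))) hP
  have hPH : IsSylowIn p P H := hPY.of_le (hP.le.trans hEH) inf_le_left
  have hOE : core {2}ᶜ Y ≤ E := fun g hg => ⟨core_le _ _ hg,
    by simpa using (B.ker g (core_le _ _ hg)).1 hg 1 (one_mem _), (B.ker g (core_le _ _ hg)).1 hg t htY⟩
  have hPO : P ⊓ core {2}ᶜ H ≤ U1 := sY.le_of_le_normalizer' (isPGroup_of_le hP.isPGroup inf_le_left)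
    (fun g hg => B.fixO htY hab.symm hg.2 (hP.le hg.1).2.2) ((inf_le_left.trans hPY.le))
  have hU1H : U1 ⊴ H := hU1n.of_le ((sY.le.trans hOE).trans hEH) inf_le_left
  have hT : core {p} H = U1 := le_antisymm (le_trans (le_inf (core_le_of_isSylowIn hPH)
    (core_le_odd hp2 H)) hPO) (le_core_of_isPGroup hU1H pU1)
  have hCo : Odd (Nat.card ↥(H ⊓ 𝐂(U1))) := odd_of_no_iv fun w hw hi => by
    obtain ⟨g, hg, e⟩ := h.toSE.conj_in hi T.iv hw.1.1 htY hw.1.2 htY hab.symm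
    have h2 := conj_mem_of_mem_normalizer (normalizer_le_normalizer_centralizer _ hg) hw.2
    rw [e] at h2
    exact hy1 (eq_one_of_inv_cent T.iv.sq (odd_mem hUo hy0) hyi (mem_cent1.2 (h2 y0 m0).symm))
  have hR : P ⊓ coreMod (H ⊓ 𝐂(core {p} H)) {p} H ≤ core {p} H := by
    rw [hT]
    refine le_trans (inf_le_inf_left _ (le_core (coreMod_nrm _ _ _) ?_)) hPO
    exact piGrp_of_relIndex (le_coreMod_self (Nrm.cent hU1H.norm) _) (odd_iff_piGrp.1 hCo)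
      ((piNat_relIndex_coreMod (Nrm.cent hU1H.norm) _).mono (by rintro _ rfl; exact hp2))
  have hZ := puig_le hp2 hA hPH hR (hT ▸ hCo)
  rw [hT] at hZ
  set Z := cen (puig P) with hZd
  have hZ0 : cen (puig U1) ⊴ Y := (center_Puig_char U1).nrm_trans hU1n
  have hZU : Z ≤ U1 := hZ.trans (center_Puig_char U1).le
  have hHZ : H ≤ 𝐍(Z) := by
    by_cases h2 : Odd (Nat.card ↥(H ⊓ 𝐂(cen (puig U1))))
    · exact (gen_Puig hp2 hA hPH hR (isPGroup_of_le pU1 (center_Puig_char U1).le)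
        (hZ0.of_le ((center_Puig_char U1).le.trans hU1H.le) inf_le_left)
        (isMulCommutative_cen _) h2).norm
    obtain ⟨w, hw, hi⟩ := exists_iv h2
    have h3 : E ≤ 𝐍(Z) := by
      refine (Puig_factorisation hEo (sol_of_odd hEo) hP).ge.trans (sup_le ?_ inf_le_right)
      exact ((core_compl_le_cent_core _ _).trans (cent_anti (hZU.trans (le_core_of_isPGroup
        (hU1n.of_le (sY.le.trans hOE) inf_le_left) pU1)))).trans (centralizer_le_normalizer' _)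
    exact (B.le_sup htY hab.symm).trans (sup_le ((B.gen _ (Nrm.cent hZ0.norm)
      ⟨w, ⟨hw.1.1, hw.2⟩, hi⟩).trans (sup_le ((inf_le_right.trans (cent_anti hZ)).trans
        (centralizer_le_normalizer' _)) (hOE.trans h3))) h3)
  have hYZ : Y ≤ 𝐍(Z) := B.le_of htY hab.symm hHZ ((center_Puig_char P).norm_le htP)
  have hZ1 : Z ≠ ⊥ := fun e => hy1 (by
    have := hPY.le_of_le_normalizer pU1 hU1n.le hPY.le m0
    rwa [trivg_center_Puig_pgroup hP.isPGroup e, mem_bot] at this)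
  have hPG : IsSylowIn p P ⊤ := by
    have h2 : IsSylowIn p P 𝐍(Z) := isSylowIn_of_card (hPY.le.trans hYZ) (by
      rw [hPY.card_eq, le_antisymm (fact_mono hYZ p) (le_trans (hmax1 _ ⟨h.norm_ne_top hZ1
        (h.ne_top ((hZU.trans inf_le_left).trans T.le)), n0.trans hYZ⟩) eY)])
    exact isSylowIn_iff_normalizer.1 (h2.of_le (le_inf le_top le_normalizer)
      (inf_le_right.trans (center_Puig_char P).norm_le))
  have hD := h.toSE.odd_Dd hab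
  have hPD : IsSylowIn p P (Dd G a (t • a)) := hPG.of_le (hP.le.trans inf_le_right) le_top
  obtain ⟨y, hy, hy2, hy3, w, hw, -, hw2⟩ := exists_special4 (odd_of_isPGroup hp2 pU1) T.iv hv htv hc
    htY (n0 hvX) fun e => hy1 (eq_one_of_inv_cent T.iv.sq (odd_mem hUo hy0) hyi (e m0))
  have hyD := (hOE (sY.le hy)).2
  have hO' : core {p}ᶜ (Dd G a (t • a)) ≤ stabilizer G c := h.toSE.le_of_special hD T.iv T.fix htD
    hyD hy2 hy3 hw hw2 (core_le _ _) ((core_nrm _ _).norm hyD)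
    ((piGrp_core _ _).coprime_of_isPGroup (isPGroup_of_le pU1 (zpowers_le.2 hy))).symm
  have hF := Puig_factorisation hD (sol_of_odd hD) hPD
  have hka : k0⁻¹ • a = c := inv_smul_smul k0 c
  obtain ⟨n, hn, hnb⟩ := B.tr t htY k0⁻¹ (inv_mem (n0 hk0)) hab.symm (by rw [hka]; exact hac.symm)
  rw [hka] at hnb
  refine h.cyc ny (isPGroup_of_le pU1 hZU) hZ1 (fun x y => ∃ g ∈ Y, x = g • a ∧ y = g • t • a)
    ⟨_, _, 1, one_mem _, rfl, rfl⟩ ?_
  rintro _ _ ⟨g, hg, rfl, rfl⟩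
  have hgZ := mem_normalizer_iff_conj_smul_eq.1 (hYZ hg)
  refine ⟨fun e => hab (smul_left_cancel g e), ?_, ?_, g * t * g⁻¹,
    hYZ (mul_mem (mul_mem hg htY) (inv_mem hg)), g • c, T.iv.conj g, smul_conj .., conj_fix T.fix g,
    ⟨g * n, mul_mem hg (B.nrm.le hn).1, by rw [mul_smul, (B.nrm.le hn).2], by rw [mul_smul, hnb]⟩, ?_⟩
  · rw [Dd_conj, ← hgZ]
    exact conj_smul_le_iff.2 ((center_Puig_char P).le.trans hPD.le)
  · rw [Dd_conj, core_conj, ← hgZ, normalizer_conj_smul, ← smul_inf, ← smul_sup, hF]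
  · refine (commutator_le_left_iff.2 ?_).trans ?_
    · refine le_trans ?_ (core_nrm _ _).norm
      rw [Dd_conj, ← hgZ]
      exact conj_smul_le_iff.2 ((center_Puig_char P).le.trans hPD.le)
    · rw [Dd_conj, core_conj]
      exact conj_le_stab hO' g

theorem sylow (ny : NY G Ω) : ∃ a, a ≠ c ∧ IsSylowIn p U (Dd G a (t • a)) := by
  by_cases h1 : ∀ v ∈ 𝐍(U), Iv v → t * v = v * t → v = t
  · exact T.rank_one h hp2 h1
  · push Not at h1
    obtain ⟨v, h2, h3, h4, h5⟩ := h1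
    exact T.rank_two h hp2 ny h2 h3 h4 h5.symm

end TM

end Cfsg.Agent.Bender
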