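import Cfsg.Agent.Bender.G5

/-! No odd element inverted by an involution fixes its centre and a further point: first case. -/

set_option autoImplicit false
set_option linter.unusedSectionVars false

namespace Cfsg.Agent.Bender

open Subgroup MulAction Cfsg.Agent.Local Cfsg.Agent.FT Cfsg.Agent.Suz2T
open scoped Pointwise commutatorElement

universe u

variable {G Ω : Type u} [Group G] [Finite G] [MulAction G Ω] {p : ℕ} [hp : Fact p.Prime]

/-- the elements acting trivially on `O` modulo `M` -/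
def stabMod (O M : Subgroup G) : Subgroup G where
  carrier := {w | w ∈ 𝐍(O) ∧ ∀ o ∈ O, ⁅o, w⁆ ∈ M}
  one_mem' := ⟨one_mem _, fun o _ => by simp⟩
  mul_mem' := fun {a b} ha hb => ⟨mul_mem ha.1 hb.1, fun o ho => by
    have h1 := conj_mem_of_mem_normalizer hb.1 ho
    rw [show ⁅o, a * b⁆ = ⁅o, b⁆ * ⁅b * o * b⁻¹, a⁆ by simp only [commutatorElement_def]; group]
    exact mul_mem (hb.2 o ho) (ha.2 _ h1)⟩
  inv_mem' := fun {a} ha => ⟨inv_mem ha.1, fun o ho => by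
    have h1 := inv_conj_mem_of_mem_normalizer ha.1 ho
    rw [show ⁅o, a⁻¹⁆ = ⁅a⁻¹ * o * a, a⁆⁻¹ by simp only [commutatorElement_def]; group]
    exact inv_mem (ha.2 _ h1)⟩

omit [Finite G] in
theorem comm_le_of_stabMod {O M W : Subgroup G} (h : W ≤ stabMod O M) : ⁅O, W⁆ ≤ M :=
  Subgroup.commutator_le.2 fun o ho _ hw => (h hw).2 o ho

theorem mem_W {U : Subgroup G} (hU : Odd (Nat.card U)) {t k : G} (ht : t * t = 1) (hk : k ∈ U)
    (h : t * k * t = k⁻¹) : k ∈ ⁅U, zpowers t⁆ := by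
  obtain ⟨j, hj, e⟩ := exists_half ht (odd_mem hU hk) h
  rw [← e, show j * t * j⁻¹ * t = ⁅j, t⁆ by rw [commutatorElement_def, inv_of_sq ht]]
  exact commutator_mem_commutator (zpowers_le.2 hk hj) (mem_zpowers t)

theorem W_le {U M : Subgroup G} {t : G} (ht : t * t = 1) (hn : t ∈ 𝐍(U))
    (h : ∀ k ∈ U, t * k * t = k⁻¹ → k ∈ M) : ⁅U, zpowers t⁆ ≤ M := by
  refine comm_le_of_stabMod (zpowers_le.2 ⟨hn, fun o ho => h _ ?_ ?_⟩)
  · rw [commutatorElement_def, mul_assoc, mul_assoc, ← mul_assoc t]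
    exact mul_mem ho (conj_mem_of_mem_normalizer hn (inv_mem ho))
  · simp only [commutatorElement_def, inv_of_sq ht, mul_inv_rev, inv_inv, mul_assoc, ht, mul_one]

omit [Finite G] in
theorem iv_mul_comm {u v : G} (hu : Iv u) (hv : Iv v) (huv : u ≠ v) (h : u * v = v * u) :
    Iv (u * v) :=
  ⟨by rw [mul_assoc, ← mul_assoc v, ← h, mul_assoc, hv.sq, mul_one, hu.sq],
    fun e => huv (by rw [← hu.inv, inv_eq_of_mul_eq_one_right e])⟩

theorem special_clos {X E : Subgroup G} (hE : Odd (Nat.card E)) {t e : G} (ht : Iv t) (he : Iv e)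
    (hte : t ≠ e) (hc : t * e = e * t) (h1 : X ≤ E) (h2 : MulAut.conj t • X ≤ E)
    (h3 : MulAut.conj e • X ≤ E) (h4 : MulAut.conj (t * e) • X ≤ E) (h : ¬ X ≤ 𝐂[t]) :
    ∃ y ∈ E, y ≠ 1 ∧ t * y * t = y⁻¹ ∧ ∃ w, Iv w ∧ w * y = y * w := by
  have hB : X ⊔ MulAut.conj t • X ⊔ (MulAut.conj e • X ⊔ MulAut.conj (t * e) • X) ≤ E :=
    sup_le (sup_le h1 h2) (sup_le h3 h4)
  obtain ⟨y, hy, h5, h6, w, h7, -, h8⟩ := exists_special4 (odd_of_le hE hB) ht he hte hc (by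
    simp only [mem_normalizer_iff_conj_smul_eq, smul_sup, conj_smul_conj_smul, ← mul_assoc, ht.sq,
      one_mul, map_one, one_smul]
    ac_rfl) (by
    simp only [mem_normalizer_iff_conj_smul_eq, smul_sup, conj_smul_conj_smul, hc, ← mul_assoc, he.sq,
      one_mul, map_one, one_smul]
    ac_rfl) fun e => h (le_sup_left.trans (le_sup_left.trans e))
  exact ⟨y, hB hy, h5, h6, w, h7, h8⟩

theorem le_of_sup_pg {O Z X : Subgroup G} (hZ : IsPGroup p Z) (hn : Z ≤ 𝐍(O)) (hX : X ≤ O ⊔ Z)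
    (h : PiGrp {p}ᶜ X) : X ≤ O := by
  have h1 := hX.trans (nrm_sup_left hn).norm
  rw [← quo_eq_bot_iff h1, ← le_bot_iff, ← (piGrp_singleton_iff.2 (isPGroup_quo hZ O)).inf_eq_bot
    (h.im (cos O))]
  exact le_inf ((quo_mono O hX).trans (quo_sup_left hn).le) le_rfl

theorem fit_le_compl {D : Subgroup G} (h : core {p} D = ⊥) : fit D ≤ core {p}ᶜ D :=
  fit_le_of_forall_core_le fun r _ _ => by
    by_cases e : r = p
    · rw [e, h]; exact bot_le
    · exact core_mono_pi (by rintro _ rfl; exact e) D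

theorem SE.step (S : SE G Ω) {U : Subgroup G} {t : G} (ht : Iv t) {c x : Ω} (hc : t • c = c)
    (hU : U ≤ stabilizer G c) (hx : x ≠ c) (h : IsSylowIn p U (Dd G x (t • x))) :
    IsSylowIn p U (Dd G x c) :=
  isSylowIn_of_card (le_inf (h.le.trans inf_le_left) hU) (by
    rw [h.card_eq, ← S.card_Dd ht hc hx.symm, Dd, inf_comm])

theorem SE.comm_W (S : SE G Ω) {U : Subgroup G} (hU : IsPGroup p U) {t : G} (ht : Iv t) {c x : Ω}
    (hc : t • c = c) (hn : t ∈ 𝐍(U)) (hUc : U ≤ stabilizer G c) (hx : x ≠ c)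
    (hD : U ≤ Dd G x (t • x)) : ⁅core {p}ᶜ (Dd G x (t • x)), ⁅U, zpowers t⁆⁆ ≤ stabilizer G c := by
  refine comm_le_of_stabMod (W_le ht.sq hn fun k hk hi => ?_)
  have h1 := (core_nrm {p}ᶜ _).norm (hD hk)
  refine ⟨h1, fun o ho => S.dplus (S.odd_Dd (S.smul_ne ht hc hx.symm)) ht hc
    (swap_norm rfl (smul_back ht.sq rfl)) (hD hk) (hUc hk) hi
    (commutator_le_of_le (core_le _ _) (zpowers_le.2 (hD hk))) (coprime_commGid (zpowers_le.2 h1)
      ((piGrp_core _ _).coprime_of_isPGroup (isPGroup_of_le hU (zpowers_le.2 hk))).symm).ge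
    (commutator_mem_commutator ho (mem_zpowers k))⟩

namespace GH

variable (h : GH G Ω) (ny : NY G Ω)
include h ny

theorem cycS {U : Subgroup G} {t : G} (ht : Iv t) {c a : Ω} (hc : t • c = c)
    (hUc : U ≤ stabilizer G c) (hn : t ∈ 𝐍(U)) (hU : U ≠ ⊥) (hac : a ≠ c)
    (ha : IsSylowIn p U (Dd G a (t • a))) (H : ∀ x, x ≠ c → IsSylowIn p U (Dd G x (t • x)) →
      core {p}ᶜ (Dd G x (t • x)) ≤ stabilizer G c) : False := by
  obtain ⟨s, hs, -, hsa⟩ := h.toSE.typeS hac (h.toSE.step ht hc hUc hac ha)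
  have hsc : s • c ≠ c := fun e => hac (smul_left_cancel s (hsa.trans e.symm))
  refine h.cyc ny (isPGroup_of_le ha.isPGroup (center_Puig_char U).le)
    (fun e => hU (trivg_center_Puig_pgroup ha.isPGroup e))
    (fun x y => x ≠ y ∧ IsSylowIn p U (Dd G x y)) ⟨_, _, h.toSE.smul_ne ht hc hac.symm, ha⟩ ?_
  rintro x y ⟨hxy, hS⟩
  have hD := h.toSE.odd_Dd hxy
  obtain ⟨τ, hτ, h1, rfl⟩ := h.toSE.typeS hxy hS
  obtain ⟨n, hn', rfl⟩ := h.toSE.conj_in ht h1 hn hτ hc hs hsc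
  obtain ⟨x, rfl⟩ : ∃ x', x = n • x' := ⟨n⁻¹ • x, (smul_inv_smul n x).symm⟩
  have hx : x ≠ c := by
    rintro rfl
    exact hxy (conj_fix hc n).symm
  have hx' : n • x ≠ n • c := fun e => hx (smul_left_cancel n e)
  refine ⟨hxy, (center_Puig_char U).le.trans hS.le, Puig_factorisation hD (sol_of_odd hD) hS, _,
    (center_Puig_char U).norm_le hτ, n • c, h1, rfl, conj_fix hc n,
    ⟨hx', h.toSE.step h1 (conj_fix hc n) (le_stab_of_norm hUc hn') hx' hS⟩,
    (commutator_le_left_iff.2 (((center_Puig_char U).le.trans hS.le).trans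
      (core_nrm _ _).norm)).trans ?_⟩
  rw [smul_conj, Dd_conj] at hS ⊢
  rw [core_conj]
  refine conj_le_stab (H x hx ?_) n
  have := hS.conj_smul n⁻¹
  rwa [conj_smul_conj_smul, inv_mul_cancel, map_one, one_smul,
    mem_normalizer_iff_conj_smul_eq.1 (inv_mem hn')] at this

omit ny in
theorem exists_tm {t y : G} (hp2 : p ≠ 2) (ht : Iv t) {c a : Ω} (hc : t • c = c)
    (py : IsPGroup p (zpowers y)) (hy : y ≠ 1) (hi : t * y * t = y⁻¹) (hyc : y • c = c)
    (hya : y • a = a) (hac : a ≠ c) : ∃ U, TM p U t c ∧ y ∈ U := by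
  obtain ⟨U, h1, h2⟩ := Finite.exists_le_maximal (p := fun V : Subgroup G => IsPGroup p V ∧
    t ∈ 𝐍(V) ∧ V ≤ stabilizer G c ∧ ∃ a, a ≠ c ∧ V ≤ stabilizer G a) (a := zpowers y)
    ⟨py, norm_zpowers_of_inv ht.sq hi, zpowers_le.2 hyc, a, hac, zpowers_le.2 hya⟩
  exact ⟨U, ⟨h2.1.1, ht, hc, h2.1.2.2.1, h2.1.2.1, fun e => hy (eq_one_of_inv_cent ht.sq
    (odd_mem (odd_of_isPGroup hp2 py) (mem_zpowers y)) hi (e (h1 (mem_zpowers y)))), h2.1.2.2.2,
    fun V a b c d e => le_antisymm (h2.2 ⟨a, b, c, d⟩ e) e⟩, h1 (mem_zpowers y)⟩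

omit h ny hp in
theorem _root_.Cfsg.Agent.Bender.exists_prime_pow {y : G} (hy : y ≠ 1) (ho : Odd (orderOf y)) :
    ∃ p : ℕ, p.Prime ∧ p ≠ 2 ∧ ∃ z ∈ zpowers y, z ≠ 1 ∧ IsPGroup p (zpowers z) := by
  obtain ⟨p, hp, hd⟩ := Nat.exists_prime_and_dvd (mt orderOf_eq_one_iff.1 hy)
  obtain ⟨z, hz, h1⟩ := exists_mem_orderOf_eq_of_dvd_card (H := zpowers y) hp
    (by rwa [Nat.card_zpowers])
  have := Fact.mk hp
  exact ⟨p, hp, fun e => absurd (ho.of_dvd_nat (e ▸ hd)) (by decide), z, hz,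
    fun e => hp.one_lt.ne (by rw [← h1, e, orderOf_one]),
    mem_zp_iff.2 ⟨1, by rw [pow_one, ← h1, pow_orderOf_eq_one]⟩⟩

omit hp in
/-- a bad element has a centraliser of odd order -/
theorem ns {t y w : G} (ht : Iv t) {c a : Ω} (hc : t • c = c) (ho : Odd (orderOf y)) (hy : y ≠ 1)
    (hi : t * y * t = y⁻¹) (hyc : y • c = c) (hya : y • a = a) (hac : a ≠ c) (hw : Iv w)
    (hwy : w * y = y * w) : False := by
  obtain ⟨p, hp, hp2, z, hz, hz1, pz⟩ := exists_prime_pow hy ho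
  have := Fact.mk hp
  have hi' := inverts_zpowers ht.sq hi hz
  have hw' : w * z = z * w := mem_cent1.1 (zpowers_le.2 (mem_cent1.2 hwy) hz)
  obtain ⟨U, T, hU⟩ := h.exists_tm hp2 ht hc pz hz1 hi'
    (zpowers_le.2 (show y ∈ stabilizer G c from hyc) hz)
    (zpowers_le.2 (show y ∈ stabilizer G a from hya) hz) hac
  obtain ⟨b, hb, hS⟩ := T.sylow h hp2 ny
  exact h.cycS ny ht hc T.le T.nm (fun e => T.nt (e ▸ bot_le)) hb hS fun x hx hS =>
    h.toSE.le_of_special (h.toSE.odd_Dd (h.toSE.smul_ne ht hc hx.symm)) ht hc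
      (swap_norm rfl (smul_back ht.sq rfl)) (hS.le hU) hz1 hi' hw hw' (core_le _ _)
      ((core_nrm _ _).norm (hS.le hU)) ((piGrp_core _ _).coprime_of_isPGroup pz).symm

theorem op {U : Subgroup G} {t : G} (ht : Iv t) {c x : Ω} (hc : t • c = c) (hn : t ∈ 𝐍(U))
    (hx : c ≠ x) (hS : IsSylowIn p U (Dd G c x)) : core {p} (Dd G c x) = ⊥ := by
  by_contra hne
  set R := core {p} (Dd G c x) with hR
  have hRn : R ⊴ Dd G c x := core_nrm _ _
  have key : ∀ e, Iv e → e • c = c → MulAut.conj e • R ≤ Dd G c x := fun e he hec => by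
    obtain ⟨d, hd, rfl⟩ := h.toSE.exists_conj_D ht he hc hec hx
    rw [← conj_smul_conj_smul, ← conj_smul_conj_smul,
      mem_normalizer_iff_conj_smul_eq.1 (hRn.norm (inv_mem hd)), ← FT.conj_smul_eq_self_of_mem hd,
      conj_smul_le_iff]
    refine le_trans ?_ hS.le
    rw [← mem_normalizer_iff_conj_smul_eq.1 hn, conj_smul_le_iff]
    exact core_le_of_isSylowIn hS
  obtain ⟨e, he, hte, hce⟩ := h.exists_comm ht
  have hec := h.toSE.fix_of_comm ht hc hce.symm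
  have hD := h.toSE.odd_Dd hx
  by_cases h1 : R ≤ 𝐂[t]
  · obtain ⟨s, hs, hsc⟩ := h.toSE.exists_swap hx
    exact hx ((ny c x 𝐍(R) t hx (h.norm_ne_top hne (h.ne_top (hRn.le.trans inf_le_left))) hRn.norm
      (centralizer_le_normalizer' _ (le_centralizer_comm.1 (cent_zpowers t ▸ h1) (mem_zpowers t)))
      ht hc (mem_norm_core _ (swap_norm hsc (smul_back hs.sq hsc)))).symm.trans hsc)
  obtain ⟨y, hy, h2, h3, w, h4, h5⟩ := special_clos hD ht he hte hce hRn.le (key t ht hc)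
    (key e he hec) (key _ (iv_mul_comm ht he hte hce) (by rw [mul_smul, hec, hc])) h1
  exact h.ns ny ht hc (odd_mem hD hy) h2 h3 hy.1 hy.2 hx.symm h4 h5

end GH

end Cfsg.Agent.Bender
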