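import Cfsg.Agent.Bender.G6

/-! No odd element inverted by an involution fixes its centre and a further point: first case,
conclusion. -/

set_option autoImplicit false
set_option linter.unusedSectionVars false

namespace Cfsg.Agent.Bender

open Subgroup MulAction Cfsg.Agent.Local Cfsg.Agent.FT Cfsg.Agent.Suz2T
open scoped Pointwise commutatorElement

universe u

variable {G Ω : Type u} [Group G] [Finite G] [MulAction G Ω] {p : ℕ} [hp : Fact p.Prime]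

variable (G Ω) in
/-- no nontrivial element of odd order inverted by an involution fixes its centre and a further
point -/
def NB : Prop := ∀ (t y : G) (c a : Ω), Iv t → t • c = c → Odd (orderOf y) → t * y * t = y⁻¹ →
  y • c = c → y • a = a → a ≠ c → y = 1

theorem core_le_of_fact {D N : Subgroup G} (h : core {p}ᶜ D ⊔ N = D) : core {p}ᶜ N ≤ core {p}ᶜ D := by
  have hN : N ≤ D := h ▸ le_sup_right
  have h1 := hN.trans (core_nrm {p}ᶜ D).norm
  refine le_sup_right.trans (le_core (K := core {p}ᶜ D ⊔ core {p}ᶜ N)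
    ⟨sup_le (core_le _ _) ((core_le _ _).trans hN), h.ge.trans (sup_le (le_sup_left.trans
      le_normalizer) (le_normalizer_sup h1 (core_nrm _ _).norm))⟩ ?_)
  exact (mulEq_sup_of_norm (Or.inl ((core_le _ _).trans h1))).piGrp (piGrp_core _ _) (piGrp_core _ _)

/-- a self-centralising subgroup with the factorisation property -/
theorem exists_Zm {U Y : Subgroup G} (hp2 : p ≠ 2) (hU : IsPGroup p U) (hUY : U ≤ Y) (hY : Y ≤ 𝐍(U))
    (𝒟 : Set (Subgroup G)) (h𝒟 : ∀ D ∈ 𝒟, Odd (Nat.card D) ∧ IsSylowIn p U D) :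
    ∃ Z, Z ≤ U ∧ Y ≤ 𝐍(Z) ∧ U ⊓ 𝐂(Z) ≤ Z ∧ ∀ D ∈ 𝒟, core {p}ᶜ D ⊔ D ⊓ 𝐍(Z) = D := by
  obtain ⟨Z, -, ⟨h1, h2, h3⟩, hmax⟩ := Finite.exists_le_maximal (p := fun Z : Subgroup G => Z ≤ U ∧
    Y ≤ 𝐍(Z) ∧ ∀ D ∈ 𝒟, core {p}ᶜ D ⊔ D ⊓ 𝐍(Z) = D) (a := ⊥)
    ⟨bot_le, (Nrm.bot ⊤).norm.trans' le_top, fun D _ => by
      rw [inf_eq_left.2 (Nrm.bot D).norm, sup_eq_right.2 (core_le _ _)]⟩
  refine ⟨Z, h1, h2, ?_, h3⟩
  by_contra hn
  set C := U ⊓ 𝐂(Z) with hC
  have pC : IsPGroup p C := isPGroup_of_le hU inf_le_left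
  have hYC : ∀ X, X ≤ 𝐍(Z) → X ≤ 𝐍(C) → X ≤ 𝐍(C ⊓ Z) ⊓ 𝐍(C) := fun X a b =>
    le_inf (le_normalizer_inf b a) b
  obtain ⟨Z', h4, h5, h6, h7⟩ := quot_puig (Z := C ⊓ Z) (odd_of_isPGroup hp2 pC) (isSylowIn_self pC)
    (lt_of_le_of_ne inf_le_left fun e => hn (e ▸ inf_le_right))
    (inf_le_right.trans (cent_anti inf_le_right))
  have h8 := hmax (y := Z ⊔ Z') ⟨sup_le h1 (h5.trans inf_le_left), le_normalizer_sup h2
    ((hYC Y h2 (le_normalizer_inf hY (h2.trans (normalizer_le_normalizer_centralizer _)))).trans h6),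
    fun D hD => ?_⟩ le_sup_left
  · exact h4.not_ge (le_inf h5 (le_sup_right.trans h8))
  obtain ⟨ho, hS⟩ := h𝒟 D hD
  have hCn : D ⊓ 𝐂(Z) ⊴ D ⊓ 𝐍(Z) := ⟨inf_le_inf_left _ (centralizer_le_normalizer' _),
    le_normalizer_inf (inf_le_left.trans le_normalizer)
      (inf_le_right.trans (normalizer_le_normalizer_centralizer _))⟩
  have h9 := isSylowIn_inf_nrm (hS.of_le (le_inf hS.le (hUY.trans h2)) inf_le_left) hCn
  rw [← inf_assoc, inf_eq_left.2 hS.le, ← hC] at h9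
  refine le_antisymm (sup_le (core_le _ _) inf_le_left) ((h3 D hD).ge.trans (sup_le le_sup_left ?_))
  refine (Frattini_arg hCn h9).ge.trans (sup_le ((h7 _ (odd_of_le ho inf_le_left) h9
    (inf_le_right.trans (cent_anti inf_le_right))).trans (sup_le (le_sup_of_le_left ?_)
      (le_sup_of_le_right ?_))) (le_sup_of_le_right ?_))
  · exact (core_le_core_of_nrm _ hCn).trans (core_le_of_fact (h3 D hD))
  · exact le_inf (inf_le_left.trans inf_le_left) (le_normalizer_sup ((inf_le_left.trans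
      inf_le_right).trans (centralizer_le_normalizer' _)) inf_le_right)
  · exact le_inf (inf_le_left.trans inf_le_left) (le_normalizer_sup (inf_le_left.trans inf_le_right)
      ((hYC _ (inf_le_left.trans inf_le_right) inf_le_right).trans h6))

namespace GH

variable (h : GH G Ω) (ny : NY G Ω)
include h ny

theorem fin (hp2 : p ≠ 2) {U Z A : Subgroup G} {t : G} (ht : Iv t) {a c : Ω} (hc : t • c = c)
    (hac : a ≠ c) (hS : IsSylowIn p U (Dd G a c)) (hO : core {p} (Dd G a c) = ⊥) (hZU : Z ≤ U)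
    (hAZ : A ≤ Z) (hUA : U ≤ 𝐍(A)) (htA : t ∈ 𝐍(A)) (htZ : t ∈ 𝐍(Z))
    (hA : ∀ k ∈ Z, t * k * t = k⁻¹ → k ∈ A) (hZ : ¬ Z ≤ 𝐂[t])
    (hF : core {p}ᶜ (Dd G a c) ⊔ Dd G a c ⊓ 𝐍(Z) = Dd G a c)
    (hM : ⁅core {p}ᶜ (Dd G a (t • a)), A⁆ = ⁅core {p}ᶜ (Dd G a c), A⁆)
    (hAD : A ≤ Dd G a (t • a)) : core {p}ᶜ (Dd G a (t • a)) ≤ stabilizer G c := by
  by_contra hn
  set D := Dd G a c with hD
  have hDo : Odd (Nat.card D) := h.toSE.odd_Dd hac
  set O := core {p}ᶜ D with hOd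
  have hOn : O ⊴ D := core_nrm _ _
  set M := ⁅O, A⁆ with hMd
  have hAD' : A ≤ D := (hAZ.trans hZU).trans hS.le
  have hMO : M ⊴ O := ⟨commutator_le_left_iff.2 (hAD'.trans hOn.norm),
    normalizer_commutator_ge_left _ _⟩
  set ρ := fit M with hρ
  have hρO : ρ ⊴ O := (fit_chr M).nrm_trans hMO
  have hρD : ρ ≤ D := hρO.le.trans hOn.le
  have hρo := odd_of_le hDo hρD
  have htρ : t ∈ 𝐍(ρ) := by
    refine le_norm_fit (zpowers_le.2 ?_) (mem_zpowers t)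
    rw [← hM]
    exact mem_norm_comm (mem_norm_core _ (swap_norm rfl (smul_back ht.sq rfl))) htA
  have hUρ : U ≤ 𝐍(ρ) := le_norm_fit (le_normalizer_commutator (hS.le.trans hOn.norm) hUA)
  obtain ⟨e, he, hte, hce⟩ := h.exists_comm ht
  have hec := h.toSE.fix_of_comm ht hc hce.symm
  obtain ⟨d, hd, rfl⟩ := h.toSE.exists_conj_D ht he hc hec hac.symm
  obtain ⟨o, ho, n, hn', rfl⟩ := (mem_sup_of_right_le_normalizer (inf_le_left.trans hOn.norm)).1
    (hF.ge (show d ∈ D from ⟨hd.2, hd.1⟩))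
  set e := o * n * t * (o * n)⁻¹ with hed
  have hnO := mem_normalizer_iff_conj_smul_eq.1 (hOn.norm hn'.1)
  have hρn : MulAut.conj n • ρ ⊴ O := hnO ▸ hρO.conj_smul n
  have heρ : e ∈ 𝐍(MulAut.conj n • ρ) := by
    rw [← mem_normalizer_iff_conj_smul_eq.1 (hρn.norm ho), conj_smul_conj_smul, normalizer_conj_smul]
    exact conj_mem_conj_smul _ htρ
  have hX : ρ ⊓ MulAut.conj n • ρ ≤ 𝐂[t] := by
    by_contra h1
    have h2 : MulAut.conj e • (ρ ⊓ MulAut.conj n • ρ) ≤ 𝐍(ρ) := by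
      refine le_trans ?_ (hρn.le.trans hρO.norm)
      nth_rw 2 [← mem_normalizer_iff_conj_smul_eq.1 heρ]
      exact conj_smul_le_iff.2 inf_le_right
    have h3 : MulAut.conj t • (ρ ⊓ MulAut.conj n • ρ) ≤ ρ := by
      nth_rw 3 [← mem_normalizer_iff_conj_smul_eq.1 htρ]
      exact conj_smul_le_iff.2 inf_le_left
    have hEo : Odd (Nat.card ↥(ρ ⊔ MulAut.conj e • ρ ⊓ 𝐍(ρ))) :=
      odd_sup hρo (odd_of_le (by rwa [card_conj_smul]) inf_le_left) inf_le_right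
    obtain ⟨y, hy, h4, h5, w, h6, h7⟩ := special_clos hEo ht he hte hce (le_sup_of_le_left inf_le_left)
      (le_sup_of_le_left h3) (le_sup_of_le_right (le_inf (conj_smul_le_iff.2 inf_le_left) h2))
      (le_sup_of_le_right (le_inf (by
        rw [hce, ← conj_smul_conj_smul]; exact conj_smul_le_iff.2 h3) (by
        rw [← conj_smul_conj_smul, ← FT.conj_smul_eq_self_of_mem htρ]
        exact conj_smul_le_iff.2 h2))) h1
    have hyc : y • c = c := (sup_le (hρD.trans inf_le_right) (inf_le_left.trans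
      (hec ▸ conj_le_stab (hρD.trans inf_le_right) e)) : _ ≤ stabilizer G c) hy
    obtain ⟨b, h8, h9⟩ := h.lemA' (h.norm_ne_top (fun e => h1 (by rw [e, bot_inf_eq]; exact bot_le))
      (h.ne_top (hρD.trans inf_le_left))) htρ ht hc (fun e => hn (le_trans (le_norm_fit (by
        rw [← hM]; exact normalizer_commutator_ge_left _ _)) e))
      (sup_le le_normalizer inf_le_right hy) hyc (odd_mem hEo hy) h5
    exact h.ns ny ht hc (odd_mem hEo hy) h4 h5 hyc h9 h8 h6 h7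
  obtain ⟨k, hk, hk1, hki⟩ := exists_inverted ht.sq htZ hZ
  have hkD := hS.le (hZU hk)
  set k' := n * k * n⁻¹ with hk'
  have hk'Z : k' ∈ Z := conj_mem_of_mem_normalizer hn'.2 hk
  have hk'ρ := hUρ (hZU hk'Z)
  set X := ⁅ρ, zpowers k'⁆ with hXd
  have hXρ : X ≤ ρ := commutator_le_left_iff.2 (zpowers_le.2 hk'ρ)
  have hXt : X ≤ 𝐂[t] := le_trans (le_inf hXρ (by
    rw [hρ, ← fit_conj, ← fit_inf_of_nrm (hnO ▸ hMO.conj_smul n : MulAut.conj n • M ⊴ O)]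
    refine le_inf (hXρ.trans (fit_le_fit_of_nrm hMO)) ?_
    rw [hMd, conj_smul_commutator, hnO]
    exact commutator_mono hρO.le (zpowers_le.2 (conj_mem_conj_smul n (hA k hk hki))))) hX
  set w := k'⁻¹ * (t * k' * t) with hw
  have hwZ : w ∈ Z := mul_mem (inv_mem hk'Z) (conj_mem_sq ht.sq htZ hk'Z)
  have hwA : w ∈ A := hA w hwZ (inv_comm_sq ht.sq k')
  have pw : IsPGroup p (zpowers w) := isPGroup_of_le hS.isPGroup (zpowers_le.2 (hZU hwZ))
  have hcop : ∀ Y : Subgroup G, Y ≤ O → (Nat.card Y).Coprime (Nat.card (zpowers w)) := fun Y hY =>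
    (((piGrp_core _ _).of_le hY).coprime_of_isPGroup pw).symm
  have hwρ : zpowers w ≤ 𝐂(ρ) := by
    refine stable_factor_cent (zpowers_le.2 fun r hr => ?_) hXρ
      (comm_le_of_stabMod (zpowers_le.2 (mul_mem (inv_mem ?_) ?_))) (hcop ρ hρO.le)
    · have h1 := (mem_cent1_sq ht.sq).1 (hXt (conj_mem_of_mem_normalizer
        (normalizer_commutator_ge_right _ _ (mem_zpowers k')) hr))
      have h2 := (mem_cent1_sq ht.sq).1 (hXt hr)
      rw [conj_mul_sq ht.sq, conj_mul_sq ht.sq, conj_inv_sq ht.sq, h2, mul_inv_eq_iff_eq_mul] at h1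
      rw [hw, mul_assoc k'⁻¹, h1]
      group
    · exact ⟨hk'ρ, fun r hr => commutator_mem_commutator hr (mem_zpowers k')⟩
    · refine ⟨mul_mem (mul_mem htρ hk'ρ) htρ, fun r hr => ?_⟩
      have h1 := commutator_mem_commutator (conj_mem_sq ht.sq htρ hr) (mem_zpowers k')
      have h2 := (mem_cent1_sq ht.sq).1 (hXt h1)
      have e : ⁅r, t * k' * t⁆ = t * ⁅t * r * t, k'⁆ * t := by
        simp only [commutatorElement_def, conj_mul_sq ht.sq, conj_inv_sq ht.sq]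
        rw [show t * t * t * (t * r * t) * (t * t * t) = r by
          simp only [← mul_assoc, ht.sq, one_mul, cancel_sq' ht.sq]]
      rwa [e, h2]
  have hFO := fit_le_compl hO
  have hwD := hAD' hwA
  have h1 : zpowers w ≤ 𝐂(fit D) := coprime_commGG1P (zpowers_le.2 ((fit_nrm D).norm hwD))
    (hcop _ hFO) (by
      rw [FT.commutator_eq_bot_iff]
      refine hwρ.trans (cent_anti (le_trans (le_inf (commutator_mono hFO (zpowers_le.2 hwA))
        (commutator_le_left_iff.2 (zpowers_le.2 ((fit_nrm D).norm hwD))))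
        (inf_fit_le (hMO.le.trans hOn.le)))))
  have h2 : w = 1 := eq_one_of_mem_of_coprime (hcop O le_rfl)
    (hFO (cent_sub_Fitting (sol_of_odd hDo) ⟨hwD, h1 (mem_zpowers w)⟩)) (mem_zpowers w)
  rw [hw, inv_mul_eq_one, eq_comm, ← mem_cent1_sq ht.sq, mem_cent1] at h2
  refine h.ns ny ht hc (odd_mem hDo hkD) hk1 hki hkD.2 hkD.1 hac (ht.conj n⁻¹) ?_
  rw [← mul_left_inj n⁻¹, ← mul_right_inj n]
  convert h2 using 1 <;> rw [hk'] <;> group

theorem scalar (hp2 : p ≠ 2) {U : Subgroup G} {t : G} (ht : Iv t) {c : Ω} (hc : t • c = c)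
    (hUc : U ≤ stabilizer G c) (hn : t ∈ 𝐍(U)) (hnt : ¬ U ≤ 𝐂[t]) {g : G}
    (hg : g ∈ 𝐍(⁅U, zpowers t⁆) ⊓ 𝐍(U)) (hgc : g • c ≠ c) (hS : IsSylowIn p U (Dd G (g • c) c)) :
    False := by
  set W := ⁅U, zpowers t⁆ with hW
  set Y := 𝐍(W) ⊓ 𝐍(U) with hY
  have hU := hS.isPGroup
  have hUo := odd_of_isPGroup hp2 hU
  have htY : t ∈ Y := ⟨normalizer_commutator_ge_right _ _ (mem_zpowers t), hn⟩
  have hUY : U ≤ Y := le_inf (normalizer_commutator_ge_left _ _) le_normalizer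
  have hτ : ∀ τ ∈ Y, Iv τ → ∀ x, τ • x = x → U ≤ stabilizer G x ∧ ⁅U, zpowers τ⁆ = W ∧
      ¬ U ≤ 𝐂[τ] := fun τ hτ h1 x hx => by
    obtain ⟨n, hn', rfl⟩ := h.toSE.conj_in ht h1 htY hτ hc hg hgc
    rw [h.un _ h1 x _ hx (conj_fix hc n)]
    have e := mem_normalizer_iff_conj_smul_eq.1 hn'.2
    refine ⟨le_stab_of_norm hUc hn'.2, ?_, fun h2 => hnt ?_⟩
    · rw [← mem_normalizer_iff_conj_smul_eq.1 hn'.1, hW, conj_smul_commutator, e, zpowers_conj_smul]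
    · rwa [← e, cent1_conj_smul, conj_smul_le_iff] at h2
  let P : Ω → Ω → Prop := fun x y => x ≠ y ∧ IsSylowIn p U (Dd G x y) ∧
    (∃ τ ∈ Y, Iv τ ∧ τ • x = x) ∧ ∃ τ ∈ Y, Iv τ ∧ τ • y = y
  obtain ⟨Z, hZU, hYZ, hZc, hZF⟩ := exists_Zm hp2 hU hUY inf_le_right {D | ∃ x y, P x y ∧ D = Dd G x y}
    (by rintro _ ⟨x, y, h1, rfl⟩; exact ⟨h.toSE.odd_Dd h1.1, h1.2.1⟩)
  set A := W ⊓ Z with hA
  have hYA : Y ≤ 𝐍(A) := le_normalizer_inf inf_le_left hYZ
  have hAU : A ≤ U := inf_le_right.trans hZU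
  let M : Ω × Ω → Subgroup G := fun q => ⁅core {p}ᶜ (Dd G q.1 q.2), A⁆
  have step : ∀ x y, P x y → ∃ τ ∈ Y, ∃ c', Iv τ ∧ τ • x = y ∧ τ • c' = c' ∧ x ≠ c' ∧ P x c' ∧
      M (x, y) ≤ M (x, c') := by
    rintro x y ⟨hxy, h1, ⟨u, huY, hu, hux⟩, v, hvY, hv, hvy⟩
    obtain ⟨τ, h2, -, rfl, h3⟩ := h.toSE.exists_mid hu hv hux hvy hxy
    have h4 := h3 Y huY hvY
    obtain ⟨c', hc'⟩ := h.ex τ h2
    have hx : x ≠ c' := by rintro rfl; exact hxy hc'.symm
    obtain ⟨h5, h6, -⟩ := hτ τ h4 h2 c' hc'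
    have h7 := h.toSE.step h2 hc' h5 hx h1
    have hP : P x c' := ⟨hx, h7, ⟨u, huY, hu, hux⟩, τ, h4, h2, hc'⟩
    refine ⟨τ, h4, c', h2, rfl, hc', hx, hP, ?_⟩
    have h8 := h.toSE.comm_W hU h2 hc' h4.2 h5 hx h1.le
    have hAn := (hAU.trans h1.le).trans (core_nrm {p}ᶜ _).norm
    have h9 : M (x, τ • x) ≤ core {p}ᶜ (Dd G x (τ • x)) := commutator_le_left_iff.2 hAn
    have h10 : M (x, τ • x) ≤ Dd G x c' := le_inf ((h9.trans (core_le _ _)).trans inf_le_left)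
      ((commutator_mono le_rfl (inf_le_left.trans h6.ge)).trans h8)
    have e : ⁅M (x, τ • x), A⁆ = M (x, τ • x) :=
      coprime_commGid hAn ((piGrp_core _ _).coprime_of_isPGroup (isPGroup_of_le hU hAU)).symm
    have hZn := (hZU.trans h7.le).trans (core_nrm {p}ᶜ _).norm
    rw [← e]
    refine commutator_mono (le_of_sup_pg (isPGroup_of_le hU hZU) hZn ?_ ((piGrp_core _ _).of_le h9))
      le_rfl
    rw [← e]
    refine (commutator_mono h10 (inf_le_right.trans le_sup_right)).trans (commutator_le_right_iff.2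
      ((hZF _ ⟨x, c', hP, rfl⟩).ge.trans (sup_le (le_sup_left.trans le_normalizer) ?_)))
    exact le_normalizer_sup (inf_le_left.trans (core_nrm _ _).norm) inf_le_right
  have : Finite Ω := Finite.of_surjective (fun g : G => g • c) fun y => h.tr c y
  refine h.cyc ny (isPGroup_of_le hU (center_Puig_char U).le)
    (fun e => hnt (trivg_center_Puig_pgroup hU e ▸ bot_le))
    (fun x y => MaximalFor (· ∈ {q : Ω × Ω | P q.1 q.2}) M (x, y)) ?_ ?_
  · obtain ⟨⟨x, y⟩, H⟩ := Set.Finite.exists_maximalFor M {q : Ω × Ω | P q.1 q.2} (Set.toFinite _)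
      ⟨(g • c, c), hgc, hS, ⟨_, mul_mem (mul_mem hg htY) (inv_mem hg), ht.conj g, conj_fix hc g⟩,
        t, htY, ht, hc⟩
    exact ⟨x, y, H⟩
  rintro x y ⟨hP, hmax⟩
  obtain ⟨τ, h1, c', h2, rfl, h3, h4, h5, h6⟩ := step x y hP
  have hD := h.toSE.odd_Dd hP.1
  have hS' : IsSylowIn p U (Dd G x (τ • x)) := hP.2.1
  have e := le_antisymm h6 (hmax (j := (x, c')) h5 h6)
  obtain ⟨h7, h8, h9⟩ := hτ τ h1 h2 c' h3
  obtain ⟨u, huY, hu, hux⟩ := h5.2.2.1
  refine ⟨hP.1, (center_Puig_char U).le.trans hS'.le, Puig_factorisation hD (sol_of_odd hD) hS', τ,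
    (center_Puig_char U).norm_le h1.2, c', h2, rfl, h3, ⟨h5, fun j hj h10 => e ▸ hmax hj (e ▸ h10)⟩,
    (commutator_le_left_iff.2 (((center_Puig_char U).le.trans hS'.le).trans
      (core_nrm _ _).norm)).trans ?_⟩
  refine h.fin ny hp2 h2 h3 h4 h5.2.1 (h.op ny hu hux huY.2 h4 h5.2.1) hZU inf_le_right
    (hUY.trans hYA) (hYA h1) (hYZ h1) (fun k hk hi => ⟨h8 ▸ mem_W hUo h2.sq (hZU hk) hi, hk⟩)
    (fun h10 => h9 ?_) (hZF _ ⟨x, c', h5, rfl⟩) e (hAU.trans hS'.le)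
  rw [← cent_zpowers] at h10 ⊢
  exact le_centralizer_comm.1 (coprime_nil_faithful_cent_stab (zpowers_le.2 h1.2) (coprime_iv h2 hUo)
    (isNilpotent_of_isPGroup hU) (((inf_le_inf_left _ (cent_anti (le_inf hZU h10))).trans hZc).trans h10))

omit hp in
theorem nb_of_ny : NB G Ω := by
  intro t y c a ht hc ho hi hyc hya hac
  by_contra hy
  obtain ⟨p, hp, hp2, z, hz, hz1, pz⟩ := exists_prime_pow hy ho
  have := Fact.mk hp
  obtain ⟨U, T, -⟩ := h.exists_tm hp2 ht hc pz hz1 (inverts_zpowers ht.sq hi hz)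
    (zpowers_le.2 (show y ∈ stabilizer G c from hyc) hz)
    (zpowers_le.2 (show y ∈ stabilizer G a from hya) hz) hac
  obtain ⟨b, hb, hS⟩ := T.sylow h hp2 ny
  set W := ⁅U, zpowers t⁆ with hW
  have hWU : W ≤ U := commutator_le_left_iff.2 (zpowers_le.2 T.nm)
  have hUo := odd_of_isPGroup hp2 T.pg
  by_cases hC : 𝐂(W) ≤ stabilizer G c
  · refine h.cycS ny ht hc T.le T.nm (fun e => T.nt (e ▸ bot_le)) hb hS fun x hx hS => ?_
    have hD := h.toSE.odd_Dd (h.toSE.smul_ne ht hc hx.symm)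
    rw [← coprime_cent_prod ((hWU.trans hS.le).trans (core_nrm {p}ᶜ _).norm)
      ((piGrp_core _ _).coprime_of_isPGroup (isPGroup_of_le T.pg hWU)).symm
      (sol_of_odd (odd_of_le hD (core_le _ _)))]
    exact sup_le (h.toSE.comm_W T.pg ht hc T.nm T.le hx hS.le) (inf_le_right.trans hC)
  obtain ⟨g, hg, hgc⟩ := SetLike.not_le_iff_exists.1 hC
  have hgW := centralizer_le_normalizer' _ hg
  have htW : t ∈ 𝐍(W) := normalizer_commutator_ge_right _ _ (mem_zpowers t)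
  have hne := h.toSE.smul_ne ht hc (Ne.symm hgc)
  have h1 := le_stab_of_norm (hWU.trans T.le) hgW
  obtain ⟨V, hV, htV, hWV⟩ := inv_sylow (h.toSE.odd_Dd hne) ht (swap_norm rfl (smul_back ht.sq rfl))
    (isPGroup_of_le T.pg hWU) (le_inf h1 (le_stab_of_norm h1 htW)) htW
  have hVo := odd_of_isPGroup hp2 hV.isPGroup
  have hcard : ∀ {x : Ω} {P : Subgroup G}, x ≠ c → IsSylowIn p P (Dd G x (t • x)) → t ∈ 𝐍(P) →
      {s | ConjIn P t s}.ncard = p ^ (Ts G c c).ncard.factorization p := fun {x P} hx hP htP => by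
    have hne := h.toSE.smul_ne ht hc hx.symm
    have hD := h.toSE.odd_Dd hne
    have h2 := isHall_singleton_iff.1 (coprime_Hall_inf_cent
      (zpowers_le.2 (swap_norm rfl (smul_back ht.sq rfl))) (coprime_iv ht hD) (sol_of_odd hD)
      (isHall_singleton_iff.2 hP) (zpowers_le.2 htP))
    rw [cent_zpowers] at h2
    rw [ncard_conjIn, relIndex_sylow hP h2, h.toSE.relIndex_T' ht rfl hne, h.toSE.ncard_I x c]
  have hinv : ∀ u ∈ U, u * t * u⁻¹ * t ∈ W := fun u hu => by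
    rw [show u * t * u⁻¹ * t = ⁅u, t⁆ by rw [commutatorElement_def, ht.inv]]
    exact commutator_mem_commutator hu (mem_zpowers t)
  have heq : {s | ConjIn U t s} = {s | ConjIn V t s} := by
    refine Set.eq_of_subset_of_ncard_le ?_ (by rw [hcard hb hS T.nm, hcard hgc hV htV])
      (Set.toFinite _)
    rintro _ ⟨u, hu, rfl⟩
    have := conjIn_of_inv ht.sq (odd_mem hUo (hWU (hinv u hu))) (by
      simp only [mul_inv_rev, ht.inv, inv_inv, mul_assoc, ht.sq, mul_one]) (hWV (hinv u hu))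
    rwa [cancel_sq' ht.sq] at this
  have hk : ∀ k ∈ V, t * k * t = k⁻¹ → k ∈ W := fun k hk hi => by
    obtain ⟨u, hu, e⟩ : k * t ∈ {s | ConjIn U t s} := heq ▸ conjIn_of_inv ht.sq (odd_mem hVo hk) hi hk
    rw [← cancel_sq' ht.sq k, e]
    exact hinv u hu
  have hWW : ⁅V, zpowers t⁆ = W := le_antisymm (W_le ht.sq htV hk)
    (W_le ht.sq T.nm fun k hk hi => mem_W hVo ht.sq (hWV (mem_W hUo ht.sq hk hi)) hi)
  have hVc : V ≤ stabilizer G c := fun x hx => by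
    obtain ⟨d, -, k, h2, h3, h4, rfl⟩ := exists_cent_inv hVo ht.sq htV hx
    exact mul_mem (h.toSE.cent_le ht hc h3) (T.le (hWU (hk k h2 h4)))
  have h2 := h.toSE.step ht hc hVc hgc hV
  obtain ⟨τ, h3, -, h4, h5⟩ := h.toSE.exists_mid (ht.conj g) ht (conj_fix hc g) hc hgc
  have h6 := h5 _ (mul_mem (mul_mem hgW htW) (inv_mem hgW)) htW
  obtain ⟨n, hn, h7⟩ := (h2.of_le (le_inf (hWW ▸ normalizer_commutator_ge_left _ _) h2.le)
    inf_le_right : IsSylowIn p V (𝐍(W) ⊓ Dd G (g • c) c)).frattini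
    (mem_norm_inf (le_normalizer h6) (swap_norm h4 (smul_back h3.sq h4)))
  have h8 : (n⁻¹ * τ)⁻¹ • c = g • c := by
    rw [inv_smul_eq_iff, mul_smul, h4, eq_inv_smul_iff]; exact hn.2.2
  obtain ⟨y0, hy0, hy1, hyi⟩ := exists_inverted ht.sq T.nm T.nt
  exact h.scalar ny hp2 ht hc hVc htV (fun e => hy1 (eq_one_of_inv_cent ht.sq (odd_mem hUo hy0) hyi
    (e (hWV (mem_W hUo ht.sq hy0 hyi))))) (g := (n⁻¹ * τ)⁻¹)
    (inv_mem (mem_inf.2 ⟨hWW ▸ mul_mem (inv_mem (mem_inf.1 hn).1) h6, h7⟩)) (h8 ▸ hgc) (h8 ▸ h2)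

end GH

end Cfsg.Agent.Bender
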