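import Cfsg.Agent.Bender.G1
import Cfsg.Agent.Bender.T2
import Cfsg.Agent.M11.Core1
import Cfsg.Agent.Pres.SylowSub
import Cfsg.Agent.Char.PermTools

/-! The rank one case: group theory. -/

set_option autoImplicit false
set_option linter.unusedSectionVars false

namespace Cfsg.Agent.Bender

open Subgroup MulAction Cfsg.Agent.Local Cfsg.Agent.FT Cfsg.Agent.Suz2T Cfsg.Agent.M11
open scoped Pointwise

variable {G Ω : Type*} [Group G] [Finite G] [MulAction G Ω]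

theorem ncard_fib {Y : Type*} (X : Subgroup G) (f : G → Y) (hf : ∀ x x', f x = f x' ↔ x⁻¹ * x' ∈ X) (p : Y → Prop) :
    {x | p (f x)}.ncard = {c | c ∈ Set.range f ∧ p c}.ncard * Nat.card X :=
  ncard_eq_mul_of_fibers (Set.toFinite _) f (fun x hx => ⟨⟨x, rfl⟩, hx⟩)
    ((Set.finite_range f).subset fun _ h => h.1) fun _ ⟨⟨x, e⟩, h⟩ => by
      rw [← M11.ncard_coe, ← Set.ncard_image_of_injective (X : Set G) (mul_right_injective x)]
      congr 1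
      ext y
      refine ⟨fun hy => ⟨x⁻¹ * y, (hf x y).mp (e.trans hy.2.symm), by simp⟩, ?_⟩
      rintro ⟨u, hu, rfl⟩
      have : f (x * u) = f x := ((hf x (x * u)).mpr (by simpa using hu)).symm
      exact ⟨by rwa [Set.mem_ofPred_eq, this, e], this.trans e⟩

theorem two_orb (X : Subgroup G) [Fintype X] [Finite Ω] {a b : Ω} (hab : a ≠ b) (hX : X ≤ stabilizer G a)
    (h : ∀ c, a ≠ c → ∃ x ∈ X, x • b = c) : ∑ x : X, {c : Ω | (x : G) • c = c}.ncard = 2 * Nat.card X := by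
  rw [← (Nat.card_eq_two_iff (α := orbitRel.Quotient X Ω)).mpr ⟨⟦a⟧, ⟦b⟧, fun e => ?_,
    Set.eq_univ_of_forall (Quotient.ind fun c => ?_)⟩]
  · exact Char.sum_fixedBy_nat X Ω
  · obtain ⟨x, e⟩ := Quotient.exact e.symm
    exact hab ((hX x.2).symm.trans e)
  · by_cases e : a = c
    · exact .inl (by rw [e])
    · obtain ⟨x, hx, e⟩ := h c e
      exact .inr (Quotient.sound ⟨⟨x, hx⟩, e⟩)

/-- The hypotheses of the rank one case. -/
structure St9 (a b : Ω) (A K : Subgroup G) (y t : G) (s : ℕ) : Prop where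
  S : SE G Ω
  hab : a ≠ b
  h2 : ∀ c c' : Ω, a ≠ c → a ≠ c' → ∃ g : G, g • a = a ∧ g • c = c'
  hs : s.Prime
  hs2 : s ≠ 2
  hA : ∀ x, x ∈ A ↔ x * x = 1 ∧ x • a = a
  hcard : Nat.card A = 2 ^ s
  ht : Iv t
  hta : t • a = b
  hK : ∀ k, k ∈ K ↔ k ∈ Dd G a b ∧ t * k * t = k⁻¹
  hKc : IsMulCommutative K
  hK2 : ∀ k ∈ K, k ≠ 1 → ∀ c, k • c = c → c = a ∨ c = b
  hy : orderOf y = s
  hV : Dd G a b ⊓ 𝐂[t] = zpowers y
  hf : K ⊓ 𝐂[y] = ⊥

namespace St9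

variable {a b : Ω} {A K : Subgroup G} {y t : G} {s : ℕ} (h : St9 a b A K y t s)
include h

theorem fin : Finite Ω := Finite.of_surjective (fun g : G => g • a) (h.S.tr a)

theorem three : 3 ≤ s := by
  have := h.hs.two_le
  have := h.hs2
  omega

theorem seven : 7 ≤ 2 ^ s - 1 := by
  have := Nat.pow_le_pow_right (n := 2) (by decide) h.three
  omega

theorem memI {u : G} : u ∈ Ts G a a ↔ u ∈ A ∧ u ≠ 1 :=
  ⟨fun e => ⟨(h.hA u).mpr ⟨e.1.sq, e.2⟩, e.1.ne⟩, fun e => ⟨⟨((h.hA u).mp e.1).1, e.2⟩, ((h.hA u).mp e.1).2⟩⟩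

theorem ncI (c c' : Ω) : (Ts G c c').ncard = 2 ^ s - 1 := by
  have h1 : (Ts G a a).ncard = 2 ^ s - 1 := by
    rw [show Ts G a a = (A : Set G) \ {1} from Set.ext fun _ => h.memI, Set.ncard_sdiff_singleton_of_mem A.one_mem,
      M11.ncard_coe, h.hcard]
  by_cases e : c = c'
  · rw [e, h.S.ncard_I c' a, h1]
  · rw [h.S.ncard_T e, h.S.ncard_I c' a, h1]

theorem commI {u v : G} (hu : u ∈ Ts G a a) (hv : v ∈ Ts G a a) : u * v = v * u :=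
  EA2.comm (fun x hx => ((h.hA x).mp hx).1) (h.memI.mp hu).1 (h.memI.mp hv).1

theorem tb : t • b = a := smul_back h.ht.sq h.hta

theorem KD {k : G} (hk : k ∈ K) : k • a = a ∧ k • b = b := mem_Dd.mp ((h.hK k).mp hk).1

theorem commK {k l : G} (hk : k ∈ K) (hl : l ∈ K) : k * l = l * k :=
  congrArg Subtype.val (h.hKc.is_comm.comm ⟨k, hk⟩ ⟨l, hl⟩)

theorem decomp {d : G} (hd : d ∈ Dd G a b) : ∃ c ∈ zpowers y, ∃ k ∈ K, d = c * k := by
  obtain ⟨c, h1, k, h2, h3, h4, e⟩ := exists_cent_inv (h.S.odd_Dd h.hab) h.ht.sq (swap_norm h.hta h.tb) hd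
  exact ⟨c, h.hV ▸ ⟨h1, h3⟩, k, (h.hK k).mpr ⟨h2, h4⟩, e⟩

theorem memV {c : G} (hc : c ∈ zpowers y) : c ∈ Dd G a b ∧ c * t = t * c :=
  have := h.hV.ge hc
  ⟨this.1, mem_centralizer_singleton_iff.mp this.2⟩

theorem cardK : Nat.card K = 2 ^ s - 1 := by
  rw [← h.ncI a b, ← M11.ncard_coe, ← Set.ncard_image_of_injective _ (mul_right_injective t)]
  congr 1
  ext u
  refine ⟨?_, fun hu => ⟨t * u, (h.hK _).mpr ⟨mem_Dd.mpr ⟨by rw [mul_smul, hu.2, h.tb], by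
    rw [mul_smul, smul_back hu.1.sq hu.2, h.hta]⟩, by
      rw [← mul_assoc, h.ht.sq, one_mul, mul_inv_rev, hu.1.inv, h.ht.inv]⟩, by
    simp only [← mul_assoc, h.ht.sq, one_mul]⟩⟩
  rintro ⟨k, hk, rfl⟩
  have h1 : (t * k) • a = b := by rw [mul_smul, (h.KD hk).1, h.hta]
  exact ⟨⟨by rw [← mul_assoc, ((h.hK k).mp hk).2, inv_mul_cancel], fun e : t * k = 1 => h.hab (by rw [← h1, e, one_smul])⟩, h1⟩

theorem cardY {z : G} (hz : z ∈ Ts G a a) : Nat.card ↥(𝐂[z] ⊓ Dd G a b) = s := by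
  have h1 := card_inf_mul_relIndex 𝐂[t] (Dd G a b)
  have h2 := card_inf_mul_relIndex 𝐂[z] (Dd G a b)
  rw [inf_comm, h.hV, Nat.card_zpowers, h.hy, h.S.relIndex_T' h.ht h.hta h.hab, ← h2,
    h.S.relIndex_I hz.1 hz.2 h.hab, h.ncI] at h1
  exact (Nat.eq_of_mul_eq_mul_right (by have := h.seven; omega) h1).symm

theorem semiK {k w : G} (hk : k ∈ K) (hw : w ∈ Ts G a a) (e : w * k = k * w) : k = 1 :=
  h.S.K_cent h.ht h.hab h.hta (h.KD hk).1 (h.KD hk).2 ((h.hK k).mp hk).2 hw.1 hw.2 e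

theorem conjI {g w : G} (hg : g • a = a) (hw : w ∈ Ts G a a) : g * w * g⁻¹ ∈ Ts G a a :=
  ⟨hw.1.conj g, hg ▸ conj_fix hw.2 g⟩

theorem transK {z w : G} (hz : z ∈ Ts G a a) (hw : w ∈ Ts G a a) : ∃ k ∈ K, k * z * k⁻¹ = w := by
  refine (Set.eq_of_subset_of_ncard_le (s := (fun k => k * z * k⁻¹) '' K) ?_ ?_).ge hw
  · rintro _ ⟨k, hk, rfl⟩
    exact h.conjI (h.KD hk).1 hz
  rw [Set.InjOn.ncard_image fun k hk l hl e => ?_, M11.ncard_coe, h.cardK, h.ncI]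
  refine (inv_mul_eq_one.mp (h.semiK (mul_mem (inv_mem hl) hk) hz ?_)).symm
  rw [show z * (l⁻¹ * k) = l⁻¹ * (l * z * l⁻¹) * k by group, ← show k * z * k⁻¹ = l * z * l⁻¹ from e]
  group

theorem normK {d k : G} (hd : d ∈ Dd G a b) (hk : k ∈ K) : d * k * d⁻¹ ∈ K := by
  obtain ⟨c, hc, l, hl, rfl⟩ := h.decomp hd
  have h1 := h.memV hc
  rw [show c * l * k * (c * l)⁻¹ = c * k * c⁻¹ by rw [mul_assoc c, h.commK hl hk]; group]
  refine (h.hK _).mpr ⟨mul_mem (mul_mem h1.1 ((h.hK k).mp hk).1) (inv_mem h1.1), ?_⟩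
  rw [conj_inv.symm.symm, ← ((h.hK k).mp hk).2, ← mul_assoc, ← mul_assoc, ← h1.2, mul_assoc _ c⁻¹,
    (Commute.inv_left h1.2).eq]
  group

theorem fpfV {c k : G} (hc : c ∈ zpowers y) (h1 : c ≠ 1) (hk : k ∈ K) (e : c * k = k * c) : k = 1 := by
  have : Fact s.Prime := ⟨h.hs⟩
  have h2 : orderOf c = s := ((Nat.dvd_prime h.hs).mp (h.hy ▸ orderOf_dvd_of_mem_zpowers hc)).resolve_left
    fun e => h1 (orderOf_eq_one_iff.mp e)
  have h3 : zpowers c = zpowers y := eq_of_le_of_card_ge (zpowers_le.mpr hc) (by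
    rw [Nat.card_zpowers, Nat.card_zpowers, h2, h.hy])
  obtain ⟨n, e'⟩ := h3.ge (mem_zpowers y)
  exact h.hf.le ⟨hk, mem_centralizer_singleton_iff.mpr (e' ▸ (Commute.zpow_left e n).symm)⟩

theorem fixA {d w w' : G} (hd : d ∈ Dd G a b) (h1 : d ≠ 1) (hw : w ∈ Ts G a a) (hw' : w' ∈ Ts G a a)
    (e : d * w = w * d) (e' : d * w' = w' * d) : w = w' := by
  obtain ⟨k, hk, rfl⟩ := h.transK hw hw'
  have h2 := h.semiK (mul_mem (inv_mem hk) (h.normK hd hk)) hw (by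
    rw [show w * (k⁻¹ * (d * k * d⁻¹)) = k⁻¹ * (k * w * k⁻¹ * d) * k * d⁻¹ by group, ← e',
      show k⁻¹ * (d * (k * w * k⁻¹)) * k * d⁻¹ = k⁻¹ * (d * k * d⁻¹) * (d * w) * d⁻¹ by group, e]
    group)
  obtain ⟨c, hc, l, hl, rfl⟩ := h.decomp hd
  have h3 : c ≠ 1 := fun e'' => h1 (by
    rw [e'', one_mul] at e ⊢
    exact h.semiK hl hw e.symm)
  rw [h.fpfV hc h3 hk (by
    rw [inv_mul_eq_one, eq_mul_inv_iff_mul_eq, mul_assoc, h.commK hl hk, ← mul_assoc, ← mul_assoc] at h2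
    exact (mul_right_cancel h2).symm), one_mul, inv_one, mul_one]

theorem fixB {c : Ω} (hc : a ≠ c) {d w w' : G} (hd : d ∈ Dd G a c) (h1 : d ≠ 1) (hw : w ∈ Ts G c c)
    (hw' : w' ∈ Ts G c c) (e : d * w = w * d) (e' : d * w' = w' * d) : w = w' := by
  obtain ⟨x, h2, h3⟩ := h.h2 c b hc h.hab
  have h4 : (t * x) • c = a := by rw [mul_smul, h3, h.tb]
  have h5 : (t * x) • a = b := by rw [mul_smul, h2, h.hta]
  generalize t * x = g at h4 h5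
  simpa using h.fixA (d := g * d * g⁻¹) (mem_Dd.mpr ⟨h4 ▸ conj_fix hd.2 g, h5 ▸ conj_fix hd.1 g⟩) (by simpa using h1)
    ⟨hw.1.conj g, h4 ▸ conj_fix hw.2 g⟩ ⟨hw'.1.conj g, h4 ▸ conj_fix hw'.2 g⟩ (by rw [conj_mul, conj_mul, e])
    (by rw [conj_mul, conj_mul, e'])

variable {z : G} (hz : z ∈ Ts G a a)
include hz

theorem leH : 𝐂[z] ≤ stabilizer G a := h.S.cent_le hz.1 hz.2

theorem transC (c : Ω) (hc : a ≠ c) : ∃ x ∈ 𝐂[z], x • b = c := by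
  obtain ⟨g, h1, h2⟩ := h.h2 b c h.hab hc
  obtain ⟨k, hk, e⟩ := h.transK hz (h.conjI (g := g⁻¹) (inv_smul_eq_iff.mpr h1.symm) hz)
  exact ⟨g * k, mem_centralizer_singleton_iff.mpr (by
    rw [show g * k * z = g * (k * z * k⁻¹) * k by group, e]; group), by rw [mul_smul, (h.KD hk).2, h2]⟩

theorem cardH : Nat.card (stabilizer G a) = Nat.card 𝐂[z] * (2 ^ s - 1) := by
  rw [← card_inf_centralizer_mul _ z, inf_eq_right.mpr (h.leH hz), ← h.ncI a a]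
  congr 2
  refine Set.ext fun w => ⟨fun ⟨r, hr, e⟩ => e ▸ h.conjI hr hz, fun hw => ?_⟩
  obtain ⟨k, hk, e⟩ := h.transK hz hw
  exact ⟨k, (h.KD hk).1, e⟩

theorem cardC : ∃ n, Nat.card Ω = n + 1 ∧ Nat.card 𝐂[z] = s * n := by
  have := h.fin
  refine ⟨({a}ᶜ : Set Ω).ncard, by rw [← Set.ncard_add_ncard_compl {a}, Set.ncard_singleton, add_comm], ?_⟩
  rw [← Pres.card_inf_stabilizer_mul _ b, ← h.cardY hz, Dd, ← inf_assoc, inf_eq_left.mpr (h.leH hz)]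
  congr 2
  refine Set.ext fun c => ⟨fun ⟨x, hx, e⟩ e' => h.hab ?_, fun hc => h.transC hz c (Ne.symm hc)⟩
  exact smul_left_cancel x ((h.leH hz hx).trans (e.trans e').symm)

theorem conj_iff {w : G} : w ∈ Set.range (fun x => x * z * x⁻¹) ↔ Iv w := by
  refine ⟨fun ⟨x, e⟩ => e ▸ hz.1.conj x, fun hw => ?_⟩
  obtain ⟨c, hc⟩ := h.S.ex w hw
  obtain ⟨g, e⟩ := h.S.tr c a
  obtain ⟨k, -, e⟩ := h.transK hz ⟨hw.conj g, e ▸ conj_fix hc g⟩
  exact ⟨g⁻¹ * k, by simp only [mul_inv_rev, mul_assoc g⁻¹, ← mul_assoc (k * z), e]; group⟩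

theorem count_mid (g : G) [Decidable (g ∈ 𝐂[z])] [Decidable (g ∈ stabilizer G a)] :
    {u | Iv u ∧ u * g ∈ 𝐂[z]}.ncard =
      (if g ∈ 𝐂[z] then 2 ^ s - 1 else 0) + if g ∈ stabilizer G a then 0 else 1 := by
  by_cases hg : g ∈ stabilizer G a
  · have h1 : ∀ u, Iv u ∧ u * g ∈ 𝐂[z] ↔ u ∈ Ts G a a ∧ g ∈ 𝐂[z] := fun u =>
      ⟨fun e => have h1 : u ∈ Ts G a a := ⟨e.1, (mul_mem_cancel_right hg).mp (h.leH hz e.2)⟩
        ⟨h1, (mul_mem_cancel_left (mem_centralizer_singleton_iff.mpr (h.commI h1 hz))).mp e.2⟩,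
        fun e => ⟨e.1.1, mul_mem (mem_centralizer_singleton_iff.mpr (h.commI e.1 hz)) e.2⟩⟩
    simp only [h1, hg, if_true, add_zero]
    split_ifs with e
    · simpa only [e, and_true, Set.ofPred_mem_eq] using h.ncI a a
    · simp [e]
  rw [if_neg fun e => hg (h.leH hz e), if_neg hg, zero_add, Set.ncard_eq_one]
  obtain ⟨w, h1, h2, h3, -⟩ := h.S.exists_mid hz.1 (hz.1.conj g) hz.2 (conj_fix hz.2 g) (Ne.symm hg)
  have h4 : w * g ∈ 𝐂[z] := mem_centralizer_singleton_iff.mpr (by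
    rw [show w * g * z = w * (g * z * g⁻¹) * g by group, ← h2, ← mul_assoc, ← mul_assoc, h1.sq, one_mul, mul_assoc])
  refine ⟨w, Set.eq_singleton_iff_unique_mem.mpr ⟨⟨h1, h4⟩, fun u hu => ?_⟩⟩
  have h5 : u * w ∈ 𝐂[z] := by simpa [h1.inv] using mul_mem hu.2 (inv_mem h4)
  have h6 : u • g • a = a := by rw [← mul_smul]; exact h.leH hz hu.2
  have := h.S.K_cent (k := u * w) hu.1 (Ne.symm hg) (smul_back hu.1.sq h6) (h.leH hz h5)
    (by rw [mul_smul, smul_back h1.sq h3, smul_back hu.1.sq h6])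
    (by rw [← mul_assoc, hu.1.sq, one_mul, mul_inv_rev, hu.1.inv, h1.inv]) hz.1 hz.2
    (mem_centralizer_singleton_iff.mp h5).symm
  rw [eq_inv_of_mul_eq_one_left this, h1.inv]

theorem count_fix (hm : ¬ s ∣ 2 ^ s - 1) {g : G} (hg : g ∈ 𝐂[z]) (h1 : g ≠ 1) :
    {w | Iv w ∧ g * w = w * g}.ncard + 1 = {w | w ∈ Ts G a a ∧ g * w = w * g}.ncard + {c : Ω | g • c = c}.ncard := by
  have := h.fin
  have : Nonempty Ω := ⟨a⟩
  choose! pt hpt using h.S.ex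
  have h2 : {w | (Iv w ∧ g * w = w * g) ∧ w • a ≠ a}.ncard = ({c : Ω | g • c = c} \ {a}).ncard := by
    refine Set.ncard_congr (fun w _ => pt w) (fun w hw => ⟨h.S.fix_of_comm hw.1.1 (hpt w hw.1.1) hw.1.2,
      fun e => hw.2 (Set.mem_singleton_iff.mp e ▸ hpt w hw.1.1)⟩) (fun w w' hw hw' e => ?_) fun c hc => ?_
    · exact h.fixB (c := pt w) (fun e => hw.2 (e ▸ hpt w hw.1.1))
        ⟨h.leH hz hg, h.S.fix_of_comm hw.1.1 (hpt w hw.1.1) hw.1.2⟩ h1 ⟨hw.1.1, hpt w hw.1.1⟩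
        ⟨hw'.1.1, e ▸ hpt w' hw'.1.1⟩ hw.1.2 hw'.1.2
    obtain ⟨x, hx, rfl⟩ := h.transC hz c (Ne.symm hc.2)
    have h3 : x⁻¹ * g * x ∈ 𝐂[z] ⊓ Dd G a b :=
      have := mul_mem (mul_mem (inv_mem hx) hg) hx
      ⟨this, h.leH hz this, mem_stabilizer_iff.mpr (by rw [mul_smul, mul_smul, hc.1, inv_smul_smul])⟩
    have h4 := orderOf_dvd_card_of_mem h3
    rw [h.cardY hz, orderOf_dvd_iff_pow_eq_one, ← inv_inv x, inv_inv x⁻¹, conj_pow, conj_eq_one_iff] at h4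
    obtain ⟨w, hw, e⟩ := exists_commute_of_not_dvd h.hs h4 (X := Ts G (x • b) (x • b))
      (fun u hu => ⟨hu.1.conj g, hc.1 ▸ conj_fix hu.2 g⟩) (by rwa [h.ncI])
    exact ⟨w, ⟨⟨hw.1, e⟩, fun e => hc.2 (h.S.un w hw.1 _ _ hw.2 e)⟩, h.S.un w hw.1 _ _ (hpt w hw.1) hw.2⟩
  rw [← Set.ncard_sdiff_singleton_add_one (show a ∈ {c : Ω | g • c = c} from h.leH hz hg), ← h2, ← add_assoc,
    ← Set.ncard_union_eq (Set.disjoint_left.mpr fun w e e' => e'.2 e.1.2)]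
  congr 2
  ext w
  by_cases e : w • a = a <;> simp [Ts, e]

end St9

end Cfsg.Agent.Bender
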