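import Cfsg.Agent.Bender.G8a
import Cfsg.Agent.Bender.G8b
import Cfsg.Agent.Zass.FPF
import Cfsg.Agent.Local.FPF
import Cfsg.Agent.Char.Burnside

/-! The rank one case: characters. -/

set_option autoImplicit false
set_option linter.unusedSectionVars false

namespace Cfsg.Agent.Bender

open Subgroup MulAction Cfsg.Agent.Local Cfsg.Agent.FT Cfsg.Agent.M11 Cfsg.Agent.Char Cfsg.Agent.Zass
open scoped Pointwise ComplexConjugate

variable {G Ω : Type*} [Group G] [Fintype G] [MulAction G Ω]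

theorem sum_ind9 {α : Type*} [Fintype α] (p : α → Prop) [DecidablePred p] :
    ∑ x, (if p x then (1 : ℂ) else 0) = {x | p x}.ncard := by
  rw [Finset.sum_boole, Set.ncard_eq_toFinset_card', Set.toFinset_ofPred]

theorem ext_one9 (X : Subgroup G) (g : G) [Decidable (g ∈ X)] : extendByZero X 1 g = if g ∈ X then 1 else 0 := by
  split_ifs with e
  exacts [extendByZero_of_mem X 1 e, extendByZero_of_notMem X 1 e]

theorem ind_fib9 {Y : Type*} (X : Subgroup G) (f : G → Y) (hf : ∀ x x', f x = f x' ↔ x⁻¹ * x' ∈ X) {p : Y → Prop}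
    {g : G} (hp : ∀ x, x⁻¹ * g * x ∈ X ↔ p (f x)) : indFun X 1 g = {c | c ∈ Set.range f ∧ p c}.ncard := by
  classical
  simp only [indFun_apply, ext_one9, hp]
  rw [sum_ind9, ncard_fib X f hf, Nat.cast_mul, mul_comm, mul_inv_cancel_right₀ (card_ne_zero' X)]

theorem inner_one9 (X : Subgroup G) [Fintype X] {F : G → ℂ} (hF : IsClassFunction G F) :
    classInner F (indFun X 1) = (Nat.card X : ℂ)⁻¹ * ∑ x : X, F x := by
  rw [inner_indFun_right X 1 hF]
  simp only [classInner, Pi.one_apply, map_one, mul_one]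

theorem mult9 {C H : Subgroup G} (hle : C ≤ H) {χ : G → ℂ} (hχ : IsCharacter G χ) :
    ∃ n : ℕ, classInner χ (indFun C 1 - indFun H 1) = n := by
  classical
  rw [Char.inner_sub_right, inner_indFun_right C 1 (char_isClassFunction hχ), inner_indFun_right H 1 (char_isClassFunction hχ)]
  suffices key : ∀ θ : H → ℂ, IsCharacter H θ → ∃ n : ℕ, classInner (fun c : C => θ (inclusion hle c)) 1 -
      classInner θ 1 = n by simpa only [coe_inclusion] using key _ (char_restrict hχ H)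
  refine fun θ hθ => char_induction (P := fun θ : H → ℂ => ∃ n : ℕ, classInner (fun c : C => θ (inclusion hle c)) 1 -
    classInner θ 1 = n) ⟨0, by simp [classInner]⟩ (fun θ hθ => ?_) (fun θ ψ ⟨n, e⟩ ⟨m, e'⟩ => ⟨n + m, ?_⟩) hθ
  · by_cases e : θ = 1
    · exact ⟨0, by rw [e, inner_one_one, Nat.cast_zero, sub_eq_zero]; exact inner_one_one⟩
    · rw [inner_irr_ne hθ irr_one e, sub_zero]
      exact inner_char_char (char_comp (irr_isCharacter hθ) (inclusion hle)) char_one'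
  · have := Char.inner_add_left (fun c : C => θ (inclusion hle c)) (fun c : C => ψ (inclusion hle c)) 1
    rw [Char.inner_add_left, Nat.cast_add, ← e, ← e']
    linear_combination this

theorem pow_big9 {n : ℕ} (h : 7 ≤ n) : 2 * n * n + 2 ≤ 2 ^ n := by
  induction n, h using Nat.le_induction with
  | base => decide
  | succ n h ih => rw [pow_succ]; nlinarith

namespace St9

variable {a b : Ω} {A K : Subgroup G} {y t : G} {s : ℕ} (h : St9 a b A K y t s)
include h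

theorem yt : Commute y t := (h.memV (mem_zpowers y)).2

theorem odd : Odd s := h.hs.odd_of_ne_two h.hs2

theorem cardE : Nat.card (zpowers (y * t)) = 2 * s := by
  rw [Nat.card_zpowers, h.yt.orderOf_mul_eq_mul_orderOf_of_coprime (by
    rw [h.hy, h.ht.orderOf]; exact h.odd.coprime_two_right), h.hy, h.ht.orderOf, mul_comm]

theorem tK {k : G} (hk : k ∈ K) : t * k * t⁻¹ = k⁻¹ := by rw [h.ht.inv, ((h.hK k).mp hk).2]

theorem normE : zpowers (y * t) ≤ 𝐍(K) :=
  zpowers_le.mpr (mul_mem (mem_normalizer_of_conj_mem fun _ hk => h.normK (h.memV (mem_zpowers y)).1 hk)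
    (mem_normalizer_of_conj_mem fun _ hk => h.tK hk ▸ inv_mem hk))

theorem fpfE {e k : G} (he : e ∈ zpowers (y * t)) (h1 : e ≠ 1) (hk : k ∈ K) (hc : e * k = k * e) : k = 1 := by
  obtain ⟨n, rfl⟩ := mem_powers_iff_mem_zpowers.mpr he
  have h2 : ∀ j, t ^ (2 * j) = 1 := fun j => by rw [pow_mul, pow_two, h.ht.sq, one_pow]
  simp only [h.yt.mul_pow] at h1 hc
  obtain ⟨j, e | e⟩ := Nat.even_or_odd' n
  · rw [e, h2, mul_one] at h1 hc
    exact h.fpfV (pow_mem (mem_zpowers y) _) h1 hk hc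
  have h3 : (y ^ n * t ^ n) ^ 2 = (y ^ n) ^ 2 := by rw [(h.yt.pow_pow n n).mul_pow, ← pow_mul t, mul_comm n, h2, mul_one]
  by_cases h4 : (y ^ n) ^ 2 = 1
  · rw [eq_one_of_pow_eq_one_of_coprime h.odd.coprime_two_right (by
      rw [← pow_mul, mul_comm, pow_mul, ← h.hy, pow_orderOf_eq_one, one_pow]) h4, one_mul, e, pow_succ, h2,
      one_mul] at hc
    exact eq_one_of_inv_cent h.ht.sq (h.S.odd_fix h.hab (h.KD hk).1 (h.KD hk).2) ((h.hK k).mp hk).2
      (mem_centralizer_singleton_iff.mpr hc.symm)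
  · exact h.fpfV (pow_mem (pow_mem (mem_zpowers y) _) _) h4 hk (h3 ▸ Commute.pow_left hc 2)

theorem tiK {x k : G} (hk : k ∈ K) (h1 : k ≠ 1) (hx : x⁻¹ * k * x ∈ K) : ∃ e ∈ zpowers (y * t), ∃ l ∈ K, x = e * l := by
  have h2 : t ∈ zpowers (y * t) := by
    obtain ⟨j, e⟩ := h.odd
    refine ⟨(s : ℕ), ?_⟩
    simp only [zpow_natCast, h.yt.mul_pow]
    rw [← h.hy, pow_orderOf_eq_one, h.hy, e, pow_succ, pow_mul, pow_two, h.ht.sq, one_pow, one_mul, one_mul]
  have h3 : zpowers y ≤ zpowers (y * t) := zpowers_le.mpr ((mul_mem_cancel_right h2).mp (mem_zpowers _))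
  have h4 : ∀ c, (x⁻¹ * k * x) • c = c → x • c = a ∨ x • c = b := fun c e => h.hK2 k hk h1 _ (by
    rwa [mul_smul, mul_smul, inv_smul_eq_iff] at e)
  have h5 : x • a ≠ x • b := fun e => h.hab (smul_left_cancel x e)
  rcases h4 a (h.KD hx).1 with e | e <;> rcases h4 b (h.KD hx).2 with e' | e'
  · exact (h5 (e.trans e'.symm)).elim
  · obtain ⟨c, hc, l, hl, e⟩ := h.decomp (mem_Dd.mpr ⟨e, e'⟩)
    exact ⟨c, h3 hc, l, hl, e⟩
  · obtain ⟨c, hc, l, hl, e⟩ := h.decomp (d := t * x) (mem_Dd.mpr ⟨by rw [mul_smul, e, h.tb], by rw [mul_smul, e', h.hta]⟩)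
    exact ⟨t⁻¹ * c, mul_mem (inv_mem h2) (h3 hc), l, hl, by rw [mul_assoc, ← e, inv_mul_cancel_left]⟩
  · exact (h5 (e.trans e'.symm)).elim

theorem resK [Fintype (zpowers (y * t))] {θ : K → ℂ} (h1 : θ 1 = 0) :
    letI := conjAction h.normE
    (fun k : K => indFun K θ k) = til (zpowers (y * t)) θ := by
  classical
  letI := conjAction h.normE
  funext k
  by_cases e : k = 1
  · rw [e, til_apply_one, OneMemClass.coe_one, indFun_one, h1, mul_zero, mul_zero]
  have e' : (k : G) ≠ 1 := by simpa using e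
  rw [indFun_apply, til_apply, ← Finset.sum_of_injOn (s := Finset.univ) (t := Finset.univ)
    (f := fun p : K × zpowers (y * t) => θ (p.2 • k)) (fun p => ((p.1 : G) * p.2)⁻¹) (fun p _ q _ e => ?_)
    (fun _ _ => Finset.mem_univ _) (fun x _ hx => extendByZero_of_notMem _ _ fun e => hx ?_) fun p _ => ?_,
    Fintype.sum_prod_type]
  · dsimp only
    rw [Finset.sum_const, Finset.card_univ, ← Nat.card_eq_fintype_card, nsmul_eq_mul,
      inv_mul_cancel_left₀ (card_ne_zero' K)]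
  · have h2 : (q.1 : G)⁻¹ * p.1 = q.2 * (p.2 : G)⁻¹ := by
      rw [inv_mul_eq_iff_eq_mul, ← mul_assoc, ← inv_injective e, mul_inv_cancel_right]
    have h3 : (q.2 : G) * (p.2 : G)⁻¹ = 1 := by
      by_contra h3
      exact e' (h.fpfE (mul_mem q.2.2 (inv_mem p.2.2)) h3 k.2 (h2 ▸ h.commK (mul_mem (inv_mem q.1.2) p.1.2) k.2))
    exact Prod.ext (Subtype.ext (inv_mul_eq_one.mp (h2.trans h3)).symm) (Subtype.ext (mul_inv_eq_one.mp h3).symm)
  · obtain ⟨c, hc, l, hl, rfl⟩ := h.tiK k.2 e' e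
    exact ⟨(⟨l⁻¹, inv_mem hl⟩, ⟨c⁻¹, inv_mem hc⟩), Finset.mem_univ _, by simp⟩
  · rw [← extendByZero_coe K θ, coe_conjAction_smul]
    congr 1
    rw [inv_inv, show (p.1 : G) * p.2 * k * ((p.1 : G) * p.2)⁻¹ = p.1 * (p.2 * k * (p.2 : G)⁻¹) * (p.1 : G)⁻¹ by group,
      h.commK p.1.2 (conj_mem_of_mem_normalizer (h.normE p.2.2) k.2), mul_inv_cancel_right]

theorem valR (g : G) : indFun (stabilizer G a) 1 g = {c : Ω | g • c = c}.ncard := by
  rw [ind_fib9 _ (fun x => x • a) (fun x x' => by rw [mem_stabilizer_iff, mul_smul, inv_smul_eq_iff, eq_comm])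
    (p := fun c => g • c = c) fun x => by rw [mem_stabilizer_iff, mul_smul, mul_smul, inv_smul_eq_iff]]
  simp only [Function.Surjective.range_eq (f := fun x : G => x • a) (h.S.tr a), Set.mem_univ, true_and]

theorem fixK {k : G} (hk : k ∈ K) (h1 : k ≠ 1) : {c : Ω | k • c = c}.ncard = 2 := by
  rw [← Set.ncard_pair h.hab]
  congr 1
  exact Set.ext fun c => ⟨h.hK2 k hk h1 c, by rintro (rfl | rfl); exacts [(h.KD hk).1, (h.KD hk).2]⟩

variable {z : G} (hz : z ∈ Ts G a a)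
include hz

theorem valP (g : G) : indFun 𝐂[z] 1 g = {w | Iv w ∧ g * w = w * g}.ncard := by
  rw [ind_fib9 _ (fun x => x * z * x⁻¹) (fun x x' => by
    rw [mem_centralizer_singleton_iff, eq_comm, mul_inv_eq_iff_eq_mul, mul_assoc x⁻¹, inv_mul_eq_iff_eq_mul]
    simp only [mul_assoc]) (p := fun w => g * w = w * g) fun x => by
    rw [mem_centralizer_singleton_iff, mul_assoc, mul_assoc, inv_mul_eq_iff_eq_mul, ← mul_left_inj x⁻¹]
    simp only [mul_assoc, mul_inv_cancel, mul_one]]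
  simp only [h.conj_iff hz]

theorem deg {n : ℕ} (hn : Nat.card Ω = n) {χ : G → ℂ} (hχ : IsIrrCharacter G χ)
    (ha : classInner χ (indFun 𝐂[z] 1 - indFun (stabilizer G a) 1) ≠ 0) : χ 1 = n * χ z := by
  classical
  have hm : ((2 ^ s - 1 : ℕ) : ℂ) ≠ 0 := Nat.cast_ne_zero.mpr (by have := h.seven; omega)
  have hC := card_ne_zero' 𝐂[z]
  let φ : G → ℂ := fun g => (Nat.card 𝐂[z] : ℂ)⁻¹ * extendByZero 𝐂[z] 1 g -
    (Nat.card (stabilizer G a) : ℂ)⁻¹ * extendByZero (stabilizer G a) 1 g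
  have h1 : classInner χ (indFun 𝐂[z] 1 - indFun (stabilizer G a) 1) = ∑ g, φ g * χ g := by
    simp only [φ, Char.inner_sub_right, inner_one9 _ (irr_isClassFunction hχ), sub_mul, mul_assoc, Finset.sum_sub_distrib,
      ← Finset.mul_sum, sum_extendByZero_mul, Pi.one_apply, one_mul]
  have h2 : ∀ g, ∑ u, (if Iv u then 1 else 0) * φ (u * g) = (2 ^ s - 1 : ℕ) * φ g := fun g => by
    have h3 : {u | Iv u ∧ u * g ∈ stabilizer G a}.ncard = 2 ^ s - 1 := by
      simpa only [mem_stabilizer_iff, mul_smul, Ts] using h.ncI (g • a) a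
    simp only [φ, ext_one9, mul_sub, mul_left_comm (ite (Iv _) _ _), ite_zero_mul_ite_zero, one_mul,
      Finset.sum_sub_distrib, ← Finset.mul_sum, sum_ind9, h.count_mid hz, h3, h.cardH hz]
    push_cast
    split_ifs <;> field_simp <;> ring
  have h3 : ∑ g, (if Iv g then 1 else 0) * χ g = (n * (2 ^ s - 1 : ℕ) : ℕ) * χ z := by
    have h4 := h.valP hz 1
    have h5 := 𝐂[z].index_mul_card
    have := h.fin
    rw [← (stabilizer G a).index_mul_card, h.cardH hz, index_stabilizer, show orbit G a = Set.univ from Set.eq_univ_of_forall (h.S.tr a),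
      Set.ncard_univ, hn, mul_comm (Nat.card _), ← mul_assoc] at h5
    simp only [indFun_one, Pi.one_apply, mul_one, one_mul, and_true, Nat.eq_of_mul_eq_mul_right Nat.card_pos h5] at h4
    rw [h4, ← sum_ind9, Finset.sum_mul]
    refine Finset.sum_congr rfl fun g _ => ?_
    split_ifs with e
    · obtain ⟨x, rfl⟩ := (h.conj_iff hz).mpr e
      rw [irr_isClassFunction hχ]
    · rw [zero_mul, zero_mul]
  have h4 : χ 1 * ((2 ^ s - 1 : ℕ) * ∑ g, φ g * χ g) = (n * (2 ^ s - 1 : ℕ) : ℕ) * χ z * ∑ g, φ g * χ g := by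
    have h5 : ∀ g, φ g * ((n * (2 ^ s - 1 : ℕ) : ℕ) * χ z * χ g) =
        χ 1 * ∑ u, φ g * (if Iv u then 1 else 0) * χ (u * g) := fun g => by
      rw [← h3, ← irr_conv hχ (f := fun u => if Iv u then 1 else 0)
        fun u x => if_congr ⟨fun e => by simpa [mul_assoc] using e.conj x⁻¹, fun e => e.conj x⟩ rfl rfl,
        mul_left_comm, Finset.mul_sum _ _ (φ g)]
      simp only [mul_assoc]
    rw [Finset.mul_sum _ _ (_ * χ z)]
    simp only [mul_left_comm (_ * χ z), h5, ← Finset.mul_sum _ _ (χ 1)]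
    congr 1
    simp only [Finset.mul_sum, ← mul_assoc, ← h2, Finset.sum_mul]
    rw [Finset.sum_comm, Finset.sum_comm (f := fun g u => φ g * _ * χ (u * g))]
    refine Finset.sum_congr rfl fun u _ => ?_
    split_ifs with e
    · rw [← Equiv.sum_comp (Equiv.mulLeft u) fun g => φ g * 1 * χ (u * g)]
      simp only [Equiv.coe_mulLeft, ← mul_assoc u, e.sq, one_mul, mul_one]
    · simp
  rw [h1] at ha
  push_cast at h4 hm
  exact mul_right_cancel₀ (mul_ne_zero hm ha) (by linear_combination h4)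

theorem norm (hm : ¬ s ∣ 2 ^ s - 1) {n : ℕ} (hn : Nat.card Ω = n + 1) :
    classInner (indFun 𝐂[z] 1 - indFun (stabilizer G a) 1) (indFun 𝐂[z] 1 - indFun (stabilizer G a) 1) * Nat.card 𝐂[z] =
      (∑ w ∈ (Set.toFinite (Ts G a a \ {z})).toFinset, Nat.card ↥(𝐂[z] ⊓ 𝐂[w]) : ℕ) + n * ((2 ^ s - 1 : ℕ) - 1) := by
  classical
  have := h.fin
  have c1 := indFun_isClassFunction 𝐂[z] 1
  have c2 := indFun_isClassFunction (stabilizer G a) 1
  have h1 : ∀ X : Subgroup G, X ≤ stabilizer G a → (∀ c, a ≠ c → ∃ x ∈ X, x • b = c) →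
      classInner (indFun (stabilizer G a) 1) (indFun X 1) = 2 := fun X hX e => by
    simp only [inner_one9 X c2, h.valR, ← Nat.cast_sum, two_orb X h.hab hX e, Nat.cast_mul,
      Nat.cast_ofNat, mul_comm (2 : ℂ), inv_mul_cancel_left₀ (card_ne_zero' X)]
  have h2 : ∑ c : 𝐂[z], {w | w ∈ Ts G a a ∧ c * w = w * c}.ncard =
      Nat.card 𝐂[z] + ∑ w ∈ (Set.toFinite (Ts G a a \ {z})).toFinset, Nat.card ↥(𝐂[z] ⊓ 𝐂[w]) := by
    have h3 : ∀ c : G, {w | w ∈ Ts G a a ∧ c * w = w * c}.ncard =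
        ∑ w ∈ insert z (Set.toFinite (Ts G a a \ {z})).toFinset, if c ∈ 𝐂[w] then 1 else 0 := fun c => by
      rw [← Finset.card_filter, ← Set.ncard_coe_finset]
      congr 1
      ext w
      by_cases e : w = z <;> simp [mem_centralizer_singleton_iff, e, hz]
    have h4 : ∀ w : G, ∑ c : 𝐂[z], (if (c : G) ∈ 𝐂[w] then 1 else 0) = Nat.card ↥(𝐂[z] ⊓ 𝐂[w]) := fun w => by
      rw [← Finset.card_filter, ← Fintype.card_subtype, ← Nat.card_eq_fintype_card]
      exact Nat.card_congr (Equiv.subtypeSubtypeEquivSubtypeInter (· ∈ 𝐂[z]) (· ∈ 𝐂[w]))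
    simp only [h3]
    rw [Finset.sum_comm, Finset.sum_insert (by simp)]
    simp only [h4, inf_idem]
  have h3 : ∀ c : 𝐂[z], (indFun 𝐂[z] 1 - indFun (stabilizer G a) 1) c = {w | w ∈ Ts G a a ∧ c * w = w * c}.ncard - 1 +
      if c = 1 then (n : ℂ) * ((2 ^ s - 1 : ℕ) - 1) else 0 := fun c => by
    split_ifs with e
    · have h5 := 𝐂[z].index_mul_card
      have h6 : (stabilizer G a).index = n + 1 := by
        rw [index_stabilizer, show orbit G a = Set.univ from Set.eq_univ_of_forall (h.S.tr a), Set.ncard_univ, hn]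
      rw [← (stabilizer G a).index_mul_card, h.cardH hz, h6, mul_comm (Nat.card _), ← mul_assoc] at h5
      simp only [e, Pi.sub_apply, OneMemClass.coe_one, indFun_one, Pi.one_apply, one_mul, mul_one, and_true, h6,
        Set.ofPred_mem_eq, h.ncI, Nat.eq_of_mul_eq_mul_right Nat.card_pos h5, Nat.cast_mul, Nat.cast_add, Nat.cast_one]
      ring
    · have := congrArg (Nat.cast (R := ℂ)) (h.count_fix hz hm c.2 (by simpa using e))
      rw [Pi.sub_apply, h.valP hz, h.valR]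
      push_cast at this
      linear_combination this
  rw [Char.inner_sub_right, Char.inner_sub_left _ _ (indFun (stabilizer G a) 1), ← Char.inner_conj_symm (indFun (stabilizer G a) 1),
    h1 _ (h.leH hz) (h.transC hz), h1 _ le_rfl fun c hc => h.h2 b c h.hab hc, inner_one9 _ (classFun_sub c1 c2)]
  simp only [h3, Finset.sum_add_distrib, Finset.sum_sub_distrib, ← Nat.cast_sum, h2, Finset.sum_ite_eq',
    Finset.mem_univ, if_true, Finset.sum_const, Finset.card_univ, ← Nat.card_eq_fintype_card, map_ofNat]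
  have := card_ne_zero' 𝐂[z]
  push_cast
  field_simp
  ring

theorem orb {w : G} (hw : w ∈ Ts G a a \ {z}) : Nat.card ↥(𝐂[z] ⊓ 𝐂[w]) * s ≤ Nat.card 𝐂[z] ∧
    ∀ c ∈ 𝐂[z], (¬ ∃ d ∈ Dd G a b ⊓ 𝐂[z], d * w * d⁻¹ = c * w * c⁻¹) → Nat.card ↥(𝐂[z] ⊓ 𝐂[w]) * s < Nat.card 𝐂[z] := by
  have h1 := card_inf_centralizer_mul (Dd G a b ⊓ 𝐂[z]) w
  rw [(eq_bot_iff_forall (Dd G a b ⊓ 𝐂[z] ⊓ 𝐂[w])).mpr fun d hd => by_contra fun e => hw.2 (h.fixA hd.1.1 e hw.1 hz
    (mem_centralizer_singleton_iff.mp hd.2) (mem_centralizer_singleton_iff.mp hd.1.2)), card_bot, one_mul,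
    show Nat.card ↥(Dd G a b ⊓ 𝐂[z]) = s by rw [inf_comm, h.cardY hz]] at h1
  have h2 : {v | ∃ r ∈ Dd G a b ⊓ 𝐂[z], r * w * r⁻¹ = v} ⊆ {v | ∃ r ∈ 𝐂[z], r * w * r⁻¹ = v} :=
    fun v ⟨r, hr, e⟩ => ⟨r, hr.2, e⟩
  rw [← card_inf_centralizer_mul 𝐂[z] w, ← h1]
  exact ⟨Nat.mul_le_mul_left _ (Set.ncard_le_ncard h2), fun c hc e => Nat.mul_lt_mul_of_pos_left
    (Set.ncard_lt_ncard ⟨h2, fun e' => e (e' ⟨c, hc, rfl⟩)⟩) Nat.card_pos⟩

theorem main : ∀ c ∈ 𝐂[z], ∀ w ∈ A, ∃ d ∈ Dd G a b ⊓ 𝐂[z], d * w * d⁻¹ = c * w * c⁻¹ := by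
  classical
  intro c0 hc0 w0 hw0
  by_contra hne
  have := h.fin
  have := h.hKc
  letI := conjAction h.normE
  have hf : FPF (zpowers (y * t)) K := fun e he k hk => Subtype.ext (h.fpfE e.2 (by simpa using he) k.2
    (mul_inv_eq_iff_eq_mul.mp (congrArg Subtype.val hk)))
  have m7 := h.seven
  have s3 := h.three
  obtain ⟨e, he⟩ : ∃ e, 2 ^ s - 1 = 2 * s * e + 1 := by
    have h1 := hf.card_modEq_top
    rw [h.cardK, h.cardE] at h1
    obtain ⟨e, h2⟩ := (Nat.modEq_iff_dvd' (by omega)).mp h1.symm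
    exact ⟨e, by omega⟩
  have hm : ¬ s ∣ 2 ^ s - 1 := fun e' => by
    have := Nat.le_of_dvd one_pos ((Nat.dvd_add_right ⟨2 * e, by ring⟩).mp (he ▸ e'))
    omega
  obtain ⟨n, hn, hC⟩ := h.cardC hz
  have cM := classFun_sub (indFun_isClassFunction 𝐂[z] 1) (indFun_isClassFunction (stabilizer G a) 1)
  have hN := h.norm hz hm hn
  have hD := fun χ : IrrCharacter G => h.deg hz hn χ.2
  choose α hα using fun χ : IrrCharacter G => mult9 (h.leH hz) (irr_isCharacter χ.2)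
  have Mz : (indFun 𝐂[z] 1 - indFun (stabilizer G a) 1) z = (2 ^ s - 1 : ℕ) - 1 := by
    rw [Pi.sub_apply, h.valP hz, h.valR, ← h.ncI a a, show {c : Ω | z • c = c} = {a} from
      Set.eq_singleton_iff_unique_mem.mpr ⟨hz.2, fun c hc => h.S.un z hz.1 _ _ hc hz.2⟩, Set.ncard_singleton,
      Nat.cast_one]
    congr 3
    exact Set.ext fun w => ⟨fun e => ⟨e.1, h.S.fix_of_comm hz.1 hz.2 e.2.symm⟩, fun e => ⟨e.1, h.commI hz e⟩⟩
  have Mk : ∀ k ∈ K, k ≠ 1 → (indFun 𝐂[z] 1 - indFun (stabilizer G a) 1) k = -2 := fun k hk h1 => by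
    rw [Pi.sub_apply, h.valP hz, h.valR, h.fixK hk h1, (Set.ncard_eq_zero (Set.toFinite _)).mpr
      (Set.eq_empty_of_forall_notMem fun w hw => h1 ?_)]
    · simp
    obtain ⟨c, hc⟩ := h.S.ex w hw.1
    rcases h.hK2 k hk h1 c (h.S.fix_of_comm hw.1 hc hw.2) with rfl | rfl
    · exact h.semiK hk ⟨hw.1, hc⟩ hw.2.symm
    · exact inv_eq_one.mp (h.semiK (inv_mem hk) ⟨hw.1.conj t, h.tb ▸ conj_fix hc t⟩ (by
        rw [← h.tK hk, conj_mul, conj_mul, hw.2]))
  generalize indFun 𝐂[z] 1 - indFun (stabilizer G a) 1 = M at *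
  have hα' : ∀ χ : IrrCharacter G, classInner M χ = α χ := fun χ => by rw [← Char.inner_conj_symm, hα, map_natCast]
  choose d d0 hd using fun χ : IrrCharacter G => irr_apply_one χ.2
  have hc : ∀ χ : IrrCharacter G, ∃ c : ℕ, α χ ≠ 0 → χ.1 z = c ∧ d χ = (n + 1) * c := fun χ => by
    by_cases e : α χ = 0
    · exact ⟨0, fun e' => (e' e).elim⟩
    have h1 := hD χ (by rw [hα]; exact_mod_cast e)
    have h2 : ((n + 1 : ℕ) : ℂ) ≠ 0 := Nat.cast_ne_zero.mpr n.succ_ne_zero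
    obtain ⟨c, h3⟩ := int_dvd_of_isIntegral_div (a := d χ) n.succ_pos (by
      rw [← hd, h1, mul_div_cancel_left₀ _ h2]; exact char_isIntegral (irr_isCharacter χ.2) z)
    exact ⟨c, fun _ => ⟨mul_left_cancel₀ h2 (by rw [← h1, hd, h3, Nat.cast_mul]), h3⟩⟩
  choose c hc using hc
  choose v hv using fun μ : IrrCharacter K => gen_exists_coeff (gen_indFun K
    (gen_sub (gen_of_char (irr_isCharacter μ.2)) (gen_of_char char_one')))
  have μ1 : ∀ μ : IrrCharacter K, (μ.1 - 1) 1 = 0 := fun μ => by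
    rw [Pi.sub_apply, irr_apply_one_of_comm μ.2, Pi.one_apply, sub_self]
  let Λ := Finset.univ.erase (⟨1, irr_one⟩ : IrrCharacter K)
  have hΛ : ∀ μ ∈ Λ, μ.1 ≠ 1 := fun μ hμ e => Finset.ne_of_mem_erase hμ (Subtype.ext e)
  have g0 : ∀ μ ∈ Λ, ∀ ν ∈ Λ, ∑ χ, v μ χ * v ν χ =
      2 * s + if ∃ e : zpowers (y * t), μ.1 = tw e ν.1 then 1 else 0 := fun μ hμ ν hν => by
    apply Int.cast_injective (α := ℂ)
    have h1 := inner_eq_sum_irr (indFun_isClassFunction K (μ.1 - 1)) (indFun K (ν.1 - 1))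
    have h2 : ∀ e : zpowers (y * t), classInner (μ.1 - 1) (tw e (ν.1 - 1)) = 1 + if μ.1 = tw e ν.1 then 1 else 0 :=
      fun e => by
        rw [show tw e (ν.1 - 1) = tw e ν.1 - 1 from rfl, Char.inner_sub_left, Char.inner_sub_right, Char.inner_sub_right,
          inner_irr μ.2 (tw_irr e ν.2), inner_irr_ne μ.2 irr_one (hΛ μ hμ), inner_one_one,
          inner_irr_ne irr_one (tw_irr e ν.2) fun e' => hΛ ν hν ((tw_eq_one_iff e).mp e'.symm)]
        ring
    simp only [(hv _).1, map_intCast, inner_indFun_left K _ (indFun_isClassFunction K _), h.resK (μ1 ν), inner_til, h2,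
      Finset.sum_add_distrib, Finset.sum_const, Finset.card_univ, ← Nat.card_eq_fintype_card, h.cardE] at h1
    push_cast
    rw [← h1]
    congr 1
    · simp
    split_ifs with e
    · obtain ⟨e, he⟩ := e
      rw [Finset.sum_eq_single e (fun e' _ h3 => if_neg fun h4 => h3
        (hf.tw_injective ν.2 (hΛ ν hν) (h4.symm.trans he))) (by simp), if_pos he]
    · exact Finset.sum_eq_zero fun e' _ => if_neg fun h4 => e ⟨e', h4⟩
  have g1 : ∀ μ ∈ Λ, ∑ χ, v μ χ * v μ χ = 2 * s + 1 := fun μ hμ => by rw [g0 μ hμ μ hμ, if_pos ⟨1, (tw_one _).symm⟩]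
  have g2 : ∀ μ ∈ Λ, ∀ ν ∈ Λ, v μ = v ν ↔ ∃ e : zpowers (y * t), μ.1 = tw e ν.1 := fun μ hμ ν hν => by
    have h1 := g0 μ hμ ν hν
    refine ⟨fun e => by_contra fun e' => ?_, fun e => funext fun χ => ?_⟩
    · rw [if_neg e', e, g1 ν hν] at h1
      omega
    have h2 : ∑ χ, (v μ χ - v ν χ) ^ 2 = 0 := by
      have : ∀ χ, (v μ χ - v ν χ) ^ 2 = v μ χ * v μ χ + v ν χ * v ν χ - 2 * (v μ χ * v ν χ) := fun χ => by ring
      simp only [this, Finset.sum_sub_distrib, Finset.sum_add_distrib, ← Finset.mul_sum, g1 μ hμ, g1 ν hν, h1, if_pos e]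
      ring
    exact sub_eq_zero.mp (pow_eq_zero_iff two_ne_zero |>.mp
      ((Finset.sum_eq_zero_iff_of_nonneg fun _ _ => sq_nonneg _).mp h2 χ (Finset.mem_univ _)))
  have g3 : ∀ u ∈ Λ.image v, (Λ.filter (v · = u)).card = 2 * s := fun u hu => by
    obtain ⟨ν, hν, rfl⟩ := Finset.mem_image.mp hu
    rw [← h.cardE, Nat.card_eq_fintype_card, ← Finset.card_univ]
    refine (Finset.card_bij (fun e _ => ⟨tw e ν.1, tw_irr e ν.2⟩) (fun e _ => ?_) (fun e _ e' _ h1 =>
      hf.tw_injective ν.2 (hΛ ν hν) (congrArg Subtype.val h1)) fun μ hμ => ?_).symm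
    · have h1 : (⟨tw e ν.1, tw_irr e ν.2⟩ : IrrCharacter K) ∈ Λ := Finset.mem_erase.mpr
        ⟨fun h1 => hΛ ν hν ((tw_eq_one_iff e).mp (congrArg Subtype.val h1)), Finset.mem_univ _⟩
      exact Finset.mem_filter.mpr ⟨h1, (g2 _ h1 ν hν).mpr ⟨e, rfl⟩⟩
    · obtain ⟨e, he⟩ := (g2 μ (Finset.mem_filter.mp hμ).1 ν hν).mp (Finset.mem_filter.mp hμ).2
      exact ⟨e, Finset.mem_univ _, Subtype.ext he.symm⟩
  have cK : Fintype.card (IrrCharacter K) = 2 * s * e + 1 := by
    have := sum_sq_degree (G := K)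
    simp only [fun μ : IrrCharacter K => irr_apply_one_of_comm μ.2, one_pow, Finset.sum_const,
      Finset.card_univ, nsmul_eq_mul, mul_one, h.cardK, he] at this
    exact_mod_cast this
  obtain ⟨ν, hν⟩ : ∃ ν, n + 1 + 2 * (2 * s * e) = ν * (2 * s * e + 1) := by
    refine ⟨Nat.card (orbitRel.Quotient K Ω), ?_⟩
    rw [← he, ← h.cardK, ← sum_fixedBy_nat K Ω, ← Finset.add_sum_erase _ _ (Finset.mem_univ 1),
      Finset.sum_congr (f := fun k : K => Nat.card (fixedBy Ω k)) rfl fun k hk =>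
        h.fixK k.2 (by simpa using Finset.ne_of_mem_erase hk), Finset.sum_const,
      Finset.card_erase_of_mem (Finset.mem_univ _), Finset.card_univ, ← Nat.card_eq_fintype_card, h.cardK, he, ← hn]
    simp [mul_comm]
  have hT : ((Set.toFinite (Ts G a a \ {z})).toFinset).card = 2 * s * e := by
    rw [← Set.ncard_eq_toFinset_card, Set.ncard_sdiff_singleton_of_mem hz, h.ncI, he, Nat.add_sub_cancel]
  have w1 : w0 ∈ Ts G a a \ {z} := ⟨h.memI.mpr ⟨hw0, fun e => hne ⟨1, one_mem _, by simp [e]⟩⟩,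
    fun e => hne ⟨1, one_mem _, by
      rw [e, mem_centralizer_singleton_iff.mp hc0]; simp⟩⟩
  have b1 : 0 < ∑ w ∈ (Set.toFinite (Ts G a a \ {z})).toFinset, Nat.card ↥(𝐂[z] ⊓ 𝐂[w]) :=
    Finset.sum_pos (fun _ _ => Nat.card_pos) ⟨w0, (Set.Finite.mem_toFinset _).mpr w1⟩
  have b2 := Finset.sum_lt_sum (s := (Set.toFinite (Ts G a a \ {z})).toFinset)
    (fun w hw => (h.orb hz ((Set.Finite.mem_toFinset _).mp hw)).1)
    ⟨w0, (Set.Finite.mem_toFinset _).mpr w1, (h.orb hz w1).2 c0 hc0 hne⟩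
  rw [← Finset.sum_mul, Finset.sum_const, hT, hC] at b2
  generalize ∑ w ∈ (Set.toFinite (Ts G a a \ {z})).toFinset, Nat.card ↥(𝐂[z] ⊓ 𝐂[w]) = σ at hN b1 b2
  have b3 : (∑ χ, α χ ^ 2) * (s * n) = σ + n * (2 * s * e) := by
    rw [inner_eq_sum_irr cM, hC, he] at hN
    simp only [hα', map_natCast, ← pow_two] at hN
    exact_mod_cast (show ((∑ χ, α χ ^ 2 : ℕ) * (s * n : ℕ) : ℂ) = σ + n * (2 * s * e) by
      push_cast at hN ⊢; linear_combination hN)
  refine arith9b (Λ.image v) d d0 (fun χ => α χ) (fun χ => c χ) (s := s) (e := e) rfl ?_ ?_ ?_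
    (Finset.forall_mem_image.mpr g1) ?_ ?_ (fun _ => Int.natCast_nonneg _) (fun χ hχ => ?_) ?_ ?_ ?_
  · by_cases h7 : 7 ≤ s
    · have := pow_big9 h7
      exact .inr (.inr ⟨by omega, by exact_mod_cast (Nat.le_of_mul_le_mul_left (c := 2 * s) (by omega) (by omega) : s ≤ e)⟩)
    have := h.hs
    obtain rfl | rfl | rfl | rfl : s = 3 ∨ s = 4 ∨ s = 5 ∨ s = 6 := by omega
    · omega
    · exact absurd this (by decide)
    · omega
    · exact absurd this (by decide)
  · have := Finset.card_eq_sum_card_image v Λ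
    rw [Finset.card_erase_of_mem (Finset.mem_univ _), Finset.card_univ, cK, Nat.add_sub_cancel,
      Finset.sum_congr rfl g3, Finset.sum_const, smul_eq_mul, mul_comm _ (2 * s)] at this
    exact_mod_cast (Nat.eq_of_mul_eq_mul_left (by omega) this).symm
  · refine Finset.forall_mem_image.mpr fun μ _ => Int.cast_injective (α := ℂ) ?_
    have := classFun_apply (indFun_isClassFunction K (μ.1 - 1)) 1
    simp only [indFun_one, μ1, mul_zero, (hv _).1, hd] at this
    push_cast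
    simp only [this, mul_comm]
  · refine Finset.forall_mem_image.mpr fun μ hμ => Finset.forall_mem_image.mpr fun ν hν e => ?_
    rw [g0 μ hμ ν hν, if_neg fun e' => e ((g2 μ hμ ν hν).mpr e'), add_zero]
  · refine Finset.forall_mem_image.mpr fun μ hμ => Int.cast_injective (α := ℂ) ?_
    have h1 := inner_eq_sum_irr (indFun_isClassFunction K (μ.1 - 1)) M
    have h2 : classInner (μ.1 - 1) (fun k : K => M k) = classInner (μ.1 - 1) ((-2 : ℂ) • 1) := by
      unfold classInner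
      refine congrArg _ (Finset.sum_congr rfl fun k _ => ?_)
      by_cases e : k = 1
      · rw [e, μ1, zero_mul, zero_mul]
      · simp [Mk k k.2 (by simpa using e)]
    simp only [(hv _).1, hα', map_natCast, inner_indFun_left K _ cM, h2, Char.inner_smul_right, Char.inner_sub_left,
      inner_one_one, inner_irr_ne μ.2 irr_one (hΛ μ hμ)] at h1
    push_cast
    simp only [mul_comm (α _ : ℂ), ← h1, map_neg, map_ofNat]
    ring
  · have h1 := hc χ (by simpa using hχ)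
    have h2 := d0 χ
    obtain ⟨b0, h3⟩ := inner_char_char char_one' (char_restrict (irr_isCharacter χ.2) K)
    have h4 : (d χ : ℤ) = 2 * s * ∑ u ∈ Λ.image v, u χ + (2 * s * e + 1) * b0 := by
      apply Int.cast_injective (α := ℂ)
      have h5 := congrArg conj (classFun_apply (classFun_restrict (irr_isClassFunction χ.2) K) 1)
      have h6 : ∀ μ : IrrCharacter K, classInner μ.1 (fun k : K => χ.1 k) = v μ χ + b0 := fun μ => by
        rw [← (hv μ).1, inner_indFun_left K _ (irr_isClassFunction χ.2), Char.inner_sub_left, h3, sub_add_cancel]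
      have h7 : v ⟨1, irr_one⟩ χ = 0 := Int.cast_injective (α := ℂ) (by linear_combination h3 - h6 ⟨1, irr_one⟩)
      have h8 : ∑ μ, v μ χ = 2 * s * ∑ u ∈ Λ.image v, u χ := by
        rw [← Finset.add_sum_erase _ _ (Finset.mem_univ ⟨1, irr_one⟩), h7, zero_add,
          Finset.sum_comp (fun u => u χ) v, Finset.mul_sum]
        exact Finset.sum_congr rfl fun u hu => by rw [g3 u hu]; simp
      simp only [OneMemClass.coe_one, hd, map_natCast, map_sum, fun μ : IrrCharacter K => irr_apply_one_of_comm μ.2,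
        mul_one, Char.inner_conj_symm, h6, Finset.sum_add_distrib, ← Int.cast_sum, h8, Finset.sum_const, Finset.card_univ,
        cK] at h5
      push_cast at h5 ⊢
      linear_combination h5
    refine ⟨by have := h1.2 ▸ h2; exact_mod_cast Nat.pos_of_mul_pos_left this, IsCoprime.dvd_of_dvd_mul_left
      (y := 2) ⟨1, -(s * e), by ring⟩ ⟨b0 + (2 - ν) * c χ, ?_⟩⟩
    rw [h1.2] at h4
    have := congrArg (Nat.cast (R := ℤ)) hν
    push_cast at this h4
    linear_combination h4 - c χ * this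
  · apply Int.cast_injective (α := ℂ)
    have h1 := classFun_apply cM z
    rw [Mz, he] at h1
    push_cast at h1 ⊢
    rw [h1]
    refine Finset.sum_congr rfl fun χ _ => ?_
    by_cases e : α χ = 0
    · simp [hα', e]
    · rw [hα', (hc χ e).1]
  · exact_mod_cast (show 2 * e < ∑ χ, α χ ^ 2 from lt_of_mul_lt_mul_right (a := s * n) (by nlinarith) (by omega))
  · exact_mod_cast (show ∑ χ, α χ ^ 2 < 4 * e from lt_of_mul_lt_mul_right (a := s * n * s) (by
      rw [← mul_assoc _ (s * n), b3]; rw [smul_eq_mul] at b2; linarith) (by omega))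

end St9

theorem step9 {G Ω : Type*} [Group G] [Finite G] [MulAction G Ω] (S : SE G Ω) {a b : Ω} (hab : a ≠ b)
    (h2 : ∀ c c' : Ω, a ≠ c → a ≠ c' → ∃ g : G, g • a = a ∧ g • c = c')
    {A K : Subgroup G} {y t : G} {s : ℕ} (hs : s.Prime) (hs2 : s ≠ 2)
    (hA : ∀ x, x ∈ A ↔ x * x = 1 ∧ x • a = a) (hcard : Nat.card A = 2 ^ s)
    (ht : Iv t) (hta : t • a = b)
    (hK : ∀ k, k ∈ K ↔ k ∈ Dd G a b ∧ t * k * t = k⁻¹) (hKc : IsMulCommutative K)
    (hK2 : ∀ k ∈ K, k ≠ 1 → ∀ c, k • c = c → c = a ∨ c = b)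
    (hy : orderOf y = s) (hV : Dd G a b ⊓ 𝐂[t] = zpowers y) (hf : K ⊓ 𝐂[y] = ⊥) :
    ∀ z ∈ A, z ≠ 1 → ∀ c ∈ 𝐂[z], ∀ w ∈ A, ∃ d ∈ Dd G a b ⊓ 𝐂[z], d * w * d⁻¹ = c * w * c⁻¹ := fun _ hz h1 =>
  have := Fintype.ofFinite G
  have h : St9 a b A K y t s := ⟨S, hab, h2, hs, hs2, hA, hcard, ht, hta, hK, hKc, hK2, hy, hV, hf⟩
  h.main (h.memI.mpr ⟨hz, h1⟩)

end Cfsg.Agent.Bender
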