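import Cfsg.Agent.Char.TwentySeven

/-! The lattice argument for the rank one case. -/

set_option autoImplicit false

namespace Cfsg.Agent.Bender

open Cfsg.Agent.Char

variable {X : Type*} [Fintype X] [DecidableEq X]

theorem exc9 (S : Finset (X → ℤ)) (d : X → ℕ) (hd : ∀ x, 0 < d x) (h0 : ∀ u ∈ S, ∑ x, (d x : ℤ) * u x = 0)
    (h2 : ∀ u ∈ S, ∀ u' ∈ S, u ≠ u' → ∑ x, (u x - u' x) ^ 2 = 2) (hS : 1 < S.card) :
    ∃ (ε : ℤ) (w : X → ℤ) (ζ : (X → ℤ) → X), (ε = 1 ∨ ε = -1) ∧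
      ∀ u ∈ S, ∀ x, u x = w x + if x = ζ u then ε else 0 := by
  obtain ⟨u0, h1, u1, h3, h4⟩ := Finset.one_lt_card.mp hS
  have : Nonempty X := by
    by_contra e
    exact h4 (funext fun x => (e ⟨x⟩).elim)
  have h5 : ∀ u : X → ℤ, ∃ p q, u ∈ S → u ≠ u0 → p ≠ q ∧
      ∀ x, u x - u0 x = (if x = p then 1 else 0) - if x = q then 1 else 0 := fun u => by
    by_cases hu : u ∈ S ∧ u ≠ u0
    · obtain ⟨p, q, e, -, e'⟩ := int_norm_two (fun x => u x - u0 x) d hd (h2 u hu.1 u0 h1 hu.2) (by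
        simp only [mul_sub, Finset.sum_sub_distrib, h0 u hu.1, h0 u0 h1, sub_zero])
      exact ⟨p, q, fun _ _ => ⟨e, e'⟩⟩
    · exact ⟨this.some, this.some, fun a b => (hu ⟨a, b⟩).elim⟩
  choose p q h5 using h5
  have h6 : ∀ u ∈ S, u ≠ u0 → ∀ u' ∈ S, u' ≠ u0 → p u = p u' ∨ q u = q u' := fun u hu e u' hu' e' => by
    by_cases h : u = u'
    · exact .inl (by rw [h])
    have h7 : ∑ x, (u x - u0 x) * (u' x - u0 x) = 1 := by
      have : ∀ x, (u x - u' x) ^ 2 = (u x - u0 x) ^ 2 + (u' x - u0 x) ^ 2 - 2 * ((u x - u0 x) * (u' x - u0 x)) :=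
        fun x => by ring
      have h8 := h2 u hu u' hu' h
      simp only [this, Finset.sum_sub_distrib, Finset.sum_add_distrib, ← Finset.mul_sum, h2 u hu u0 h1 e,
        h2 u' hu' u0 h1 e'] at h8
      omega
    simp only [(h5 u hu e).2, sub_mul, ite_mul, one_mul, zero_mul, Finset.sum_sub_distrib, Finset.sum_ite_eq',
      Finset.mem_univ, if_true, (h5 u' hu' e').2] at h7
    by_contra h8
    rw [not_or] at h8
    rw [if_neg h8.1, if_neg h8.2] at h7
    split_ifs at h7 <;> omega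
  by_cases h7 : ∀ u ∈ S, u ≠ u0 → p u = p u1
  · refine ⟨-1, fun x => u0 x + if x = p u1 then 1 else 0, fun u => if u = u0 then p u1 else q u, .inr rfl,
      fun u hu x => ?_⟩
    by_cases e : u = u0
    · simp only [e, if_true]
      split_ifs <;> omega
    · have := (h5 u hu e).2 x
      simp only [e, if_false, h7 u hu e] at this ⊢
      split_ifs at this ⊢ <;> omega
  push Not at h7
  obtain ⟨u2, h7, h8, h9⟩ := h7
  refine ⟨1, fun x => u0 x - if x = q u1 then 1 else 0, fun u => if u = u0 then q u1 else p u, .inl rfl,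
    fun u hu x => ?_⟩
  by_cases e : u = u0
  · simp only [e, if_true]
    split_ifs <;> omega
  · have := (h5 u hu e).2 x
    have h10 : q u = q u1 := (h6 u hu e u1 h3 h4.symm).elim (fun e' => ((h6 u hu e u2 h7 h8).resolve_left
      fun e'' => h9 (e''.symm.trans e')).trans ((h6 u2 h7 h8 u1 h3 h4.symm).resolve_left h9)) id
    simp only [e, if_false, h10] at this ⊢
    split_ifs at this ⊢ <;> omega

omit [Fintype X] [DecidableEq X] in
theorem cst9 (T : Finset X) (a W d : X → ℤ) {B : ℤ} (ha : ∀ x, 0 ≤ a x)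
    (hW : ∀ x ∈ T, a x ≠ 0 → 0 ≤ W x ∧ (W x = 0 → d x ≤ -2)) (hB : ∑ x ∈ T, d x ^ 2 ≤ B) (h4 : 4 ≤ B) :
    ∃ p q δ r : ℤ, 0 ≤ p ∧ 0 ≤ q ∧ p ≤ ∑ x ∈ T, a x * W x ∧ ∑ x ∈ T, a x * d x ≤ p * δ - 2 * q ∧
      ∑ x ∈ T, a x ^ 2 ≤ p ^ 2 + q ^ 2 ∧ ∑ x ∈ T, a x ^ 2 = p + q + 2 * r ∧ δ ^ 2 ≤ B ∧ (0 < q → δ ^ 2 + 4 ≤ B) := by
  obtain ⟨δ, h1, h2⟩ : ∃ δ, (∀ x ∈ T, W x ≠ 0 → d x ≤ δ) ∧ (δ = 0 ∨ ∃ x ∈ T, W x ≠ 0 ∧ d x = δ) := by
    rcases (T.filter (W · ≠ 0)).eq_empty_or_nonempty with e | e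
    · exact ⟨0, fun x hx h => absurd (e ▸ Finset.mem_filter.mpr ⟨hx, h⟩) (Finset.notMem_empty x), .inl rfl⟩
    · obtain ⟨x, hx, h⟩ := Finset.exists_max_image _ d e
      exact ⟨d x, fun y hy h' => h y (Finset.mem_filter.mpr ⟨hy, h'⟩),
        .inr ⟨x, (Finset.mem_filter.mp hx).1, (Finset.mem_filter.mp hx).2, rfl⟩⟩
  have n1 : ∀ x ∈ T, 0 ≤ if W x = 0 then 0 else a x := fun x _ => by have := ha x; split_ifs <;> omega
  have n2 : ∀ x ∈ T, 0 ≤ if W x = 0 then a x else 0 := fun x _ => by have := ha x; split_ifs <;> omega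
  obtain ⟨r, hr⟩ : 2 ∣ ∑ x ∈ T, (a x ^ 2 - a x) := Finset.dvd_sum fun x _ => by
    rw [show a x ^ 2 - a x = a x * (a x - 1) by ring]
    exact (Int.even_mul_pred_self _).two_dvd
  refine ⟨∑ x ∈ T, if W x = 0 then 0 else a x, ∑ x ∈ T, if W x = 0 then a x else 0, δ, r, Finset.sum_nonneg n1,
    Finset.sum_nonneg n2, Finset.sum_le_sum fun x hx => ?_, ?_, ?_, ?_, ?_, fun hq => ?_⟩
  · have := ha x
    by_cases e : a x = 0
    · simp [e]
    have := (hW x hx e).1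
    split_ifs with e'
    · simp [e']
    · exact le_mul_of_one_le_right (ha x) (by omega)
  · rw [Finset.sum_mul, Finset.mul_sum, ← Finset.sum_sub_distrib]
    refine Finset.sum_le_sum fun x hx => ?_
    by_cases e : a x = 0
    · simp [e]
    split_ifs with e'
    · nlinarith [(hW x hx e).2 e', ha x]
    · nlinarith [h1 x hx e', ha x]
  · refine le_trans (le_of_eq ?_) (add_le_add (Finset.sum_sq_le_sq_sum_of_nonneg n1)
      (Finset.sum_sq_le_sq_sum_of_nonneg n2))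
    rw [← Finset.sum_add_distrib]
    exact Finset.sum_congr rfl fun x _ => by split_ifs <;> simp
  · rw [← hr, ← Finset.sum_add_distrib, ← Finset.sum_add_distrib]
    exact Finset.sum_congr rfl fun x _ => by split_ifs <;> simp
  · rcases h2 with rfl | ⟨x, hx, -, rfl⟩
    · omega
    · exact (Finset.single_le_sum (f := fun x => d x ^ 2) (fun _ _ => sq_nonneg _) hx).trans hB
  rcases h2 with rfl | ⟨x, hx, e, rfl⟩
  · omega
  obtain ⟨y, hy, e'⟩ := Finset.exists_ne_zero_of_sum_ne_zero hq.ne'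
  have h5 : W y = 0 ∧ a y ≠ 0 := by split_ifs at e' <;> simp_all
  have h6 := Finset.add_le_sum (f := fun x => d x ^ 2) (fun _ _ => sq_nonneg _) hx hy fun h => e (h ▸ h5.1)
  nlinarith [(hW y hy h5.2).2 h5.1]

theorem fin9 {s e m ε d' c' We γ p q δ : ℤ} (hm : m = 2 * s * e + 1)
    (hse : s = 3 ∧ e = 1 ∨ s = 5 ∧ e = 3 ∨ 7 ≤ s ∧ s ≤ e) (e3 : 3 ≤ e) (hε : ε = 1 ∨ ε = -1)
    (h7 : e * (d' * d') + 2 * ε * d' ≤ 2 * s) (c0 : 0 < c') (h8 : m * We = 2 * c' + d' - 2 * s * ε) (p0 : 0 ≤ p)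
    (q0 : 0 ≤ q) (e1 : p ≤ 2 - e * We - ε) (e2 : 2 - e * d' - ε ≤ p * δ - 2 * q) (e4 : γ ≤ p ^ 2 + q ^ 2)
    (h1 : e < γ) (e5 : δ ^ 2 ≤ 2 * s + 1) : False := by
  have h5 : 5 ≤ s := by omega
  have h6 := mul_le_mul_of_nonneg_right e3 (mul_self_nonneg d')
  have h9 : -s ≤ d' := by
    by_contra h
    rcases hε with rfl | rfl <;> nlinarith
  have h10 : 0 ≤ We := by
    by_contra h
    have h11 := mul_le_mul_of_nonneg_left e3 (show 0 ≤ s by omega)
    have h12 := mul_le_mul_of_nonneg_left (show We ≤ -1 by omega) (show 0 ≤ m by linarith)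
    rcases hε with rfl | rfl <;> linarith
  rcases h10.eq_or_lt with rfl | h10
  · obtain rfl : ε = 1 := hε.resolve_right fun e => by rw [e] at h8; omega
    have h11 : d' ≤ 0 := by
      by_contra h
      have h12 := mul_le_mul_of_nonneg_left (mul_self_le_mul_self (by decide) (show 2 ≤ d' by omega))
        (show 0 ≤ e by omega)
      omega
    have h12 := mul_nonneg (show 0 ≤ e by omega) (show 0 ≤ -d' by omega)
    obtain rfl | rfl : p = 0 ∨ p = 1 := by omega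
    · linarith
    have h13 := mul_self_le_mul_self (show 0 ≤ 2 * q by omega) (show 2 * q ≤ δ - 1 by linarith)
    have h14 : 4 * e ≤ 2 * s := by nlinarith
    omega
  have h11 : e * We ≤ 3 := by omega
  have h12 : e = 3 := by nlinarith
  subst h12
  obtain rfl : We = 1 := by omega
  obtain rfl : s = 5 := by omega
  obtain rfl : ε = -1 := by omega
  obtain rfl : p = 0 := by omega
  have : d' ≤ 2 := by nlinarith
  obtain rfl : q = 0 := by omega
  omega

theorem arith9b (S : Finset (X → ℤ)) (d : X → ℕ) (hd : ∀ x, 0 < d x) (a c : X → ℤ) {s e m : ℤ}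
    (hm : m = 2 * s * e + 1) (hse : s = 3 ∧ e = 1 ∨ s = 5 ∧ e = 3 ∨ 7 ≤ s ∧ s ≤ e) (hS : S.card = e)
    (h0 : ∀ u ∈ S, ∑ x, (d x : ℤ) * u x = 0) (g1 : ∀ u ∈ S, ∑ x, u x * u x = 2 * s + 1)
    (g2 : ∀ u ∈ S, ∀ u' ∈ S, u ≠ u' → ∑ x, u x * u' x = 2 * s) (hA : ∀ u ∈ S, ∑ x, a x * u x = 2)
    (ha : ∀ x, 0 ≤ a x) (hc : ∀ x, a x ≠ 0 → 0 < c x ∧ m ∣ c x - s * ∑ u ∈ S, u x) (hs : ∑ x, a x * c x = m - 1)
    (h1 : 2 * e < ∑ x, a x ^ 2) (h2 : ∑ x, a x ^ 2 < 4 * e) : False := by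
  have m0 : 2 * s + 1 ≤ m := by nlinarith [show 1 ≤ e by omega, show 0 ≤ s by omega]
  have hW : ∀ (w : X → ℤ) x, a x ≠ 0 → w x ^ 2 ≤ 2 * s + 1 → ∑ u ∈ S, u x = e * w x →
      m * ((2 * c x + w x) / m) = 2 * c x + w x ∧ 0 ≤ (2 * c x + w x) / m ∧ ((2 * c x + w x) / m = 0 → w x ≤ -2) :=
    fun w x hx hw e1 => by
      obtain ⟨h3, k, h4⟩ := hc x hx
      have h5 := Int.mul_ediv_cancel' (show m ∣ 2 * c x + w x from ⟨2 * k + w x, by
        rw [e1] at h4; linear_combination 2 * h4 - w x * hm⟩)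
      refine ⟨h5, Int.ediv_nonneg ?_ (by omega), fun e => by rw [e] at h5; omega⟩
      by_contra h6
      have : (2 * c x + w x) / m ≤ -1 := by
        by_contra h7
        nlinarith [mul_nonneg (show 0 ≤ m by omega) (show 0 ≤ (2 * c x + w x) / m by omega)]
      nlinarith [mul_le_mul_of_nonneg_left this (show 0 ≤ m by omega)]
  have hsum : ∀ (T : Finset X) (w : X → ℤ), (∀ x ∈ T, a x ≠ 0 → m * ((2 * c x + w x) / m) = 2 * c x + w x) →
      m * ∑ x ∈ T, a x * ((2 * c x + w x) / m) = 2 * ∑ x ∈ T, a x * c x + ∑ x ∈ T, a x * w x := fun T w h => by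
    rw [Finset.mul_sum, Finset.mul_sum, ← Finset.sum_add_distrib]
    refine Finset.sum_congr rfl fun x hx => ?_
    by_cases e : a x = 0
    · simp [e]
    · linear_combination a x * h x hx e
  obtain ⟨u0, hu0⟩ := Finset.card_pos.mp (show 0 < S.card by omega)
  have b0 : ∀ x, u0 x ^ 2 ≤ 2 * s + 1 := fun x => by
    simpa only [g1 u0 hu0, pow_two] using
      Finset.single_le_sum (f := fun x => u0 x * u0 x) (fun _ _ => mul_self_nonneg _) (Finset.mem_univ x)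
  by_cases hE : ∀ x, a x ≠ 0 → ∀ u ∈ S, u x = u0 x
  · have h3 := fun x hx => hW u0 x hx (b0 x) (by rw [Finset.sum_congr rfl (hE x hx), Finset.sum_const, nsmul_eq_mul, hS])
    obtain ⟨p, q, δ, r, p0, q0, e1, e2, e3, e4, e5, e6⟩ := cst9 Finset.univ a _ u0 ha (fun x _ hx => (h3 x hx).2)
      (B := 2 * s + 1) (by simp only [pow_two, g1 u0 hu0, le_refl]) (by omega)
    have h4 := hsum Finset.univ u0 fun x _ hx => (h3 x hx).1
    rw [hs, hA u0 hu0, show 2 * (m - 1) + 2 = m * 2 by ring, mul_right_inj' (by omega)] at h4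
    rw [h4] at e1
    rw [hA u0 hu0] at e2
    rcases q0.eq_or_lt with rfl | q0
    · obtain rfl | rfl | rfl : p = 0 ∨ p = 1 ∨ p = 2 := by omega
      all_goals omega
    have e7 := e6 q0
    have h5 : 0 < δ := by nlinarith
    have h6 : q ≤ δ - 1 := by nlinarith
    have h7 : q ^ 2 ≤ (δ - 1) ^ 2 := by nlinarith
    rcases hse with ⟨rfl, rfl⟩ | ⟨rfl, rfl⟩ | ⟨h8, h9⟩
    · nlinarith
    · have : δ ≤ 2 := by nlinarith
      nlinarith
    · nlinarith
  push Not at hE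
  obtain ⟨x0, hx0, u1, hu1, hne⟩ := hE
  have e1 : 1 < S.card := Finset.one_lt_card.mpr ⟨u1, hu1, u0, hu0, fun e => hne (by rw [e])⟩
  obtain ⟨ε, w, ζ, hε, hw⟩ := exc9 S d hd h0 (fun u hu u' hu' e => by
    have : ∀ x, (u x - u' x) ^ 2 = u x * u x + u' x * u' x - 2 * (u x * u' x) := fun x => by ring
    simp only [this, Finset.sum_sub_distrib, Finset.sum_add_distrib, ← Finset.mul_sum, g1 u hu, g1 u' hu',
      g2 u hu u' hu' e]
    ring) e1
  have ε2 : ε * ε = 1 := by rcases hε with rfl | rfl <;> rfl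
  have inj : Set.InjOn ζ S := fun u hu u' hu' e => funext fun x => by rw [hw u hu, hw u' hu', e]
  have key : ∀ (f : X → ℤ), ∀ u ∈ S, ∑ x, f x * u x = ∑ x, f x * w x + f (ζ u) * ε := fun f u hu => by
    simp only [hw u hu, mul_add, Finset.sum_add_distrib, mul_ite, mul_zero, Finset.sum_ite_eq', Finset.mem_univ,
      if_true]
  have k1 : ∀ u ∈ S, ∑ x, w x * w x + 2 * ε * w (ζ u) = 2 * s := fun u hu => by
    have h3 := g1 u hu
    rw [key u u hu, Finset.sum_congr rfl fun x _ => mul_comm (u x) (w x), key w u hu, hw u hu, if_pos rfl] at h3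
    linear_combination h3 - ε2
  let E := S.image ζ
  have hEc : (E.card : ℤ) = e := by rw [Finset.card_image_of_injOn inj, hS]
  have k2 : ∀ x ∈ E, a x = a (ζ u0) ∧ w x = w (ζ u0) ∧ ∑ u ∈ S, u x = e * w (ζ u0) + ε := fun x hx => by
    obtain ⟨u, hu, rfl⟩ := Finset.mem_image.mp hx
    have h3 : w (ζ u) = w (ζ u0) := by
      have h3 := k1 u hu
      have h4 := k1 u0 hu0
      rcases hε with rfl | rfl <;> omega
    refine ⟨by linear_combination ε * (hA u hu - hA u0 hu0 - key a u hu + key a u0 hu0) - (a (ζ u) - a (ζ u0)) * ε2,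
      h3, ?_⟩
    rw [Finset.sum_congr rfl fun u' hu' => hw u' hu' _, Finset.sum_add_distrib, Finset.sum_const, nsmul_eq_mul, hS, h3,
      Finset.sum_eq_single_of_mem u hu fun u' hu' e => if_neg fun e' => e (inj hu' hu e'.symm), if_pos rfl]
  have k3 : ∀ x ∉ E, ∀ u ∈ S, u x = w x := fun x hx u hu => by
    rw [hw u hu, if_neg fun e : x = ζ u => hx (e ▸ Finset.mem_image_of_mem ζ hu), add_zero]
  have k4 : ∀ (f : X → ℤ) (y : ℤ), (∀ x ∈ E, f x = y) → ∑ x, f x = e * y + ∑ x ∈ Eᶜ, f x := fun f y h => by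
    rw [← Finset.sum_add_sum_compl E, Finset.sum_congr rfl h, Finset.sum_const, nsmul_eq_mul, hEc]
  have k5 : x0 ∈ E := by
    by_contra e
    exact hne (by rw [k3 x0 e u1 hu1, k3 x0 e u0 hu0])
  have k6 := k4 (fun x => a x ^ 2) (a (ζ u0) ^ 2) fun x hx => by rw [(k2 x hx).1]
  have k7 : ∑ x ∈ Eᶜ, a x ^ 2 ≥ 0 := Finset.sum_nonneg fun _ _ => sq_nonneg _
  have e3 : 3 ≤ e := by omega
  have a1 : a (ζ u0) = 1 := by
    have h3 := ha (ζ u0)
    rw [(k2 x0 k5).1] at hx0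
    by_contra h4
    nlinarith [mul_le_mul_of_nonneg_left (show 4 ≤ a (ζ u0) ^ 2 by nlinarith [show 2 ≤ a (ζ u0) by omega])
      (show 0 ≤ e by omega)]
  have z0 := Finset.mem_image_of_mem ζ hu0
  have k8 : ∀ x ∈ E, 0 < c x ∧ c x < m ∧ m ∣ c x - s * (e * w (ζ u0) + ε) := fun x hx => by
    have h3 := hc x (by rw [(k2 x hx).1, a1]; decide)
    have h4 := Finset.single_le_sum (f := fun x => a x * c x) (fun x _ => by
      by_cases e : a x = 0
      · simp [e]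
      · exact mul_nonneg (ha x) (hc x e).1.le) (Finset.mem_univ x)
    simp only [hs, (k2 x hx).1, a1] at h4
    exact ⟨h3.1, by omega, (k2 x hx).2.2 ▸ h3.2⟩
  have k9 := k4 (fun x => a x * c x) (c (ζ u0)) fun x hx => by
    obtain ⟨h3, h4, h5⟩ := k8 x hx
    obtain ⟨h6, h7, h8⟩ := k8 _ z0
    have := Int.eq_zero_of_abs_lt_dvd (dvd_sub h5 h8) (abs_lt.mpr ⟨by omega, by omega⟩)
    simp only [(k2 x hx).1, a1]
    omega
  have k10 := k4 (fun x => a x * w x) (w (ζ u0)) fun x hx => by simp only [(k2 x hx).1, (k2 x hx).2.1, a1, one_mul]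
  have k11 := k4 (fun x => w x * w x) (w (ζ u0) * w (ζ u0)) fun x hx => by simp only [(k2 x hx).2.1]
  have k12 := k1 u0 hu0
  have k13 := key a u0 hu0
  have k14 : ∑ x ∈ Eᶜ, w x * w x ≥ 0 := Finset.sum_nonneg fun _ _ => mul_self_nonneg _
  have h3 := fun x (hx : x ∈ Eᶜ) hx' => hW w x hx' (k3 x (Finset.mem_compl.mp hx) u0 hu0 ▸ b0 x) (by
    rw [Finset.sum_congr rfl (k3 x (Finset.mem_compl.mp hx)), Finset.sum_const, nsmul_eq_mul, hS])
  have h4 := hsum Eᶜ w fun x hx hx' => (h3 x hx hx').1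
  obtain ⟨c0, -, k, hk⟩ := k8 _ z0
  simp only [hs, hA u0 hu0, a1] at k9 k13 k6
  generalize w (ζ u0) = d' at *
  generalize c (ζ u0) = c' at *
  have h5 : 0 ≤ e * (d' * d') + 2 * ε * d' := by
    rcases hε with rfl | rfl <;> nlinarith [mul_self_nonneg d', mul_self_nonneg (d' + 1), mul_self_nonneg (d' - 1),
      Int.le_self_sq d', Int.le_self_sq (-d')]
  obtain ⟨p, q, δ, r, p0, q0, e1, e2, e4, -, e5, -⟩ := cst9 Eᶜ a _ w ha (fun x hx hx' => (h3 x hx hx').2)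
    (B := 2 * s + 1) (by simp only [pow_two]; omega) (by omega)
  generalize ∑ x ∈ Eᶜ, a x * ((2 * c x + w x) / m) = α at *
  have h6 : α = 2 - e * (2 * k + d') - ε := mul_left_cancel₀ (show m ≠ 0 by omega) (by
    linear_combination h4 - 2 * k9 - k10 - k13 - 2 * e * hk + (e * d' + ε) * hm)
  have h7 : e * (d' * d') + 2 * ε * d' ≤ 2 * s := by omega
  have h8 : m * (2 * k + d') = 2 * c' + d' - 2 * s * ε := by linear_combination -2 * hk + d' * hm
  exact fin9 hm hse e3 hε h7 c0 h8 p0 q0 (h6 ▸ e1) (by linarith) e4 (by linarith) e5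

end Cfsg.Agent.Bender
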