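import Cfsg.Agent.Bender.G7

/-! No odd element inverted by an involution fixes its centre and a further point: second case. -/

set_option autoImplicit false
set_option linter.unusedSectionVars false

namespace Cfsg.Agent.Bender

open Subgroup MulAction Cfsg.Agent.Local Cfsg.Agent.FT Cfsg.Agent.Suz2T
open scoped Pointwise commutatorElement

universe u

variable {G Ω : Type u} [Group G] [Finite G] [MulAction G Ω]

theorem exists_special' {p : ℕ} [Fact p.Prime] (hp : p ≠ 2) {A R : Subgroup G} (hA : EA2 A)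
    (h4 : ∃ u ∈ A, ∃ v ∈ A, u ≠ 1 ∧ v ≠ 1 ∧ u ≠ v) (hR : IsPGroup p R) (hn : A ≤ 𝐍(R))
    (hf : ∀ e ∈ A, e ≠ 1 → ¬ R ≤ 𝐂[e]) : ∃ B, B ≤ R ∧ IsMulCommutative B ∧ ¬ IsCyclic B ∧
      ∃ e ∈ A, e ≠ 1 ∧ (∀ y ∈ B, e * y * e = y⁻¹) ∧ ∃ y ∈ B, y ≠ 1 ∧ ∃ u ∈ A, u ≠ 1 ∧
        u * y = y * u := by
  obtain ⟨B, hBR, hB, hAB, hsc⟩ := exists_selfcent hA hR hn
  have ho := odd_of_isPGroup hp hR
  have hw : ∀ e ∈ A, e ≠ 1 → ∃ y ∈ B, y ≠ 1 ∧ (∀ a ∈ A, a * y * a = y ∨ a * y * a = y⁻¹) ∧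
      e * y * e = y⁻¹ := by
    intro e he he1
    have h1 : ¬ B ≤ 𝐂[e] := fun h => hf e he he1 (by
      rw [← cent_zpowers, le_centralizer_comm] at h ⊢
      refine stable_factor_cent h hBR.le (le_trans (le_inf ?_ ?_) hsc) (coprime_iv ⟨hA e he, he1⟩ ho)
      · exact commutator_le_left_iff.2 (zpowers_le.2 (hn he))
      · exact (commutator_mono le_rfl h).trans (commutator_le_right_iff.2
          (hBR.norm.trans (normalizer_le_normalizer_centralizer _))))
    obtain ⟨b, hb, h2⟩ := SetLike.not_le_iff_exists.1 h1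
    obtain ⟨y, h3, h4, h5, h6⟩ := exists_weight hA hB hAB (y0 := b⁻¹ * (e * b * e))
      (B.mul_mem (B.inv_mem hb) (conj_mem_sq (hA e he) (hAB he) hb)) (fun h => h2 (by
        rw [mem_cent1]
        nth_rw 2 [inv_mul_eq_one.1 h]
        rw [cancel_sq' (hA e he)]))
    exact ⟨y, h3, h4, h5, h6 e he (inv_comm_sq (hA e he) b)⟩
  obtain ⟨e1, he1, v, hv, he11, hv1, huv⟩ := h4
  obtain ⟨y, hy, hy1, hyw, hye⟩ := hw e1 he1 he11
  obtain ⟨e2, he2, he21, he2y⟩ : ∃ e2 ∈ A, e2 ≠ 1 ∧ e2 * y * e2 = y := by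
    rcases hyw v hv with h | h
    · exact ⟨v, hv, hv1, h⟩
    · refine ⟨e1 * v, A.mul_mem he1 hv, fun e => huv ?_, ?_⟩
      · rw [eq_inv_of_mul_eq_one_left e, inv_of_sq (hA v hv)]
      · have e3 : e1 * v * y * (e1 * v) = e1 * (v * y * v) * e1 := by
          rw [hA.comm he1 hv]; nth_rw 1 [← hA.comm he1 hv]; group
        rw [e3, h, conj_inv_sq (hA e1 he1), hye, inv_inv]
  obtain ⟨y', hy', hy1', hyw', hye'⟩ := hw e2 he2 he21
  have hne : ∀ w ∈ B, w = w⁻¹ → w = 1 := fun w hw h =>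
    eq_one_of_odd (odd_mem ho (hBR.le hw)) (by nth_rw 2 [h]; simp)
  have hinv : ∀ e ∈ A, ∃ I : Subgroup G, ∀ w, w ∈ I ↔ w ∈ B ∧ e * w * e = w⁻¹ := fun e he =>
    ⟨{ carrier := {w | w ∈ B ∧ e * w * e = w⁻¹}
       one_mem' := ⟨B.one_mem, by simp [hA e he]⟩
       mul_mem' := fun {a b} ha hb => ⟨B.mul_mem ha.1 hb.1, by
         rw [conj_mul_sq (hA e he), ha.2, hb.2, ← mul_inv_rev,
           isMulCommutative_iff.1 hB _ hb.1 _ ha.1]⟩
       inv_mem' := fun {a} ha => ⟨B.inv_mem ha.1, by rw [conj_inv_sq (hA e he), ha.2]⟩ },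
      fun _ => Iff.rfl⟩
  have hcent : ∀ e ∈ A, ∀ w, e * w * e = w ↔ w ∈ 𝐂[e] := fun e he w => by
    rw [mem_cent1]
    exact ⟨fun h => by nth_rw 2 [← h]; rw [cancel_sq' (hA e he)],
      fun h => by rw [h, cancel_sq' (hA e he)]⟩
  obtain ⟨e, he, hey, hey'⟩ : ∃ e ∈ A, e * y * e = y⁻¹ ∧ e * y' * e = y'⁻¹ := by
    rcases hyw' e1 he1 with h | h
    · have e3 : ∀ w, e1 * e2 * w * (e1 * e2) = e1 * (e2 * w * e2) * e1 := fun w => by
        rw [hA.comm he1 he2]; nth_rw 1 [← hA.comm he1 he2]; group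
      exact ⟨e1 * e2, A.mul_mem he1 he2, by rw [e3, he2y, hye],
        by rw [e3, hye', conj_inv_sq (hA e1 he1), h]⟩
    · exact ⟨e1, he1, hye, h⟩
  have hle : zpowers y ⊔ zpowers y' ≤ B := sup_le (zpowers_le.2 hy) (zpowers_le.2 hy')
  refine ⟨zpowers y ⊔ zpowers y', hle.trans hBR.le, isMulCommutative_of_le hB hle, fun hc => ?_,
    e, he, ?_, fun w hw => ?_, y, mem_sup_left (mem_zpowers y), hy1, e2, he2, he21,
    mem_cent1.1 ((hcent e2 he2 y).1 he2y)⟩
  · obtain ⟨i, hi⟩ := exists_card_eq_pow (isPGroup_of_le hR (zpowers_le.2 (hBR.le hy)))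
    obtain ⟨j, hj⟩ := exists_card_eq_pow (isPGroup_of_le hR (zpowers_le.2 (hBR.le hy')))
    obtain ⟨I, hI⟩ := hinv e2 he2
    rcases le_total i j with h | h
    · have := le_of_card_dvd_of_isCyclic hc le_sup_left le_sup_right
        (by rw [hi, hj]; exact pow_dvd_pow _ h)
      have h2 := (hI y).1 (zpowers_le.2 ((hI y').2 ⟨hy', hye'⟩) (this (mem_zpowers y)))
      exact hy1 (hne y hy (he2y.symm.trans h2.2))
    · have := le_of_card_dvd_of_isCyclic hc le_sup_right le_sup_left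
        (by rw [hi, hj]; exact pow_dvd_pow _ h)
      have h2 := (hcent e2 he2 y').2
        (zpowers_le.2 ((hcent e2 he2 y).1 he2y) (this (mem_zpowers y')))
      exact hy1' (hne y' hy' (h2.symm.trans hye'))
  · rintro rfl
    exact hy1 (hne y hy (by simpa using hey))
  · obtain ⟨I, hI⟩ := hinv e he
    exact ((hI w).1 (sup_le (zpowers_le.2 ((hI y).2 ⟨hy, hey⟩))
      (zpowers_le.2 ((hI y').2 ⟨hy', hey'⟩)) hw)).2

theorem BT.not_dvd {p : ℕ} [hp : Fact p.Prime] (hp2 : p ≠ 2) {Y N : Subgroup G} {a : Ω}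
    (B : BT Y a N) {t : G} (ht : t ∈ Y) (hta : t • a ≠ a) :
    ¬ p ∣ (Y ⊓ Dd G a (t • a)).relIndex (Y ⊓ stabilizer G a) := by
  have : Fact (Nat.Prime 2) := ⟨Nat.prime_two⟩
  have hE : Y ⊓ Dd G a (t • a) ≤ Y ⊓ stabilizer G a := inf_le_inf_left _ inf_le_left
  have h1 := mulEq_sup_of_norm (Or.inl (hE.trans B.nrm.norm))
  rw [le_antisymm (sup_le B.nrm.le hE) (B.le_sup ht hta)] at h1
  have hO : core {2}ᶜ Y ≤ Y ⊓ Dd G a (t • a) := fun g hg => ⟨core_le _ _ hg,
    by simpa using (B.ker g (core_le _ _ hg)).1 hg 1 (one_mem _), (B.ker g (core_le _ _ hg)).1 hg t ht⟩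
  have hn : N ≤ 𝐍(core {2}ᶜ Y) := (B.nrm.le.trans inf_le_left).trans (core_nrm _ _).norm
  have h2 : IsPGroup 2 (quo (core {2}ᶜ Y) N) := PG.isPGroup_of_mem fun x hx => by
    obtain ⟨n, h3, rfl⟩ := (mem_quo_of_le hn).1 hx
    exact ⟨2, by rw [← Mor.map_pow _ (hn h3)]; exact cos_eq_one (B.two n h3)⟩
  rw [h1.symm.relIndex]
  intro e
  have h3 := e.trans (relIndex_dvd_of_le_left N hO)
  rw [← card_quo hn] at h3
  obtain ⟨k, hk⟩ := exists_card_eq_pow h2
  rw [hk] at h3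
  exact hp2 ((Nat.prime_dvd_prime_iff_eq hp.out Nat.prime_two).1 (hp.out.dvd_of_dvd_pow h3))

theorem BT.nrm_le {p : ℕ} [hp : Fact p.Prime] (hp2 : p ≠ 2) {Y N P : Subgroup G} {a : Ω}
    (B : BT Y a N) {t : G} (ht : t ∈ Y) (hta : t • a ≠ a) (hP : IsPGroup p P)
    (hn : P ⊴ Y ⊓ stabilizer G a) : P ≤ stabilizer G (t • a) := by
  obtain ⟨S, hS⟩ := exists_isSylowIn p (Y ⊓ Dd G a (t • a))
  have h1 := isSylowIn_trans_of_not_dvd hS (inf_le_inf_left _ inf_le_left) (B.not_dvd hp2 ht hta)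
  exact ((le_core_of_isPGroup hn hP).trans (core_le_of_isSylowIn h1)).trans
    ((hS.le.trans inf_le_right).trans inf_le_right)

/-- the involutions of a point stabiliser commute modulo the odd core -/
structure GN (G Ω : Type u) [Group G] [Finite G] [MulAction G Ω] : Prop extends GH G Ω where
  na : ∀ a : Ω, ∃ A, NA (stabilizer G a) A

theorem GH.gn (h : GH G Ω) (hn : ¬ NY G Ω) : GN G Ω := by
  unfold NY at hn
  push Not at hn
  obtain ⟨a, b, X, w, hab, hX, hD, hwX, hw, hwa, hle⟩ := hn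
  have hI : ∀ v, Iv v → v • a = a → v ∈ X := fun v hv hva => by
    obtain ⟨d, hd, rfl⟩ := h.toSE.exists_conj_D hw hv hwa hva hab
    exact mul_mem (mul_mem (hD hd) hwX) (inv_mem (hD hd))
  obtain ⟨N, B⟩ := h.bt' hX hI hle
  have hL : Aa G a ⊴ stabilizer G a := ⟨(closure_le _).2 fun _ hw => hw.2,
    le_trans (le_normalizer_set_of_conj_mem fun g hg w hw => (⟨hw.1.conj g, by
      have := conj_fix hw.2 g
      rwa [show g • a = a from hg] at this⟩ : _ ∈ Ts G a a)) (FT.normalizer_le_normalizer_closure _)⟩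
  have hLX : Aa G a ≤ X := (closure_le _).2 fun v hv => hI v hv.1 hv.2
  have key : ∀ u v : G, Iv u → Iv v → u • a = a → v • a = a →
      u * v * (u * v) ∈ core {2}ᶜ (stabilizer G a) := fun u v hu hv hua hva => by
    have h1 := B.cen v (hI v hv hva) hv hva u (B.iv u (hI u hu hua) hu hua)
    rw [hu.inv, mul_assoc] at h1
    have h2 : u * v ∈ Aa G a := mul_mem (subset_closure ⟨hu, hua⟩) (subset_closure ⟨hv, hva⟩)
    exact core_le_core_of_nrm _ hL (inf_core_le _ hLX ⟨mul_mem h2 h2, h1⟩)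
  refine ⟨h, fun c => ?_⟩
  obtain ⟨g, rfl⟩ := h.tr a c
  obtain ⟨u, v, hu, hv, h1, h2, h3, h4⟩ := h.pair (g • a)
  obtain ⟨d, hd⟩ := h.exists_ne (g • a)
  refine na_of (fun u hu v hv h5 h6 => ?_) (fun u hu v hv h5 h6 => ?_) h3 h4 hu hv h1 h2
  · have e : ∀ {w : G}, w • g • a = g • a → (g⁻¹ * w * g⁻¹⁻¹) • a = a := fun hw => by
      simpa using conj_fix hw g⁻¹
    have := conj_mem_conj_smul g (key _ _ (h5.conj g⁻¹) (h6.conj g⁻¹) (e hu) (e hv))
    rw [← core_conj, ← stab_conj] at this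
    convert this using 1
    group
  · obtain ⟨x, hx, e⟩ := h.toSE.exists_conj_D h5 h6 hu hv hd
    exact ⟨x, hx.1, e⟩

namespace GN

variable (h : GN G Ω) {p : ℕ} [Fact p.Prime]
include h

omit [Fact p.Prime] in
theorem mem_nrm {N : Subgroup G} {a : Ω} (hN : N ⊴ stabilizer G a) (he : ¬ Odd (Nat.card N)) {v : G}
    (hv : Iv v) (hva : v • a = a) : v ∈ N :=
  let ⟨_, hA⟩ := h.na a
  hA.mem_nrm hN he hv hva

omit [Fact p.Prime] in
theorem comm_mem {a : Ω} {z x : G} (hz : Iv z) (hza : z • a = a) (hx : x • a = a)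
    (ho : Odd (orderOf (x * z * x⁻¹ * z))) : x * z * x⁻¹ * z ∈ core {2}ᶜ (stabilizer G a) := by
  obtain ⟨A, hA⟩ := h.na a
  refine le_core_of_odd hA.ea.isPGroup hA.le (zpowers_le.2 ?_) (by rwa [Nat.card_zpowers])
    (mem_zpowers _)
  exact mul_mem (hA.nrm.conj_mem hx (hA.mem hz hza)) (hA.mem hz hza)

omit [Fact p.Prime] in
theorem fix3_bot : Fix3 Ω (⊥ : Subgroup G) := by
  obtain ⟨u, hu⟩ := h.iv
  obtain ⟨a, ha⟩ := h.ex u hu
  obtain ⟨b, hb⟩ := h.toGH.exists_ne a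
  refine ⟨a, b, u • b, hb, fun e => hb ?_, h.toSE.smul_ne hu ha hb, bot_le, bot_le, bot_le⟩
  exact smul_left_cancel u (ha.trans e)

omit h [Fact p.Prime] in
theorem odd_cent (hb : Bad G Ω p) (a : Ω) :
    Odd (Nat.card ↥(stabilizer G a ⊓ 𝐂(core {p} (stabilizer G a)))) :=
  odd_of_no_iv fun w hw hi => hb a w hi hw.1
    (cent_zpowers w ▸ le_centralizer_comm.1 (zpowers_le.2 hw.2))

theorem odd_compl (hb : Bad G Ω p) (a : Ω) : Odd (Nat.card (core {p}ᶜ (stabilizer G a))) :=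
  odd_of_le (odd_cent hb a) (le_inf (core_le _ _) (core_compl_le_cent_core _ _))

theorem cent_fit (hb : Bad G Ω p) (a : Ω) :
    stabilizer G a ⊓ 𝐂(fit (stabilizer G a)) ≤ fit (stabilizer G a) := by
  have h1 := fit_le_fit_of_nrm (Nrm.cent (fit_nrm (stabilizer G a)).norm)
  exact le_trans (le_inf le_rfl (inf_le_right.trans (cent_anti h1))) ((cent_sub_Fitting (sol_of_odd
    (odd_of_le (odd_cent hb a) (inf_le_inf_left _ (cent_anti (core_le_fit p _)))))).trans h1)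

theorem cent_core (hb : Bad G Ω p) {a : Ω} (hne : core {p}ᶜ (stabilizer G a) = ⊥) :
    stabilizer G a ⊓ 𝐂(core {p} (stabilizer G a)) ≤ core {p} (stabilizer G a) := by
  have := h.cent_fit hb a
  rwa [fit_eq_core hne] at this

theorem R1_ne_bot (hb : Bad G Ω p) (a : Ω) : R1 G p a ≠ ⊥ := by
  obtain ⟨z, hz, hza⟩ := h.toSE.exists_iv_fix a
  obtain ⟨y, hy, h1⟩ := SetLike.not_le_iff_exists.1 (hb a z hz hza)
  intro e
  have : y⁻¹ * (z * y * z) ∈ R1 G p a := subset_closure ⟨mul_mem (inv_mem hy)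
    (conj_mem_sq hz.sq ((core_nrm _ _).norm hza) hy), z, hz, hza, inv_comm_sq hz.sq y⟩
  rw [e, mem_bot, inv_mul_eq_one] at this
  refine h1 (mem_cent1.2 ?_)
  nth_rw 2 [this]
  rw [cancel_sq' hz.sq]

theorem mem_of_typeS (hp : p ≠ 2) {U : Subgroup G} {a b : Ω} (hab : a ≠ b)
    (hS : IsSylowIn p U (Dd G a b)) {z y : G} (hz : Iv z) (hza : z • a = a) (hzU : z ∈ 𝐍(U))
    (hy : y ∈ core {p} (stabilizer G a)) (hzy : z * y * z = y⁻¹) : y ∈ U := by
  set O := core {2}ᶜ (stabilizer G a) with hO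
  have hOn : O ⊴ stabilizer G a := core_nrm _ _
  have hOo : Odd (Nat.card O) := odd_iff_piGrp.2 (piGrp_core _ _)
  have hzO : zpowers z ≤ 𝐍(O) := zpowers_le.2 (hOn.norm hza)
  have hUo := odd_of_isPGroup hp hS.isPGroup
  obtain ⟨P, hP, hzP, hUP⟩ := sol_coprime_Sylow_subset hzO (coprime_iv hz hOo)
    (Or.inr (sol_of_odd hOo)) (X := U ⊓ O) inf_le_right (isPGroup_of_le hS.isPGroup inf_le_left)
    (le_normalizer_inf (zpowers_le.2 hzU) hzO)
  have h2 := isHall_singleton_iff.1 (coprime_Hall_inf_cent hzO (coprime_iv hz hOo)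
    (sol_of_odd hOo) (isHall_singleton_iff.2 hP) hzP)
  rw [cent_zpowers] at h2
  have hw : ∀ u ∈ U, u * z * u⁻¹ * z ∈ U := fun u hu => by
    rw [mul_assoc, mul_assoc, ← mul_assoc z]
    exact U.mul_mem hu (conj_mem_sq hz.sq hzU (U.inv_mem hu))
  have hsub : {x | ConjIn U z x} ⊆ {x | ConjIn P z x} := by
    rintro _ ⟨u, hu, rfl⟩
    have ho := odd_mem hUo (hw u hu)
    have := conjIn_of_inv hz.sq ho (by
      simp only [mul_inv_rev, hz.inv, inv_inv, mul_assoc, hz.sq, mul_one])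
      (hUP ⟨hw u hu, h.comm_mem hz hza (hS.le hu).1 ho⟩)
    rwa [cancel_sq' hz.sq] at this
  have heq := Set.eq_of_subset_of_ncard_le hsub (by
    rw [ncard_conjIn, ncard_conjIn, relIndex_sylow hP h2]
    refine Nat.le_of_dvd (relIndex_pos _ _) (dvd_trans (pow_dvd_pow _ ?_) (pow_dvd_relIndex hS _))
    refine (Nat.factorization_le_iff_dvd (relIndex_pos _ _).ne' (relIndex_pos _ _).ne').2 ?_ p
    rw [h.toSE.relIndex_I hz hza hab, ← h.toSE.relIndex_H hz hza hab]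
    exact relIndex_dvd_of_nrm hOn _) (Set.toFinite _)
  have hyP : y ∈ P := core_le_of_isSylowIn hP (le_core_of_isPGroup ((core_nrm _ _).of_le
    (core_le_odd hp _) hOn.le) (isPGroup_core _ _) hy)
  obtain ⟨u, hu, e⟩ : y * z ∈ {x | ConjIn U z x} :=
    heq ▸ conjIn_of_inv hz.sq (odd_mem hOo (hP.le hyP)) hzy hyP
  rw [← cancel_sq' hz.sq y, e]
  exact hw u hu

theorem R1_le_D (hp : p ≠ 2) {U : Subgroup G} (hU : Max3 Ω p U) {a b : Ω} (hab : a ≠ b)
    (hle : U ≤ Dd G a b) : R1 G p a ≤ Dd G a b := by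
  by_cases hS : IsSylowIn p U (Dd G a b)
  · obtain ⟨z, hzU, hz, hza⟩ := h.toSE.exists_iv_norm hp hU (hle.trans inf_le_left)
    rw [R1, closure_le]
    rintro y ⟨h1, z', h2, h3, h4⟩
    obtain ⟨d, hd, rfl⟩ := h.toSE.exists_conj_D h2 hz h3 hza hab
    have := hS.le (h.mem_of_typeS hp hab hS hz hza hzU ((core_nrm _ _).conj_mem hd.1 h1)
      (conj_inverts h4 d))
    exact ((Dd G a b).mul_mem_cancel_left hd).1
      (((Dd G a b).mul_mem_cancel_right ((Dd G a b).inv_mem hd)).1 this)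
  · obtain ⟨P, h1, h2⟩ := hU.two hab hle hS
    exact (R1_le p a).trans ((core_le_of_isSylowIn (h1.sylow' hp h2)).trans h1.le)

theorem core_le_cent (hb : Bad G Ω p) {a b : Ω} (h1 : R1 G p a ≤ Dd G a b)
    (h2 : R1 G p b ≤ Dd G a b) : core {p}ᶜ (Dd G a b) ≤ 𝐂(core {p} (stabilizer G a)) := by
  set D := Dd G a b with hD
  set F := core {p}ᶜ D with hF
  have hFD : F ⊴ D := core_nrm _ _
  have hp : ∀ c : Ω, IsPGroup p (R1 G p c) := fun c =>
    isPGroup_of_le (isPGroup_core _ _) (R1_le p c)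
  have ha := (core_nrm {p} (stabilizer G a)).norm
  have hY : IsPGroup p ↥(core {p} (stabilizer G a) ⊔ R1 G p b) :=
    isPGroup_sup (isPGroup_core _ _) (hp b) ((h2.trans inf_le_left).trans ha)
  have hn : D ≤ 𝐍(core {p} (stabilizer G a) ⊔ R1 G p b) :=
    le_normalizer_sup (inf_le_left.trans ha) (inf_le_right.trans (R1_nrm p b).norm)
  have hc : ∀ X : Subgroup G, X ⊴ D → IsPGroup p X → X ≤ 𝐂(F) := fun X h3 h4 =>
    (le_core_of_isPGroup h3 h4).trans (core_le_cent_core_compl _ _)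
  refine (coprime_nil_faithful_cent_stab (hFD.le.trans hn)
    ((piGrp_core _ _).coprime_of_isPGroup hY) (isNilpotent_of_isPGroup hY) ?_).trans
    (cent_anti le_sup_left)
  have key : ∀ c : Ω, R1 G p c ≤ core {p} (stabilizer G a) ⊔ R1 G p b → R1 G p c ⊴ D →
      𝐂((core {p} (stabilizer G a) ⊔ R1 G p b) ⊓ 𝐂(F)) ≤ stabilizer G c := fun c h3 h4 => by
    rw [← h.toGH.norm_eq (h.R1_ne_bot hb c) (R1_nrm p c)]
    exact (cent_anti (le_inf h3 (hc _ h4 (hp c)))).trans (centralizer_le_normalizer' _)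
  have h5 := hc _ (nrm_inf_of_le_normalizer hn) (isPGroup_of_le hY inf_le_right)
  intro x hx
  exact h5 ⟨⟨key a ((R1_le p a).trans le_sup_left) ((R1_nrm p a).of_le h1 inf_le_left) hx.2,
    key b le_sup_right ((R1_nrm p b).of_le h2 inf_le_right) hx.2⟩, hx.1⟩

theorem core_compl_le (hp : p ≠ 2) (hb : Bad G Ω p) {a b : Ω} (h1 : R1 G p a ≤ stabilizer G b) :
    core {p}ᶜ (stabilizer G b) ≤ stabilizer G a := by
  obtain ⟨A, hA⟩ := h.na a
  have hAH := hA.le
  obtain ⟨B, hBR, hB, hnc, e, he, he1, hy, y1, hy1B, hy11, u, hu, hu1, huy⟩ := exists_special' hp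
    hA.ea hA.two (isPGroup_core p (stabilizer G a)) (hAH.trans (core_nrm _ _).norm)
    fun e he he1 => hb a e ⟨hA.ea e he, he1⟩ (hAH he)
  have hi : Iv e := ⟨hA.ea e he, he1⟩
  have hBp := isPGroup_of_le (isPGroup_core p _) hBR
  have hBo := odd_of_isPGroup hp hBp
  have hBa := hBR.trans (core_le _ _)
  have hB1 : B ≤ R1 G p a := fun y hyB => subset_closure ⟨hBR hyB, e, hi, hAH he, hy y hyB⟩
  have hBn := (hB1.trans h1).trans (core_nrm {p}ᶜ _).norm
  refine coprime_abelian_gen_cent1 hB hnc hBn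
    ((piGrp_core _ _).coprime_of_isPGroup hBp).symm fun y hyB hy1 => ?_
  set F := core {p}ᶜ (stabilizer G b) ⊓ 𝐂[y] with hF
  have hFX : F ≤ 𝐍(zpowers y) :=
    inf_le_right.trans (cent_zpowers y ▸ centralizer_le_normalizer' _)
  by_cases hX : 𝐍(zpowers y) ≤ stabilizer G a
  · exact hFX.trans hX
  have hc : y1 ∈ 𝐂[y] := mem_cent1.2 (isMulCommutative_iff.1 hB _ hyB _ hy1B)
  have heX := norm_zpowers_of_inv hi.sq (hy y hyB)
  have h2 := h.toGH.lemA (h.toGH.norm_ne_top (by simpa using hy1)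
    (h.toGH.ne_top (zpowers_le.2 (hBa hyB)))) heX hi (hAH he) hX
    (centralizer_le_normalizer' _ (cent_zpowers y ▸ hc)) (hBa hy1B) (odd_mem hBo hy1B) (hy y1 hy1B)
  have h3 : zpowers y1 ≤ 𝐍(F) := zpowers_le.2 (mem_norm_inf (hBn hy1B) (le_normalizer hc))
  have h4 : (Nat.card F).Coprime (Nat.card (zpowers y1)) :=
    (((piGrp_core _ _).of_le inf_le_left).coprime_of_isPGroup
      (isPGroup_of_le hBp (zpowers_le.2 hy1B))).symm
  rw [← coprime_cent_prod h3 h4 (sol_of_odd (odd_of_le (h.odd_compl hb b) inf_le_left)), cent_zpowers]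
  refine sup_le (h.toSE.dplus (odd_core _) hi (hAH he) ((core_nrm _ _).norm heX) h2 (hBa hy1B)
    (hy y1 hy1B) ((commutator_mono le_rfl (zpowers_le.2 h2)).trans
      (commutator_le_right_iff.2 (hFX.trans (core_nrm _ _).norm))) (coprime_commGid h3 h4).ge) ?_
  exact inf_le_right.trans (h.toSE.cent_special hi ⟨hA.ea u hu, hu1⟩ hy11 (odd_mem hBo hy1B)
    (hy y1 hy1B) huy (hAH he))

theorem core_conj_iff (π : Set ℕ) (a b : Ω) :
    core π (stabilizer G a) = ⊥ ↔ core π (stabilizer G b) = ⊥ := by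
  obtain ⟨g, rfl⟩ := h.tr a b
  rw [stab_conj, core_conj, conj_smul_eq_bot_iff]

theorem fit_le (hp : p ≠ 2) (hb : Bad G Ω p) {a b : Ω} (h1 : R1 G p a ≤ Dd G a b)
    (h2 : R1 G p b ≤ Dd G a b) (hne : core {p}ᶜ (stabilizer G b) ≠ ⊥) :
    fit (stabilizer G a) ≤ stabilizer G b := by
  refine fit_le_of_forall_core_le fun r _ _ => ?_
  by_cases hr : r = p
  · subst hr
    rw [← h.toGH.norm_eq hne (core_nrm _ _)]
    refine (le_centralizer_comm.1 (le_trans ?_ (h.core_le_cent hb h1 h2))).trans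
      (centralizer_le_normalizer' _)
    exact le_core ((core_nrm _ _).of_le (le_inf (h.core_compl_le hp hb (h1.trans inf_le_right))
      (core_le _ _)) inf_le_right) (piGrp_core _ _)
  · exact (core_mono_pi (by rintro _ rfl; exact hr) _).trans
      (h.core_compl_le hp hb (h2.trans inf_le_left))

theorem core_eq (hp : p ≠ 2) (hb : Bad G Ω p) {a b : Ω} (h1 : R1 G p a ≤ Dd G a b)
    (h2 : R1 G p b ≤ Dd G a b) (hne : core {p}ᶜ (stabilizer G b) ≠ ⊥) :
    core {p} (Dd G a b) = core {p} (stabilizer G a) := by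
  obtain ⟨s, E, hs, h3, h4, -, h5, h6⟩ := exists_nrm_isEA
    (sol_of_odd (h.odd_compl hb b)) (core_nrm _ _).norm hne
  have : Fact s.Prime := ⟨hs⟩
  have h7 : E ≤ core {s} (stabilizer G b) :=
    le_core_of_isPGroup ⟨h3.trans (core_le _ _), h4⟩ h6.isPGroup
  refine core_eq_of_fit (h.cent_fit hb a) (h.fit_le hp hb h1 h2 hne)
    (h.fit_le hp hb (by rwa [Dd, inf_comm]) (by rwa [Dd, inf_comm])
      (mt (h.core_conj_iff _ a b).1 hne)) (s := s) ?_ ?_
  · exact ((piGrp_core _ _).of_le h3) s hs (dvd_card_of_isPGroup h6.isPGroup h5)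
  · exact (centralizer_le_normalizer' _).trans
      (h.toGH.norm_eq (fun e => h5 (le_bot_iff.1 (e ▸ h7))) (core_nrm _ _)).le

theorem sylow_H (hp : p ≠ 2) {U : Subgroup G} (hU : Max3 Ω p U) {a b : Ω} (hab : a ≠ b)
    (hle : U ≤ Dd G a b) (hF : core {p}ᶜ (Dd G a b) = ⊥) {R : Subgroup G} (hR : IsPGroup p R)
    (hne : R ≠ ⊥) (hRD : R ≤ Dd G a b) :
    ∃ P, IsSylowIn p P (Dd G a b) ∧ IsSylowIn p P (stabilizer G a) := by
  by_cases hS : IsSylowIn p U (Dd G a b)
  swap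
  · obtain ⟨P, h1, h2⟩ := hU.two hab hle hS
    exact ⟨P, h2, h1.sylow' hp h2⟩
  refine ⟨U, hS, ?_⟩
  have hU1 : U ≠ ⊥ := fun e => (isSylowIn_eq_bot_iff hS).1 e
    ((dvd_card_of_isPGroup hR hne).trans (card_dvd_of_le hRD))
  have hD := h.toSE.odd_Dd hab
  have h1 := Puig_center_normal hD (sol_of_odd hD) hS hF
  set X := 𝐍(cen (puig U)) with hX
  have h2 : 𝐍(U) ≤ X := (center_Puig_char U).norm_le
  obtain ⟨z, hzU, hz, hza⟩ := h.toSE.exists_iv_norm hp hU (hle.trans inf_le_left)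
  obtain ⟨t, htU, ht, rfl⟩ := h.toSE.typeS hab hS
  obtain ⟨N, B⟩ := h.toGH.bt' (X := X) (a := a) (h.toGH.norm_ne_top
    (fun e => hU1 (trivg_center_Puig_pgroup hU.pg e)) (h.toGH.ne_top (h1.le.trans inf_le_left)))
    (fun v hv hva => by
      obtain ⟨d, hd, rfl⟩ := h.toSE.exists_conj_D hz hv hza hva hab
      exact mul_mem (mul_mem (h1.norm hd) (h2 hzU)) (inv_mem (h1.norm hd)))
    fun e => hab (e (h2 htU)).symm
  have h4 := isSylowIn_trans_of_not_dvd (hS.of_le (le_inf (hle.trans h1.norm) hle) inf_le_right)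
    (inf_le_inf_left _ inf_le_left) (B.not_dvd hp (h2 htU) hab.symm)
  exact isSylowIn_iff_normalizer.1 (h4.of_le (le_inf (hle.trans inf_le_left) le_normalizer)
    (le_inf (inf_le_right.trans h2) inf_le_left))

theorem amalgam (hp : p ≠ 2) (hb : Bad G Ω p) (h0 : ∀ x : Ω, core {p}ᶜ (stabilizer G x) = ⊥)
    (hc : ∀ (x : Ω) (B : Subgroup G), IsPGroup p B → B ⊴ stabilizer G x → IsMulCommutative B →
      ¬ Odd (Nat.card ↥(stabilizer G x ⊓ 𝐂(B)))) {a b : Ω} (hab : a ≠ b)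
    (h1 : core {p} (stabilizer G a) ≤ stabilizer G b)
    (h2 : core {p} (stabilizer G b) ≤ stabilizer G a) : False := by
  let T : Ω → Subgroup G := fun x => core {p} (stabilizer G x)
  have hTn : ∀ x, T x ⊴ stabilizer G x := fun x => core_nrm _ _
  have hZn : ∀ x, cen (T x) ⊴ stabilizer G x := fun x => (cen_chr _).nrm_trans (hTn x)
  have hZp : ∀ x, IsPGroup p (cen (T x)) := fun x => isPGroup_of_le (isPGroup_core _ _) (cen_le _)
  have hI : ∀ (x : Ω) (B : Subgroup G), IsPGroup p B → B ⊴ stabilizer G x → IsMulCommutative B →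
      ∀ v, Iv v → v • x = x → v ∈ 𝐂(B) := fun x B h3 h4 h5 v hv hvx =>
    (h.mem_nrm (Nrm.cent h4.norm) (hc x B h3 h4 h5) hv hvx).2
  have adj : ∀ x y, T x ≤ stabilizer G y → T y ≤ stabilizer G x → cen (T x) ≤ T y := by
    intro x y h3 h4
    obtain ⟨A, hA⟩ := h.na y
    have h5 := ps hp hA (isPGroup_core p _) (hTn y) (odd_cent hb y) (hZp x) ((cen_le _).trans h3) (by
      rw [FT.commutator_eq_bot_iff, le_centralizer_comm]
      exact (commutator_le_right_iff.2 (h4.trans (hZn x).norm)).trans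
        (isMulCommutative_iff_le_cent.1 (isMulCommutative_cen _)))
    have hC := Nrm.cent (hTn y).norm
    exact h5.trans (le_core (coreMod_nrm _ _ _) (piGrp_of_relIndex (le_coreMod_self hC _)
      ((piGrp_core _ _).of_le (h.cent_core hb (h0 y))) (piNat_relIndex_coreMod hC _)))
  have comm : ∀ x y, T x ≤ stabilizer G a → T a ≤ stabilizer G x → T y ≤ stabilizer G a →
      T a ≤ stabilizer G y → cen (T x) ≤ 𝐂(cen (T y)) := by
    intro x y h3 h4 h5 h6
    by_cases hxy : x = y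
    · exact hxy ▸ isMulCommutative_iff_le_cent.1 (isMulCommutative_cen _)
    by_contra hn
    rw [← FT.commutator_eq_bot_iff] at hn
    obtain ⟨e, he, he1⟩ := exists_nt_of_ne_bot hn
    have hey : e ∈ cen (T y) := commutator_le_left_iff.2 (((adj x a h3 h4).trans h6).trans (hZn y).norm) he
    have hex : e ∈ cen (T x) := commutator_le_right_iff.2 (((adj y a h5 h6).trans h4).trans (hZn x).norm) he
    have hY : 𝐂[e] ≠ ⊤ := fun e' => h.toGH.norm_ne_top (X := zpowers e) (by simpa using he1)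
      (h.toGH.ne_top (zpowers_le.2 ((hZn x).le hex)))
      (top_le_iff.1 (e' ▸ cent_zpowers e ▸ centralizer_le_normalizer' _))
    have hIe : ∀ w, e ∈ cen (T w) → ∀ v, Iv v → v • w = w → v ∈ 𝐂[e] := fun w hw v hv hvw =>
      cent_le_cent1 hw (hI w _ (hZp w) (hZn w) (isMulCommutative_cen _) v hv hvw)
    have key : ∀ x y, x ≠ y → e ∈ cen (T x) → e ∈ cen (T y) → T x ≤ stabilizer G y := by
      intro x y hxy hx hy
      obtain ⟨u, hu, hux⟩ := h.toSE.exists_iv_fix x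
      obtain ⟨v, hv, hvy⟩ := h.toSE.exists_iv_fix y
      obtain ⟨τ, -, -, rfl, h7⟩ := h.toSE.exists_mid hu hv hux hvy hxy
      have h8 := h7 _ (hIe x hx u hu hux) (hIe _ hy v hv hvy)
      obtain ⟨N, B⟩ := h.toGH.bt' hY (hIe x hx) fun e => hxy (e h8).symm
      exact B.nrm_le hp h8 (Ne.symm hxy) (isPGroup_core _ _) ((hTn x).of_le (le_inf (cent_zpowers e ▸
        le_centralizer_comm.1 (zpowers_le.2 (cen_le_cent _ hx))) (hTn x).le) inf_le_right)
    refine hn (FT.commutator_eq_bot_iff.2 ?_)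
    exact (adj x y (key x y hxy hex hey) (key y x (Ne.symm hxy) hey hex)).trans
      (le_centralizer_comm.1 (cen_le_cent _))
  set V := ⨆ (x : Ω) (_ : T x ≤ stabilizer G a ∧ T a ≤ stabilizer G x), cen (T x) with hV
  have hVT : V ≤ T a := iSup₂_le fun x hx => adj x a hx.1 hx.2
  have hVn : V ⊴ stabilizer G a := ⟨hVT.trans (hTn a).le, fun g hg => mem_normalizer_of_conj_mem
    fun v hv => by
      have : MulAut.conj g • V ≤ V := by
        rw [← inv_inv g, ← le_conj_smul_iff]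
        refine iSup₂_le fun x hx => ?_
        rw [le_conj_smul_iff, inv_inv, ← cen_conj, ← core_conj, ← stab_conj]
        refine le_iSup₂_of_le (g • x) ⟨?_, ?_⟩ le_rfl
        · change core {p} (stabilizer G (g • x)) ≤ _
          rw [stab_conj, core_conj, ← show g • a = a from hg]
          exact conj_le_stab hx.1 g
        · exact le_stab_of_norm hx.2 ((hTn a).norm hg)
      exact this (conj_mem_conj_smul g hv)⟩
  have hVa : IsMulCommutative V := isMulCommutative_iff_le_cent.2 (iSup₂_le fun x hx =>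
    le_centralizer_comm.1 (iSup₂_le fun y hy => comm y x hy.1 hy.2 hx.1 hx.2))
  obtain ⟨z, hz, hza⟩ := h.toSE.exists_iv_fix a
  have h3 := cent_anti (le_iSup₂_of_le b ⟨h2, h1⟩ le_rfl : cen (T b) ≤ V)
    (hI a V (isPGroup_of_le (isPGroup_core _ _) hVT) hVn hVa z hz hza)
  have h4 := centralizer_le_normalizer' _ h3
  rw [h.toGH.norm_eq (cen_ne_bot (isNilpotent_of_isPGroup (isPGroup_core _ _))
    fun e => h.R1_ne_bot hb b (le_bot_iff.1 (e ▸ R1_le p b))) (hZn b)] at h4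
  exact hab (h.un z hz a b hza h4)

theorem not_bad (hp : p ≠ 2) : ¬ Bad G Ω p := by
  intro hb
  obtain ⟨U, hU, -⟩ := exists_max3 (Ω := Ω) (p := p) (V := (⊥ : Subgroup G)) IsPGroup.of_bot
    h.fix3_bot
  obtain ⟨a, b, -, hab, -, -, ha, hb', -⟩ := hU.f3
  have h1 := h.R1_le_D hp hU hab (le_inf ha hb')
  have h2 := h.R1_le_D hp hU hab.symm (le_inf hb' ha)
  have hR := h.R1_ne_bot hb a
  by_cases hne : core {p}ᶜ (stabilizer G a) = ⊥
  · have h3 := h.core_le_cent hb h1 (by rwa [Dd, inf_comm])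
    have hF : core {p}ᶜ (Dd G a b) = ⊥ := by
      rw [← le_bot_iff, ← (piGrp_core {p} (stabilizer G a)).inf_eq_bot (piGrp_core _ (Dd G a b))]
      exact le_inf ((le_inf ((core_le _ _).trans inf_le_left) h3).trans (h.cent_core hb hne)) le_rfl
    have hRp : IsPGroup p (R1 G p a) := isPGroup_of_le (isPGroup_core _ _) (R1_le p a)
    obtain ⟨P, hP, hP'⟩ := h.sylow_H hp hU hab (le_inf ha hb') hF hRp hR h1
    obtain ⟨t, ht, htab⟩ := h.toSE.exists_swap hab
    have hD := h.toSE.odd_Dd hab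
    obtain ⟨Q, hQ, htQ⟩ := sol_coprime_Sylow_exists p
      (zpowers_le.2 (swap_norm htab (smul_back ht.sq htab))) (coprime_iv ht hD)
      (Or.inr (sol_of_odd hD))
    have hQ1 : Q ≠ ⊥ := fun e => (isSylowIn_eq_bot_iff hQ).1 e
      ((dvd_card_of_isPGroup hRp hR).trans (card_dvd_of_le h1))
    have hQa := sylow_of_sylow hP hP' hQ inf_le_left
    by_cases hc : ∀ (x : Ω) (B : Subgroup G), IsPGroup p B → B ⊴ stabilizer G x →
        IsMulCommutative B → ¬ Odd (Nat.card ↥(stabilizer G x ⊓ 𝐂(B)))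
    · have hQb := hQa.conj_smul t
      rw [← stab_conj, htab, mem_normalizer_iff_conj_smul_eq.1 (htQ (mem_zpowers t))] at hQb
      exact h.amalgam hp hb (fun x => (h.core_conj_iff _ a x).1 hne) hc hab
        ((core_le_of_isSylowIn hQa).trans (hQ.le.trans inf_le_right))
        ((core_le_of_isSylowIn hQb).trans (hQ.le.trans inf_le_left))
    push Not at hc
    obtain ⟨x, B, h4, h5, h6, h7⟩ := hc
    obtain ⟨g, rfl⟩ := h.tr x a
    obtain ⟨A, hA⟩ := h.na (g • x)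
    have hC := Nrm.cent (core_nrm {p} (stabilizer G (g • x))).norm
    have h8 := h.toGH.norm_eq (fun e => hQ1 (trivg_center_Puig_pgroup hQ.isPGroup e))
      (gen_Puig hp hA hQa (inf_le_right.trans (le_core (coreMod_nrm _ _ _) (piGrp_of_relIndex
        (le_coreMod_self hC _) ((piGrp_core _ _).of_le (h.cent_core hb hne))
        (piNat_relIndex_coreMod hC _)))) (isPGroup_conj_smul h4 g) (stab_conj g x ▸ h5.conj_smul g)
        (isMulCommutative_conj_smul h6 g) (by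
          rwa [stab_conj, centralizer_conj_smul, ← smul_inf, card_conj_smul]))
    have h9 : t ∈ stabilizer G (g • x) := h8 ▸ (center_Puig_char Q).norm_le (htQ (mem_zpowers t))
    exact hab ((show t • g • x = g • x from h9).symm.trans htab)
  · have h3 := h.core_eq hp hb h1 (by rwa [Dd, inf_comm]) (mt (h.core_conj_iff _ a b).2 hne)
    have h4 := h.core_eq hp hb h2 (by rwa [Dd, inf_comm]) hne
    rw [Dd, inf_comm, ← Dd, h3] at h4
    have h5 : core {p} (stabilizer G a) ≠ ⊥ := fun e => hR (le_bot_iff.1 (e ▸ R1_le p a))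
    obtain ⟨z, hz, hza⟩ := h.toSE.exists_iv_fix a
    have h6 : z ∈ stabilizer G b := by
      rw [← h.toGH.norm_eq (h4 ▸ h5) (core_nrm _ _), ← h4, h.toGH.norm_eq h5 (core_nrm _ _)]
      exact hza
    exact hab (h.un z hz a b hza h6)

omit [Fact p.Prime] in
theorem core_le_cent_iv {a : Ω} {z : G} (hz : Iv z) (hza : z • a = a) :
    core {2}ᶜ (stabilizer G a) ≤ 𝐂[z] := by
  have hO : Odd (Nat.card (core {2}ᶜ (stabilizer G a))) := odd_core _
  rw [← cent_zpowers, le_centralizer_comm]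
  refine coprime_cent_Fitting (zpowers_le.2 ((core_nrm _ _).norm hza)) (coprime_iv hz hO)
    (sol_of_odd hO) (le_centralizer_comm.1 (fit_le_of_forall_core_le fun r hr hd => ?_))
  have : Fact r.Prime := ⟨hr⟩
  refine (core_le_core_of_nrm _ (core_nrm _ _)).trans ?_
  rw [cent_zpowers]
  by_contra hn
  refine h.not_bad (p := r) (piGrp_core _ _ r hr hd) fun a' z' hz' hza' e => hn ?_
  obtain ⟨g, rfl⟩ := h.toGH.conj_top hz hz'
  rw [← h.toSE.smul_eq_of_conj hz' hza hza' rfl, stab_conj, core_conj, cent1_conj_smul] at e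
  exact conj_smul_le_iff.1 e

end GN

/-- no bad elements -/
theorem GH.nb (h : GH G Ω) : NB G Ω := by
  by_cases ny : NY G Ω
  · exact h.nb_of_ny ny
  intro t y c a ht hc ho hi hyc _ _
  obtain ⟨j, hj, e⟩ := exists_half ht.sq ho hi
  have h1 := (h.gn ny).comm_mem ht hc (zpowers_le.2 (show y ∈ stabilizer G c from hyc) hj) (e ▸ ho)
  rw [e] at h1
  exact eq_one_of_inv_cent ht.sq ho hi ((h.gn ny).core_le_cent_iv ht hc h1)

end Cfsg.Agent.Bender
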