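import Cfsg.Agent.Bender.G12
import Cfsg.Agent.Bender.G8

/-! The general theorem on strongly embedded subgroups. -/

set_option autoImplicit false

namespace Cfsg.Agent.Bender

open Subgroup MulAction Cfsg.Agent.Local Cfsg.Agent.FT Cfsg.Agent.Suz2T
open scoped Pointwise commutatorElement

universe u

theorem step9' : Step9.{u} := by
  intro G Ω _ _ _ a b K s R z hz hza c hc w hw hwa
  have S := R.toSE
  obtain ⟨A, hA, -, -, hAc⟩ := exists_A R.comm
  obtain ⟨t, ht, hta⟩ := S.exists_swap R.ne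
  have htb := smul_back ht.sq hta
  have htK : t ∈ 𝐍(K) := (R.norm t).2 (Or.inr ⟨hta, htb⟩)
  have hKt : K ⊓ 𝐂[t] = ⊥ := eq_bot_iff.2 fun k hk => mem_bot.2 (by_contra fun e =>
    ht.not_mem (S.odd_Dd R.ne) (R.le (R.cent k hk.1 e (mem_cent1.2 (mem_cent1.1 hk.2).symm))))
  have hKD : K ⊴ Dd G a b := ⟨R.le, fun g hg => (R.norm g).2 (Or.inl hg)⟩
  obtain ⟨hinv, hinv'⟩ := inverted_of (S.odd_Dd R.ne) ht.sq (swap_norm hta htb) hKD htK hKt
  have hm : 0 < (Ts G a a).ncard := (Set.ncard_pos).2 ⟨z, hz, hza⟩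
  have hV : Nat.card ↥(Dd G a b ⊓ 𝐂[t]) = s := by
    have h1 := card_inf_mul_relIndex 𝐂[t] (Dd G a b)
    have h2 := card_inf_mul_relIndex 𝐂[z] (Dd G a b)
    rw [S.relIndex_T' ht hta R.ne, inf_comm] at h1
    rw [S.relIndex_I hz hza R.ne, inf_comm, R.cardC z hz hza] at h2
    exact Nat.eq_of_mul_eq_mul_right hm (h1.trans h2.symm)
  have : Fact s.Prime := ⟨R.prime⟩
  obtain ⟨y, hy⟩ := (isCyclic_of_prime_card hV).exists_generator
  have hy' : Dd G a b ⊓ 𝐂[t] = zpowers y.1 := le_antisymm (fun x hx => by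
    obtain ⟨n, hn⟩ := hy ⟨x, hx⟩
    exact ⟨n, congrArg Subtype.val hn⟩) (zpowers_le.2 y.2)
  have hyo : orderOf y.1 = s := by rw [← Nat.card_zpowers, ← hy', hV]
  refine step9 S R.ne (fun c c' h h' => ?_) R.prime R.odd hA (hAc.trans R.cardI) ht hta
    (fun k => ⟨fun h => ⟨R.le h, hinv k h⟩, fun h => ?_⟩) R.ab R.ktwo hyo hy' ?_ z
    ((hA z).2 ⟨hz.sq, hza⟩) hz.ne c hc w ((hA w).2 ⟨hw.sq, hwa⟩)
  · obtain ⟨g, h1, rfl⟩ := R.two c h
    obtain ⟨g', h2, rfl⟩ := R.two c' h'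
    exact ⟨g' * g⁻¹, by rw [mul_smul, inv_smul_eq_iff.2 h1.symm, h2], by
      rw [mul_smul, inv_smul_smul]⟩
  · obtain ⟨k0, hk0, e⟩ := (bot_or_exists_ne_one K).resolve_left fun e => by
      have h1 := R.cardK
      have h2 := R.cardI
      rw [e, card_bot] at h1
      rw [← h1] at h2
      exact R.prime.ne_one (Nat.pow_right_injective le_rfl (h2.symm.trans (pow_one 2).symm))
    have h1 := hinv' (commutator_mem_commutator h.1 (mem_zpowers t))
    rw [commutatorElement_def, ht.inv, show k * t * k⁻¹ * t = k * (t * k * t)⁻¹ by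
      simp [ht.inv, mul_assoc], h.2, inv_inv, ← sq] at h1
    exact zpowers_le.2 (R.cent k0 hk0 e (mem_cent1.2 (h1 k0 hk0)))
      (mem_zpowers_pow_iff.2 (Nat.coprime_two_left.2 (odd_mem (S.odd_Dd R.ne) h.1)))
  · refine eq_bot_iff.2 fun k hk => mem_bot.2 (by_contra fun e => ?_)
    have h1 := R.cent k hk.1 e (mem_cent1.2 (mem_cent1.1 hk.2).symm)
    have h2 := mem_bot.1 (hKt.le ⟨h1, y.2.2⟩)
    rw [h2, orderOf_one] at hyo
    exact R.prime.ne_one hyo.symm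

theorem genHyp : GenHyp.{u} := genHyp_of_step9 step9'

theorem general {G Ω : Type u} [Group G] [Finite G] [MulAction G Ω] [FaithfulSMul G Ω]
    (S : SE G Ω) (h4 : Four G) (hne : ∃ a b : Ω, a ≠ b) : Nonempty (MS G Ω) :=
  genHyp G Ω S h4 hne

end Cfsg.Agent.Bender
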